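import Cfsg.Agent.C6Dim4.Frame

/-!
The action of the normaliser on the sixteen lines spanned by the frame.
-/

set_option autoImplicit false
set_option linter.unusedSectionVars false
set_option linter.style.haveILetI false

open Matrix

namespace Cfsg.Agent.C6Dim4

variable {F : Type*} [Field F] [Fintype F] {ι : Type} [Fintype ι] [DecidableEq ι]

theorem IsSc.mul {g h : GL ι F} (hg : IsSc g) (hh : IsSc h) : IsSc (g * h) := by
  obtain ⟨c, hc⟩ := hg
  obtain ⟨d, hd⟩ := hh
  exact ⟨c * d, by simp [hc, hd, smul_smul, mul_comm]⟩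

theorem isSc_neg_one : IsSc (-1 : GL ι F) := isSc_one.neg

/-- The matrices commuting with `g`. -/
noncomputable def centr (g : Matrix ι ι F) : Submodule F (Matrix ι ι F) :=
  LinearMap.ker (LinearMap.mulLeft F g - LinearMap.mulRight F g)

theorem mem_centr {g X : Matrix ι ι F} : X ∈ centr g ↔ g * X = X * g := by
  simp [centr, sub_eq_zero]

theorem centr_smul {g : Matrix ι ι F} {c : F} (hc : c ≠ 0) : centr (c • g) = centr g := by
  ext X
  simp [mem_centr, Matrix.smul_mul, Matrix.mul_smul, (smul_right_injective (Matrix ι ι F) hc).eq_iff]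

theorem finrank_centr_conj (P g : GL ι F) :
    Module.finrank F (centr ((P * g * P⁻¹ : GL ι F) : Matrix ι ι F)) = Module.finrank F (centr (g : Matrix ι ι F)) := by
  have key : ∀ (P g : GL ι F), Module.finrank F (centr (g : Matrix ι ι F)) ≤
      Module.finrank F (centr ((P * g * P⁻¹ : GL ι F) : Matrix ι ι F)) := fun P g => by
    let f : centr (g : Matrix ι ι F) →ₗ[F] centr ((P * g * P⁻¹ : GL ι F) : Matrix ι ι F) :=
      LinearMap.codRestrict _ ((LinearMap.mulLeft F (P : Matrix ι ι F) ∘ₗ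
        LinearMap.mulRight F ((P⁻¹ : GL ι F) : Matrix ι ι F)).comp (Submodule.subtype _)) fun X => by
          have hX := mem_centr.1 X.2
          rw [mem_centr]
          simp only [LinearMap.comp_apply, LinearMap.mulLeft_apply, LinearMap.mulRight_apply, Submodule.subtype_apply,
            Units.val_mul, mul_assoc, Units.inv_mul_cancel_left]
          rw [← mul_assoc (g : Matrix ι ι F), hX, mul_assoc]
    refine LinearMap.finrank_le_finrank_of_injective (f := f) fun X Y h => Subtype.ext ?_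
    have h' := congrArg Subtype.val h
    simp only [f, LinearMap.codRestrict_apply, LinearMap.comp_apply, LinearMap.mulLeft_apply,
      LinearMap.mulRight_apply, Submodule.subtype_apply] at h'
    exact P⁻¹.isUnit.mul_right_cancel (P.isUnit.mul_left_cancel h')
  refine le_antisymm ?_ (key P g)
  have h := key P⁻¹ (P * g * P⁻¹)
  rwa [show P⁻¹ * (P * g * P⁻¹) * P⁻¹⁻¹ = g by group] at h

theorem three_in_two {α : Type*} (h : Nat.card α = 2) {a b c : α} (hab : a ≠ b) (hac : a ≠ c) (hbc : b ≠ c) :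
    False := by
  classical
  obtain ⟨x, y, -, hu⟩ := Nat.card_eq_two_iff.1 h
  have hm : ∀ q : α, q = x ∨ q = y := fun q => by
    have : q ∈ ({x, y} : Set α) := hu ▸ Set.mem_univ q
    simpa using this
  rcases hm a with rfl | rfl <;> rcases hm b with rfl | rfl <;> rcases hm c with rfl | rfl <;> contradiction

namespace Frame

variable {R : Subgroup (GL ι F)} (Φ : Frame R)

include Φ

theorem nonempty : Nonempty ι := Fintype.card_pos_iff.1 (by rw [Φ.card4]; norm_num)

theorem inv_sc {u : GL ι F} (hu : u ∈ R) : IsSc (u * u) := by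
  rcases Φ.sqr u hu with h | h <;> rw [h]
  exacts [isSc_one, isSc_neg_one]

open scoped Classical in
/-- Which of the four involutions fail to commute with `u`. -/
noncomputable def sig (u : GL ι F) : Fin 4 → Bool :=
  fun j => decide (u * Φ.γ j.castSucc ≠ Φ.γ j.castSucc * u)

theorem sig_tw {u : GL ι F} (hu : u ∈ R) (j : Fin 4) : Tw u (Φ.γ j.castSucc) (Φ.sig u j) := by
  by_cases h : u * Φ.γ j.castSucc = Φ.γ j.castSucc * u
  · have : Φ.sig u j = false := by simp [sig, h]
    rw [this]; exact h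
  · have : Φ.sig u j = true := by simp [sig, h]
    rw [this]; exact (Φ.cc u hu _ (Φ.mem _)).resolve_left h

theorem sig_eq {u : GL ι F} (hu : u ∈ R) {s : Fin 4 → Bool} (h : ∀ j, Tw u (Φ.γ j.castSucc) (s j)) :
    Φ.sig u = s :=
  haveI := Φ.nonempty
  funext fun j => (Φ.sig_tw hu j).unique Φ.h2 (h j)

/-- The sum of two sign vectors. -/
def add (s t : Fin 4 → Bool) : Fin 4 → Bool := fun j => xor (s j) (t j)

theorem sig_mul {u v : GL ι F} (hu : u ∈ R) (hv : v ∈ R) : Φ.sig (u * v) = add (Φ.sig u) (Φ.sig v) :=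
  Φ.sig_eq (mul_mem hu hv) fun j => (Φ.sig_tw hu j).mul (Φ.sig_tw hv j)

theorem sig_sc {u : GL ι F} (hu : u ∈ R) (h : IsSc u) : Φ.sig u = fun _ => false :=
  Φ.sig_eq hu fun _ => h.comm _

theorem sc_of_sig {u : GL ι F} (hu : u ∈ R) (h : Φ.sig u = fun _ => false) : IsSc u :=
  Φ.scal u hu fun j => by simpa [h, Tw, sgn] using Φ.sig_tw hu j

theorem sig_inv {u : GL ι F} (hu : u ∈ R) : Φ.sig u⁻¹ = Φ.sig u := by
  have h := Φ.sig_mul (inv_mem hu) hu
  rw [inv_mul_cancel, Φ.sig_sc (one_mem _) isSc_one] at h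
  funext j
  have := congrFun h j
  revert this
  simp only [add]
  cases Φ.sig u⁻¹ j <;> cases Φ.sig u j <;> simp

/-- The product of `γ₄` and `γᵢ`, anticommuting with `γᵢ` only. -/
def dlt (i : Fin 4) : GL ι F := Φ.γ (Fin.last 4) * Φ.γ i.castSucc

theorem dlt_tw (i j : Fin 4) : Tw (Φ.dlt i) (Φ.γ j.castSucc) (decide (i = j)) := by
  have he : Tw (Φ.γ (Fin.last 4)) (Φ.γ j.castSucc) true := Φ.anti _ _ (Fin.castSucc_lt_last j).ne'
  by_cases hij : i = j
  · subst hij
    simpa [dlt] using he.mul (show Tw (Φ.γ i.castSucc) (Φ.γ i.castSucc) false by simp [Tw, sgn])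
  · simpa [dlt, hij] using he.mul (show Tw (Φ.γ i.castSucc) (Φ.γ j.castSucc) true from
      Φ.anti _ _ fun h => hij (Fin.castSucc_injective _ h))

/-- The standard representative with signs `s`. -/
def rep (s : Fin 4 → Bool) : GL ι F :=
  (if s 0 then Φ.dlt 0 else 1) * (if s 1 then Φ.dlt 1 else 1) * (if s 2 then Φ.dlt 2 else 1) *
    (if s 3 then Φ.dlt 3 else 1)

theorem rep_mem (s : Fin 4 → Bool) : Φ.rep s ∈ R := by
  have : ∀ b : Bool, ∀ i, (if b then Φ.dlt i else 1) ∈ R := fun b i => by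
    cases b
    exacts [one_mem _, mul_mem (Φ.mem _) (Φ.mem _)]
  exact mul_mem (mul_mem (mul_mem (this _ _) (this _ _)) (this _ _)) (this _ _)

theorem sig_rep (s : Fin 4 → Bool) : Φ.sig (Φ.rep s) = s := by
  refine Φ.sig_eq (Φ.rep_mem s) fun j => ?_
  have hp : ∀ i, Tw (if s i then Φ.dlt i else 1) (Φ.γ j.castSucc) (s i && decide (i = j)) := fun i => by
    cases s i
    exacts [tw_one _, Φ.dlt_tw i j]
  have h := (((hp 0).mul (hp 1)).mul (hp 2)).mul (hp 3)
  fin_cases j <;> simpa [rep] using h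

theorem decomp {u : GL ι F} (hu : u ∈ R) : IsSc (u * (Φ.rep (Φ.sig u))⁻¹) := by
  refine Φ.sc_of_sig (mul_mem hu (inv_mem (Φ.rep_mem _))) ?_
  rw [Φ.sig_mul hu (inv_mem (Φ.rep_mem _)), Φ.sig_inv (Φ.rep_mem _), Φ.sig_rep]
  funext j
  simp [add]

/-- The coordinate along `rep s`. -/
noncomputable def coord (s : Fin 4 → Bool) : Matrix ι ι F →ₗ[F] F :=
  Matrix.traceLinearMap ι F F ∘ₗ LinearMap.mulLeft F (((Φ.rep s)⁻¹ : GL ι F) : Matrix ι ι F)

theorem coord_rep (s t : Fin 4 → Bool) :
    Φ.coord s (Φ.rep t : Matrix ι ι F) = if s = t then (4 : F) else 0 := by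
  simp only [coord, LinearMap.comp_apply, LinearMap.mulLeft_apply, Matrix.traceLinearMap_apply, ← Units.val_mul]
  split_ifs with h
  · subst h
    rw [inv_mul_cancel, Units.val_one, Matrix.trace_one, Φ.card4]
    norm_num
  · have hu : (Φ.rep s)⁻¹ * Φ.rep t ∈ R := mul_mem (inv_mem (Φ.rep_mem _)) (Φ.rep_mem _)
    obtain ⟨j, hj⟩ : ∃ j, s j ≠ t j := Function.ne_iff.1 h
    refine trace_eq_zero Φ.h2 (γ := Φ.γ j.castSucc) ?_
    have := Φ.sig_tw hu j
    rw [Φ.sig_mul (inv_mem (Φ.rep_mem _)) (Φ.rep_mem _), Φ.sig_inv (Φ.rep_mem _), Φ.sig_rep, Φ.sig_rep] at this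
    rw [show add s t j = true by revert hj; simp only [add]; cases s j <;> cases t j <;> simp] at this
    exact this

theorem four_ne : (4 : F) ≠ 0 := by
  rw [show (4 : F) = 2 * 2 by norm_num]; exact mul_ne_zero Φ.h2 Φ.h2

theorem ext_coord {X : Matrix ι ι F} (h : ∀ s, Φ.coord s X = 0) : X = 0 := by
  classical
  have hli : LinearIndependent F fun s => (Φ.rep s : Matrix ι ι F) := by
    rw [Fintype.linearIndependent_iff]
    intro a ha s
    have := congrArg (Φ.coord s) ha
    simp only [map_sum, map_smul, Φ.coord_rep, map_zero, smul_eq_mul, mul_ite, mul_zero, Finset.sum_ite_eq,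
      Finset.mem_univ, if_true] at this
    exact (mul_eq_zero.1 this).resolve_right Φ.four_ne
  have hspan := hli.span_eq_top_of_card_eq_finrank (by
    rw [Module.finrank_matrix, Module.finrank_self, Φ.card4]; simp)
  obtain ⟨a, ha⟩ := (Submodule.mem_span_range_iff_exists_fun F).1 (hspan ▸ Submodule.mem_top : X ∈ _)
  have ha0 : ∀ s, a s = 0 := fun s => by
    have := h s
    rw [← ha] at this
    simp only [map_sum, map_smul, Φ.coord_rep, smul_eq_mul, mul_ite, mul_zero, Finset.sum_ite_eq,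
      Finset.mem_univ, if_true] at this
    exact (mul_eq_zero.1 this).resolve_right Φ.four_ne
  rw [← ha]
  simp [ha0]

variable {g : GL ι F}

theorem conj_mem (hg : g ∈ Geo.subgroupNormalizer R) {u : GL ι F} (hu : u ∈ R) : g * u * g⁻¹ ∈ R :=
  (Subgroup.mem_normalizer_iff.1 hg u).1 hu

/-- The permutation of sign vectors induced by `g`. -/
noncomputable def act (g : GL ι F) (s : Fin 4 → Bool) : Fin 4 → Bool := Φ.sig (g * Φ.rep s * g⁻¹)

theorem act_sig (hg : g ∈ Geo.subgroupNormalizer R) {u : GL ι F} (hu : u ∈ R) :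
    Φ.act g (Φ.sig u) = Φ.sig (g * u * g⁻¹) := by
  have hz := Φ.decomp hu
  have hzR : u * (Φ.rep (Φ.sig u))⁻¹ ∈ R := mul_mem hu (inv_mem (Φ.rep_mem _))
  have e : g * u * g⁻¹ = u * (Φ.rep (Φ.sig u))⁻¹ * (g * Φ.rep (Φ.sig u) * g⁻¹) := by
    rw [← mul_assoc, ← mul_assoc, hz.comm g]
    group
  rw [e, Φ.sig_mul hzR (Φ.conj_mem hg (Φ.rep_mem _)), Φ.sig_sc hzR hz]
  funext j
  simp [add, act]

theorem act_iterate (hg : g ∈ Geo.subgroupNormalizer R) (k : ℕ) (s : Fin 4 → Bool) :
    (Φ.act g)^[k] s = Φ.sig (g ^ k * Φ.rep s * (g ^ k)⁻¹) := by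
  induction k with
  | zero => simp [Φ.sig_rep]
  | succ k ih =>
    rw [Function.iterate_succ_apply', ih, Φ.act_sig hg (Φ.conj_mem (pow_mem hg k) (Φ.rep_mem s)), pow_succ']
    congr 1
    group

theorem act_bij (hg : g ∈ Geo.subgroupNormalizer R) : Function.Bijective (Φ.act g) := by
  refine Function.Injective.bijective_of_finite fun s t h => ?_
  have e : ∀ u, Φ.act g⁻¹ (Φ.act g u) = u := fun u => by
    rw [act, act, ← act, act_sig Φ (inv_mem hg) (Φ.conj_mem hg (Φ.rep_mem u))]
    rw [show g⁻¹ * (g * Φ.rep u * g⁻¹) * g⁻¹⁻¹ = Φ.rep u by group, Φ.sig_rep]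
  rw [← e s, h, e t]

/-- The permutation. -/
noncomputable def perm (hg : g ∈ Geo.subgroupNormalizer R) : Equiv.Perm (Fin 4 → Bool) :=
  Equiv.ofBijective _ (Φ.act_bij hg)

theorem perm_pow (hg : g ∈ Geo.subgroupNormalizer R) {r : ℕ} (h : IsSc (g ^ r)) : Φ.perm hg ^ r = 1 := by
  refine Equiv.ext fun s => ?_
  rw [Equiv.Perm.coe_pow]
  show (Φ.act g)^[r] s = s
  rw [Φ.act_iterate hg, h.comm, mul_inv_cancel_right, Φ.sig_rep]

theorem fixed_comm (hg : g ∈ Geo.subgroupNormalizer R) {r : ℕ} (hr : Odd r) (h : IsSc (g ^ r)) {v : GL ι F}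
    (hv : v ∈ R) (hfix : Φ.act g (Φ.sig v) = Φ.sig v) : g * v = v * g := by
  set z := g * v * g⁻¹ * v⁻¹ with hz
  have hzR : z ∈ R := mul_mem (Φ.conj_mem hg hv) (inv_mem hv)
  have hzs : IsSc z := Φ.sc_of_sig hzR (by
    rw [hz, Φ.sig_mul (Φ.conj_mem hg hv) (inv_mem hv), ← Φ.act_sig hg hv, hfix, Φ.sig_inv hv]
    funext j; simp [add])
  have hzv : g * v * g⁻¹ = z * v := by rw [hz]; group
  clear_value z
  clear hz
  have hz2 : z * z = 1 := by
    have e : z * v * (z * v) = v * v := by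
      rw [← hzv, show g * v * g⁻¹ * (g * v * g⁻¹) = g * (v * v) * g⁻¹ by group, ← (Φ.inv_sc hv).comm g,
        mul_inv_cancel_right]
    rw [mul_assoc, ← mul_assoc v, ← hzs.comm v, mul_assoc z v, ← mul_assoc] at e
    exact mul_right_cancel (e.trans (one_mul _).symm)
  have hk : ∀ k : ℕ, g ^ k * v * (g ^ k)⁻¹ = z ^ k * v := by
    intro k
    induction k with
    | zero => simp
    | succ k ih =>
      have hzk : ∀ x : GL ι F, z ^ k * x = x * z ^ k := fun x => ((show Commute z x from hzs.comm x).pow_left k).eq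
      rw [pow_succ' g, show g * g ^ k * v * (g * g ^ k)⁻¹ = g * (g ^ k * v * (g ^ k)⁻¹) * g⁻¹ by group, ih]
      calc g * (z ^ k * v) * g⁻¹ = z ^ k * (g * v * g⁻¹) := by rw [← mul_assoc g, ← hzk g]; simp only [mul_assoc]
        _ = z ^ (k + 1) * v := by rw [hzv, pow_succ, mul_assoc]
  have hzr : z ^ r = 1 := by
    have := hk r
    rw [h.comm, mul_inv_cancel_right] at this
    exact mul_right_cancel (this.symm.trans (one_mul v).symm)
  obtain ⟨k, rfl⟩ := hr
  rw [pow_succ, pow_mul, pow_two, hz2, one_pow, one_mul] at hzr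
  rw [hzr, one_mul, mul_inv_eq_iff_eq_mul] at hzv
  exact hzv

theorem sc_of_act_id (hg : g ∈ Geo.subgroupNormalizer R) {r : ℕ} (hr : Odd r) (h : IsSc (g ^ r))
    (hid : ∀ s, Φ.act g s = s) : IsSc g :=
  Φ.comm g fun _ hv => congrArg Units.val (Φ.fixed_comm hg hr h hv (hid _))

/-- The number of fixed sign vectors divides `16`. -/
theorem fixed_dvd (hg : g ∈ Geo.subgroupNormalizer R) :
    Nat.card {s // Φ.act g s = s} ∣ 16 := by
  let B : (Fin 4 → ZMod 2) ≃ (Fin 4 → Bool) :=
    Equiv.arrowCongr (Equiv.refl _) ⟨fun x => decide (x = 1), fun b => if b then 1 else 0, by decide, by decide⟩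
  have hB : ∀ x y, B (x + y) = add (B x) (B y) := by
    intro x y
    funext j
    have : ∀ u v : ZMod 2, decide (u + v = 1) = xor (decide (u = 1)) (decide (v = 1)) := by decide
    exact this (x j) (y j)
  have hadd : ∀ s t, Φ.act g (add s t) = add (Φ.act g s) (Φ.act g t) := fun s t => by
    conv_lhs => rw [← Φ.sig_rep s, ← Φ.sig_rep t, ← Φ.sig_mul (Φ.rep_mem _) (Φ.rep_mem _),
      Φ.act_sig hg (mul_mem (Φ.rep_mem _) (Φ.rep_mem _))]
    rw [show g * (Φ.rep s * Φ.rep t) * g⁻¹ = (g * Φ.rep s * g⁻¹) * (g * Φ.rep t * g⁻¹) by group,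
      Φ.sig_mul (Φ.conj_mem hg (Φ.rep_mem _)) (Φ.conj_mem hg (Φ.rep_mem _))]
    rfl
  let H : AddSubgroup (Fin 4 → ZMod 2) :=
    { carrier := {x | Φ.act g (B x) = B x}
      add_mem' := fun {x y} (hx : Φ.act g (B x) = B x) (hy : Φ.act g (B y) = B y) => by
        show Φ.act g (B (x + y)) = B (x + y)
        rw [hB, hadd, hx, hy]
      zero_mem' := by
        show Φ.act g (B 0) = B 0
        have h0 : B 0 = fun _ => false := by funext j; simp [B]
        rw [h0, ← Φ.sig_sc (one_mem R) isSc_one, Φ.act_sig hg (one_mem R), mul_one, mul_inv_cancel]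
      neg_mem' := fun {x} hx => by
        rw [show -x = x from funext fun j => (show ∀ u : ZMod 2, -u = u by decide) _]
        exact hx }
  have := H.card_addSubgroup_dvd_card
  rw [Nat.card_fun, Nat.card_zmod, Nat.card_fin] at this
  have e : Nat.card H = Nat.card {s // Φ.act g s = s} := Nat.card_congr (Equiv.subtypeEquiv B fun _ => Iff.rfl)
  rw [e] at this
  exact this

/-- The fixed points and the congruence modulo `r`. -/
theorem fixed_facts (hg : g ∈ Geo.subgroupNormalizer R) {r : ℕ} [hr : Fact r.Prime] (hodd : Odd r)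
    (h : IsSc (g ^ r)) (hns : ¬ IsSc g) :
    Nat.card {s // Φ.act g s = s} ∈ ({1, 2, 4, 8} : Finset ℕ) ∧ r ∣ 16 - Nat.card {s // Φ.act g s = s} := by
  classical
  have hd := Φ.fixed_dvd hg
  have hle := Nat.le_of_dvd (by norm_num) hd
  have h16 : Nat.card {s // Φ.act g s = s} ≠ 16 := fun e => hns (Φ.sc_of_act_id hg hodd h fun s => by
    by_contra hs
    have hlt := Fintype.card_subtype_lt (p := fun s => Φ.act g s = s) hs
    rw [← Nat.card_eq_fintype_card, e, Fintype.card_fun, Fintype.card_fin, Fintype.card_bool] at hlt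
    exact absurd hlt (by decide))
  refine ⟨?_, ?_⟩
  · generalize Nat.card {s // Φ.act g s = s} = f at *
    interval_cases f <;> simp_all
  · have hmod := Equiv.Perm.card_compl_support_modEq (p := r) (n := 1) (σ := Φ.perm hg)
      (by rw [pow_one]; exact Φ.perm_pow hg h)
    have e : (Φ.perm hg).supportᶜ.card = Nat.card {s // Φ.act g s = s} := by
      rw [Nat.card_eq_fintype_card, Fintype.card_subtype]
      congr 1
      ext s
      simp [perm]
    rw [e, Fintype.card_fun, Fintype.card_fin, Fintype.card_bool] at hmod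
    exact (Nat.modEq_iff_dvd' hle).1 hmod

/-- Bound on the commutant by the number of orbits. -/
theorem finrank_centr_le (hg : g ∈ Geo.subgroupNormalizer R) {r : ℕ} [hr : Fact r.Prime] (hodd : Odd r)
    (h : IsSc (g ^ r)) (hns : ¬ IsSc g) :
    Module.finrank F (centr (g : Matrix ι ι F)) * r ≤ 16 + (r - 1) * Nat.card {s // Φ.act g s = s} := by
  classical
  set σ := Φ.perm hg with hσ
  have hσr : orderOf σ = r := orderOf_eq_prime (Φ.perm_pow hg h) fun e => hns (Φ.sc_of_act_id hg hodd h fun s => by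
    have := Equiv.congr_fun e s
    simpa [hσ, perm] using this)
  let A := Subgroup.zpowers σ
  haveI : Fintype A := Fintype.ofFinite _
  letI : Fintype (Quotient (MulAction.orbitRel A (Fin 4 → Bool))) := Fintype.ofFinite _
  have hburn := MulAction.sum_card_fixedBy_eq_card_orbits_mul_card_group A (Fin 4 → Bool)
  have hA : Fintype.card A = r := by rw [← Nat.card_eq_fintype_card, Nat.card_zpowers, hσr]
  have hterm : ∀ a : A, a ≠ 1 → Fintype.card (MulAction.fixedBy (Fin 4 → Bool) a) ≤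
      Nat.card {s // Φ.act g s = s} := fun a ha => by
    rw [← Nat.card_eq_fintype_card]
    refine Nat.card_le_card_of_injective (fun x => ⟨x.1, ?_⟩) (fun x y e => Subtype.ext (by simpa using e))
    have hgen : Subgroup.zpowers a = ⊤ := zpowers_eq_top_of_prime_card (p := r)
      (by rw [Nat.card_eq_fintype_card, hA]) ha
    obtain ⟨k, hk⟩ := Subgroup.mem_zpowers_iff.1 (hgen ▸ Subgroup.mem_top (⟨σ, Subgroup.mem_zpowers σ⟩ : A))
    have hx : (a : Equiv.Perm _) x.1 = x.1 := x.2
    have := Equiv.congr_fun (congrArg Subtype.val hk) x.1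
    rw [SubgroupClass.coe_zpow, Equiv.Perm.zpow_apply_eq_self_of_apply_eq_self hx] at this
    exact this.symm
  have hone : Fintype.card (MulAction.fixedBy (Fin 4 → Bool) (1 : A)) = 16 := by
    rw [← Nat.card_eq_fintype_card, MulAction.fixedBy_one_eq_univ]
    simp
  have hsum : ∑ a : A, Fintype.card (MulAction.fixedBy (Fin 4 → Bool) a) ≤
      16 + (r - 1) * Nat.card {s // Φ.act g s = s} := by
    rw [← Finset.add_sum_erase _ _ (Finset.mem_univ (1 : A)), hone]
    refine Nat.add_le_add_left ((Finset.sum_le_card_nsmul _ _ _ fun a ha => hterm a (Finset.mem_erase.1 ha).1).trans ?_) _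
    rw [Finset.card_erase_of_mem (Finset.mem_univ _), Finset.card_univ, hA, smul_eq_mul]
  rw [hburn, hA] at hsum
  refine le_trans (Nat.mul_le_mul_right r ?_) hsum
  let L : centr (g : Matrix ι ι F) →ₗ[F] (Quotient (MulAction.orbitRel A (Fin 4 → Bool)) → F) :=
    LinearMap.pi fun o => (Φ.coord o.out).comp (Submodule.subtype _)
  have hinj : Function.Injective L := by
    rw [← LinearMap.ker_eq_bot, Submodule.eq_bot_iff]
    intro X hX
    haveI := Φ.nonempty
    have hX' := mem_centr.1 X.2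
    have step : ∀ s, Φ.coord (σ s) (X : Matrix ι ι F) = 0 ↔ Φ.coord s (X : Matrix ι ι F) = 0 := fun s => by
      have hgs := Φ.conj_mem hg (Φ.rep_mem s)
      obtain ⟨c, hc⟩ := Φ.decomp hgs
      set z := g * Φ.rep s * g⁻¹ * (Φ.rep (σ s))⁻¹ with hz
      have hc0 : c ≠ 0 := fun e => z.ne_zero (by
        show (z : Matrix ι ι F) = 0
        rw [show (z : Matrix ι ι F) = c • (1 : Matrix ι ι F) from hc, e, zero_smul])
      have e : (Φ.rep (σ s))⁻¹ = g * (Φ.rep s)⁻¹ * g⁻¹ * z := by rw [hz]; group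
      have hXg : ((g⁻¹ : GL ι F) : Matrix ι ι F) * X * (g : Matrix ι ι F) = X := by
        rw [mul_assoc, ← hX', Units.inv_mul_cancel_left]
      have : Φ.coord (σ s) (X : Matrix ι ι F) = c * Φ.coord s (X : Matrix ι ι F) := by
        simp only [coord, LinearMap.comp_apply, LinearMap.mulLeft_apply, Matrix.traceLinearMap_apply, e, Units.val_mul,
          show (z : Matrix ι ι F) = c • (1 : Matrix ι ι F) from hc, Matrix.mul_smul, mul_one, Matrix.smul_mul,
          Matrix.trace_smul, smul_eq_mul]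
        congr 1
        rw [mul_assoc, Matrix.trace_mul_comm, ← mul_assoc, hXg, Matrix.trace_mul_comm]
      rw [this, mul_eq_zero, or_iff_right hc0]
    refine Subtype.ext (Φ.ext_coord fun s => ?_)
    let o : Quotient (MulAction.orbitRel A (Fin 4 → Bool)) := Quotient.mk'' s
    have ho : Φ.coord o.out (X : Matrix ι ι F) = 0 := congrFun hX o
    obtain ⟨a, ha⟩ := MulAction.orbitRel_apply.1 (Quotient.mk_out (s := MulAction.orbitRel A (Fin 4 → Bool)) s)
    have hall : ∀ (k : ℕ) t, Φ.coord ((σ ^ k) t) (X : Matrix ι ι F) = 0 ↔ Φ.coord t (X : Matrix ι ι F) = 0 := by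
      intro k
      induction k with
      | zero => simp
      | succ k ih => intro t; rw [pow_succ', Equiv.Perm.mul_apply, step, ih]
    obtain ⟨k, hk⟩ := (Submonoid.mem_powers_iff _ _).1 (mem_powers_iff_mem_zpowers.2 a.2)
    have hae : (a : Equiv.Perm (Fin 4 → Bool)) s = o.out := ha
    rw [← hall k s, hk, hae]
    exact ho
  have := LinearMap.finrank_le_finrank_of_injective hinj
  rwa [Module.finrank_fintype_fun_eq_card] at this

set_option maxHeartbeats 1000000 in
theorem big (hg : g ∈ Geo.subgroupNormalizer R) {r : ℕ} [hr : Fact r.Prime] (h7 : 7 ≤ r)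
    (h : IsSc (g ^ r)) : IsSc g := by
  classical
  by_contra hns
  have hodd : Odd r := hr.out.odd_of_ne_two (by omega)
  obtain ⟨hf, hd⟩ := Φ.fixed_facts hg hodd h hns
  have hr7 : r = 7 ∧ Nat.card {s // Φ.act g s = s} = 2 := by
    simp only [Finset.mem_insert, Finset.mem_singleton] at hf
    rcases hf with e | e | e | e <;> rw [e] at hd ⊢ <;> norm_num at hd
    all_goals have hle := Nat.le_of_dvd (by norm_num) hd
    all_goals interval_cases r <;>
      first
        | (exact ⟨rfl, rfl⟩)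
        | (exact absurd hd (by decide))
        | (exact absurd hr.out (by decide))
  obtain ⟨rfl, hf2⟩ := hr7
  have h0 : Φ.act g (fun _ => false) = fun _ => false := by
    rw [← Φ.sig_sc (one_mem R) isSc_one, Φ.act_sig hg (one_mem R), mul_one, mul_inv_cancel]
  obtain ⟨s, hs, hs0⟩ : ∃ s, Φ.act g s = s ∧ s ≠ fun _ => false := by
    by_contra hcon
    push Not at hcon
    haveI : Subsingleton {s // Φ.act g s = s} :=
      ⟨fun x y => Subtype.ext ((hcon _ x.2).trans (hcon _ y.2).symm)⟩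
    have := Finite.card_le_one_iff_subsingleton.2 (inferInstance : Subsingleton {s // Φ.act g s = s})
    omega
  set v := Φ.rep s with hv
  have hvs : ¬ IsSc v := fun e => hs0 (by rw [← Φ.sig_rep s, Φ.sig_sc (Φ.rep_mem s) e])
  have hgv : g * v = v * g := Φ.fixed_comm hg hodd h (Φ.rep_mem s) (by rw [Φ.sig_rep]; exact hs)
  obtain ⟨w, hw, hvw⟩ : ∃ w ∈ R, v * w = -(w * v) := by
    by_contra hcon
    push Not at hcon
    exact hvs (Φ.comm v fun u hu =>
      congrArg Units.val ((Φ.cc v (Φ.rep_mem s) u hu).resolve_right (hcon u hu)))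
  haveI := Φ.nonempty
  let K : Set (Fin 4 → Bool) := {t | v * Φ.rep t = Φ.rep t * v}
  have hKiff : ∀ u ∈ R, Φ.sig u ∈ K ↔ v * u = u * v := fun u hu => by
    have hz := Φ.decomp hu
    show v * Φ.rep (Φ.sig u) = Φ.rep (Φ.sig u) * v ↔ _
    have e : u = u * (Φ.rep (Φ.sig u))⁻¹ * Φ.rep (Φ.sig u) := by group
    constructor
    · intro hc
      rw [e, ← mul_assoc, ← hz.comm v, mul_assoc, hc, ← mul_assoc]
    · intro hc
      rw [e, ← mul_assoc, ← hz.comm v, mul_assoc, mul_assoc (u * _)] at hc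
      exact mul_left_cancel hc
  have hKcard : Nat.card K = Nat.card {t // t ∉ K} := by
    have hflip : ∀ t, add t (Φ.sig w) ∈ K ↔ t ∉ K := fun t => by
      rw [← Φ.sig_rep t, ← Φ.sig_mul (Φ.rep_mem _) hw, hKiff _ (mul_mem (Φ.rep_mem _) hw), hKiff _ (Φ.rep_mem _)]
      rcases Φ.cc v (Φ.rep_mem s) _ (Φ.rep_mem t) with a | a
      · simp only [← mul_assoc, a]
        rw [mul_assoc, hvw, mul_neg, ← mul_assoc]
        simp [a, (neg_ne_self Φ.h2 _)]
      · simp only [← mul_assoc, a]
        rw [neg_mul, mul_assoc, hvw, mul_neg, ← mul_assoc, neg_neg]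
        simp [a, (neg_ne_self Φ.h2 _)]
    have hadd2 : ∀ t, add (add t (Φ.sig w)) (Φ.sig w) = t := fun t => by funext j; simp [add]
    exact Nat.card_congr
      { toFun := fun t => ⟨add t.1 (Φ.sig w), fun hm => ((hflip t.1).1 hm) t.2⟩
        invFun := fun t => ⟨add t.1 (Φ.sig w), (hflip t.1).2 t.2⟩
        left_inv := fun t => Subtype.ext (hadd2 _)
        right_inv := fun t => Subtype.ext (hadd2 _) }
  have hK8 : Nat.card K = 8 := by
    have := Nat.card_congr (Equiv.sumCompl (· ∈ K))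
    rw [Nat.card_sum, Nat.card_fun, Nat.card_fin, Nat.card_eq_fintype_card (α := Bool), Fintype.card_bool] at this
    change Nat.card K + Nat.card {t // t ∉ K} = 2 ^ 4 at this
    omega
  have hKinv : ∀ t, Φ.perm hg t ∈ K ↔ t ∈ K := fun t => by
    show Φ.sig (g * Φ.rep t * g⁻¹) ∈ K ↔ _
    rw [hKiff _ (Φ.conj_mem hg (Φ.rep_mem t))]
    show _ ↔ v * Φ.rep t = Φ.rep t * v
    have hvg : g * v * g⁻¹ = v := by rw [hgv, mul_inv_cancel_right]
    conv_lhs => rw [← hvg]
    rw [show g * v * g⁻¹ * (g * Φ.rep t * g⁻¹) = g * (v * Φ.rep t) * g⁻¹ by group,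
      show g * Φ.rep t * g⁻¹ * (g * v * g⁻¹) = g * (Φ.rep t * v) * g⁻¹ by group, mul_left_inj, mul_right_inj]
  let σK : Equiv.Perm K := (Φ.perm hg).subtypePerm hKinv
  have hmod := Equiv.Perm.card_compl_support_modEq (p := 7) (n := 1) (σ := σK) (by
    rw [pow_one, Equiv.Perm.subtypePerm_pow]
    refine Equiv.ext fun t => Subtype.ext ?_
    simp [Equiv.Perm.subtypePerm_apply, Φ.perm_pow hg h])
  have hfix : σK.supportᶜ.card = 2 := by
    rw [← hf2, ← Nat.card_eq_finsetCard]
    refine Nat.card_congr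
      { toFun := fun x => ⟨x.1.1, ?_⟩
        invFun := fun y => ⟨⟨y.1, ?_⟩, ?_⟩
        left_inv := fun x => rfl
        right_inv := fun y => rfl }
    · have := x.2
      simp only [Finset.mem_compl, Equiv.Perm.mem_support, not_not] at this
      exact congrArg Subtype.val this
    · obtain ⟨y, hy⟩ := y
      have hc : g * Φ.rep y = Φ.rep y * g := Φ.fixed_comm hg hodd h (Φ.rep_mem y) (by rw [Φ.sig_rep]; exact hy)
      show y ∈ K
      by_contra hyK
      have h1 : y ≠ fun _ => false := fun e => hyK (by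
        rw [e, ← Φ.sig_sc (one_mem R) isSc_one, hKiff 1 (one_mem R), mul_one, one_mul])
      have h2 : y ≠ s := fun e => hyK (by
        rw [e, ← Φ.sig_rep s, hKiff _ (Φ.rep_mem s)])
      exact three_in_two hf2 (a := ⟨_, h0⟩) (b := ⟨s, hs⟩) (c := ⟨y, hy⟩)
        (fun e => hs0 (congrArg Subtype.val e).symm) (fun e => h1 (congrArg Subtype.val e).symm)
        (fun e => h2 (congrArg Subtype.val e).symm)
    · simp only [Finset.mem_compl, Equiv.Perm.mem_support, not_not]
      exact Subtype.ext y.2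
  rw [hfix, ← Nat.card_eq_fintype_card] at hmod
  rw [hK8] at hmod
  exact absurd hmod (by decide)

end Frame

end Cfsg.Agent.C6Dim4
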