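import Cfsg.Agent.C6Dim4.Elements

/-!
The frame of a symplectic-type group of order `2⁶` with centre of order four, or `2⁵` of minus type.
-/

set_option autoImplicit false
set_option linter.unusedSectionVars false
set_option linter.style.haveILetI false

open Matrix

namespace Cfsg.Agent.C6Dim4

variable {F : Type*} [Field F] {ι : Type} [Fintype ι] [DecidableEq ι] {R : Subgroup (GL ι F)}

theorem mem_center_iff_isSc (hi : Geo.ActsAbsolutelyIrreducibly (Geo.matrixSet R)) (u : R) :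
    u ∈ Subgroup.center R ↔ IsSc (u : GL ι F) := by
  refine ⟨fun h => hi.2 _ ?_, fun h => Subgroup.mem_center_iff.2 fun v => Subtype.ext (h.comm v).symm⟩
  rintro _ ⟨v, hv, rfl⟩
  exact (congrArg (fun w : R => ((w : GL ι F) : Matrix ι ι F)) (Subgroup.mem_center_iff.1 h ⟨v, hv⟩)).symm

theorem pre_of (h2 : (2 : F) ≠ 0) (h4 : Fintype.card ι = 4) (hs : Geo.IsSymplecticTypeGroup 2 R)
    (hi : Geo.ActsAbsolutelyIrreducibly (Geo.matrixSet R))
    (h : (Nat.card R = 64 ∧ Nat.card (Subgroup.center R) = 4) ∨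
      (Nat.card R = 32 ∧ Nat.card (Subgroup.center R) = 2)) : Pre R := by
  haveI : Finite R := Nat.finite_of_card_ne_zero (by rcases h with h | h <;> omega)
  haveI : Nonempty ι := Fintype.card_pos_iff.1 (by omega)
  have he : ∀ g : R, g ^ 4 = 1 := fun g => by
    have := Monoid.pow_exponent_eq_one g
    rw [hs.exponent_eq] at this
    simpa using this
  refine ⟨h2, h4, fun u hu => ?_, fun X hX => hi.2 X ?_, ?_, inferInstance⟩
  · obtain ⟨c, hc⟩ := (mem_center_iff_isSc hi _).1 (sq_central he hs.cyclic_of_characteristic h ⟨u, hu⟩)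
    have hc' : ((u * u : GL ι F) : Matrix ι ι F) = c • 1 := hc
    have e : (u * u) * (u * u) = 1 := by
      have := congrArg Subtype.val (he ⟨u, hu⟩)
      simpa [pow_succ, mul_assoc] using this
    have e' := congrArg Units.val e
    rw [Units.val_mul, hc', Matrix.smul_mul, one_mul, smul_smul, Units.val_one] at e'
    have hcc : c * c = 1 := smul_left_injective F (one_ne_zero (α := Matrix ι ι F)) (e'.trans (one_smul F _).symm)
    rcases mul_self_eq_one_iff.1 hcc with rfl | rfl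
    · exact Or.inl (Units.ext (by rw [hc', one_smul, Units.val_one]))
    · exact Or.inr (Units.ext (by rw [hc', neg_one_smul, Units.val_neg, Units.val_one]))
  · rintro _ ⟨v, hv, rfl⟩
    exact hX v hv
  · rw [← Nat.card_congr (Equiv.subtypeEquivRight (mem_center_iff_isSc hi))]
    rcases h with ⟨a, b⟩ | ⟨a, b⟩ <;> simp [a, b]

theorem exists_i (h4 : Fintype.card ι = 4) (hs : Geo.IsSymplecticTypeGroup 2 R)
    (hi : Geo.ActsAbsolutelyIrreducibly (Geo.matrixSet R)) (P : Pre R) (hZ : Nat.card (Subgroup.center R) = 4) :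
    ∃ i₀, i₀ ∈ R ∧ i₀ * i₀ = -1 ∧ IsSc i₀ := by
  haveI : IsMulCommutative (Subgroup.center R) := inferInstance
  haveI := hs.cyclic_of_characteristic (Subgroup.center R) inferInstance inferInstance
  obtain ⟨g, hg⟩ := IsCyclic.exists_generator (α := Subgroup.center R)
  have ho : orderOf g = 4 := by rw [orderOf_eq_card_of_forall_mem_zpowers hg, hZ]
  refine ⟨(g : R), (g : R).2, (P.sqr _ (g : R).2).resolve_left fun h => ?_, (mem_center_iff_isSc hi _).1 g.2⟩
  have : g ^ 2 = 1 := Subtype.ext (Subtype.ext (by simpa [pow_two] using h))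
  have h2 := orderOf_dvd_of_pow_eq_one this
  rw [ho] at h2
  norm_num at h2

theorem adjust_sq {i₀ : GL ι F} (hiR : i₀ ∈ R) (hi : i₀ * i₀ = -1) (his : IsSc i₀) (P : Pre R) {u : GL ι F}
    (hu : u ∈ R) : ∃ s, s ∈ R ∧ IsSc s ∧ s * u * (s * u) = 1 ∧ ∃ t, t ∈ R ∧ IsSc t ∧ t * u * (t * u) = -1 := by
  have e : ∀ x : GL ι F, i₀ * x * (i₀ * x) = -(x * x) := fun x => by
    rw [mul_assoc, ← mul_assoc x, ← his.comm x, mul_assoc i₀ x, ← mul_assoc i₀ i₀, hi, neg_one_mul]
  rcases P.sqr u hu with h | h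
  · exact ⟨1, one_mem R, isSc_one, by simpa using h, i₀, hiR, his, by rw [e, h]⟩
  · exact ⟨i₀, hiR, his, by rw [e, h, neg_neg], 1, one_mem R, isSc_one, by simpa using h⟩

theorem anti_sc {s t x y : GL ι F} (hs : IsSc s) (ht : IsSc t) (h : x * y = -(y * x)) :
    s * x * (t * y) = -(t * y * (s * x)) := by
  rw [mul_assoc, ← mul_assoc x t, ← ht.comm x, mul_assoc t x, h, mul_neg, mul_neg, mul_assoc t y (s * x),
    ← mul_assoc y s, ← hs.comm y, mul_assoc s y, ← mul_assoc s t, hs.comm t, mul_assoc]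

theorem comm_sc {s t x y : GL ι F} (hs : IsSc s) (ht : IsSc t) (h : x * y = y * x) :
    s * x * (t * y) = t * y * (s * x) := by
  rw [mul_assoc, ← mul_assoc x t, ← ht.comm x, mul_assoc t x, h, mul_assoc t y (s * x),
    ← mul_assoc y s, ← hs.comm y, mul_assoc s y, ← mul_assoc s t, hs.comm t, mul_assoc]

/-- The frame from a pair of involutions and a commuting pair of elements of order four. -/
theorem frame_of_pairs (P : Pre R) {a b c d : GL ι F} (ha : a ∈ R) (hb : b ∈ R) (hc : c ∈ R) (hd : d ∈ R)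
    (hab : a * b = -(b * a)) (hcd : c * d = -(d * c)) (hca : c * a = a * c) (hcb : c * b = b * c)
    (hda : d * a = a * d) (hdb : d * b = b * d) (haa : a * a = 1) (hbb : b * b = 1) (hcc : c * c = -1)
    (hdd : d * d = -1) : Nonempty (Frame R) := by
  have hba : b * a = -(a * b) := by rw [hab, neg_neg]
  have hdc : d * c = -(c * d) := by rw [hcd, neg_neg]
  have A : ∀ x, a * (a * x) = x := fun x => by rw [← mul_assoc, haa, one_mul]
  have B : ∀ x, b * (b * x) = x := fun x => by rw [← mul_assoc, hbb, one_mul]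
  have C : ∀ x, c * (c * x) = -x := fun x => by rw [← mul_assoc, hcc, neg_one_mul]
  have D : ∀ x, d * (d * x) = -x := fun x => by rw [← mul_assoc, hdd, neg_one_mul]
  have BA : ∀ x, b * (a * x) = -(a * (b * x)) := fun x => by rw [← mul_assoc, hba, neg_mul, mul_assoc]
  have CA : ∀ x, c * (a * x) = a * (c * x) := fun x => by rw [← mul_assoc, hca, mul_assoc]
  have DA : ∀ x, d * (a * x) = a * (d * x) := fun x => by rw [← mul_assoc, hda, mul_assoc]
  have CB : ∀ x, c * (b * x) = b * (c * x) := fun x => by rw [← mul_assoc, hcb, mul_assoc]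
  have DB : ∀ x, d * (b * x) = b * (d * x) := fun x => by rw [← mul_assoc, hdb, mul_assoc]
  refine P.frame (a := a) (b := b) (c := a * b * c) (d := a * b * d) ha hb (mul_mem (mul_mem ha hb) hc)
    (mul_mem (mul_mem ha hb) hd) haa hbb ?_ ?_ hba ?_ ?_ ?_ ?_ ?_ <;>
    simp only [mul_assoc, A, B, C, D, BA, CA, DA, CB, DB, haa, hbb, hcc, hdd, hba, hdc, hca, hcb, hda, hdb, mul_neg,
      neg_neg, mul_one]

theorem frame_four (P : Pre R) {i₀ : GL ι F} (hiR : i₀ ∈ R) (hi : i₀ * i₀ = -1) (his : IsSc i₀) :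
    Nonempty (Frame R) := by
  obtain ⟨x, y, z, w, hx, hy, hz, hw, hxy, hzw, hzx, hzy, hwx, hwy⟩ := P.exists_pairs
  obtain ⟨a, haR, has, ha, -⟩ := adjust_sq hiR hi his P hx
  obtain ⟨b, hbR, hbs, hb, -⟩ := adjust_sq hiR hi his P hy
  obtain ⟨-, -, -, -, c, hcR, hcs, hc⟩ := adjust_sq hiR hi his P hz
  obtain ⟨-, -, -, -, d, hdR, hds, hd⟩ := adjust_sq hiR hi his P hw
  exact frame_of_pairs P (mul_mem haR hx) (mul_mem hbR hy) (mul_mem hcR hz) (mul_mem hdR hw) (anti_sc has hbs hxy)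
    (anti_sc hcs hds hzw) (comm_sc hcs has hzx) (comm_sc hcs hbs hzy) (comm_sc hds has hwx) (comm_sc hds hbs hwy)
    ha hb hc hd

theorem no_abelian_eight [Nonempty ι] (P : Pre R) (hneg : (-1 : GL ι F) ∈ R) (hm : Geo.IsOfMinusType 2 R)
    {u v : GL ι F} (hu : u ∈ R) (hv : v ∈ R) (huu : u * u = 1) (hvv : v * v = 1) (huv : u * v = v * u)
    (hus : ¬ IsSc u) (hvs : ¬ IsSc v) (huvs : ¬ IsSc (u * v)) : False := by
  classical
  haveI := P.fin
  let U : R := ⟨u, hu⟩
  let V : R := ⟨v, hv⟩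
  let E : R := ⟨-1, hneg⟩
  let A := Subgroup.closure ({E, U, V} : Set R)
  have hAc : IsMulCommutative A := by
    refine Subgroup.isMulCommutative_closure ?_
    intro p hp q hq
    simp only [Set.mem_insert_iff, Set.mem_singleton_iff] at hp hq
    rcases hp with rfl | rfl | rfl <;> rcases hq with rfl | rfl | rfl <;> apply Subtype.ext <;>
      simp [E, U, V, huv]
  have hinv : ∀ x ∈ A, x * x = 1 := by
    intro x hx
    induction hx using Subgroup.closure_induction with
    | mem p hp =>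
      simp only [Set.mem_insert_iff, Set.mem_singleton_iff] at hp
      rcases hp with rfl | rfl | rfl <;> apply Subtype.ext <;> simp [E, U, V, huu, hvv]
    | one => rw [one_mul]
    | mul p q hpA hqA hp hq =>
      have hc : p * q = q * p := congrArg Subtype.val (mul_comm' (⟨p, hpA⟩ : A) ⟨q, hqA⟩)
      rw [mul_assoc, ← mul_assoc q p q, ← hc, mul_assoc p q q, hq, mul_one, hp]
    | inv p _ hp => rw [← _root_.mul_inv_rev, hp, inv_one]
  let f : Fin 5 → A := ![1, ⟨E, Subgroup.subset_closure (by simp)⟩, ⟨U, Subgroup.subset_closure (by simp)⟩,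
    ⟨V, Subgroup.subset_closure (by simp)⟩, ⟨U * V, mul_mem (Subgroup.subset_closure (by simp))
      (Subgroup.subset_closure (by simp))⟩]
  have ev : ∀ i j, f i = f j → ((f i : R) : GL ι F) = ((f j : R) : GL ι F) := fun i j h => by rw [h]
  have n1 : u ≠ v := fun e => huvs (by rw [← e, huu]; exact isSc_one)
  have n2 : u * v ≠ u := fun e => hvs (by rw [mul_eq_left.1 e]; exact isSc_one)
  have n3 : u * v ≠ v := fun e => hus (by rw [mul_eq_right.1 e]; exact isSc_one)
  have n4 : ∀ {w : GL ι F}, ¬ IsSc w → w ≠ 1 ∧ w ≠ -1 := fun hw =>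
    ⟨fun e => hw (e ▸ isSc_one), fun e => hw (e ▸ isSc_one.neg)⟩
  have hf : Function.Injective f := by
    intro i j h
    have h' := ev i j h
    fin_cases i <;> fin_cases j <;>
      simp [f, E, U, V, n1, n1.symm, n2, n2.symm, n3, n3.symm, (n4 hus).1, (n4 hus).1.symm, (n4 hus).2,
        (n4 hus).2.symm, (n4 hvs).1, (n4 hvs).1.symm, (n4 hvs).2, (n4 hvs).2.symm, (n4 huvs).1, (n4 huvs).1.symm,
        (n4 huvs).2, (n4 huvs).2.symm, neg_ne_self P.h2 (1 : GL ι F), (neg_ne_self P.h2 (1 : GL ι F)).symm] at h' ⊢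
  have h5 := Nat.card_le_card_of_injective f hf
  rw [Nat.card_fin] at h5
  have h8 := hm A hAc hinv
  haveI : Fact (Nat.Prime 2) := ⟨Nat.prime_two⟩
  obtain ⟨n, hn⟩ : ∃ n, Nat.card A = 2 ^ n := by
    refine IsPGroup.iff_card.1 fun x => ⟨1, ?_⟩
    rw [pow_one, pow_two]
    exact Subtype.ext (hinv x.1 x.2)
  have hn3 : n < 3 := (Nat.pow_lt_pow_iff_right (by norm_num)).1 (hn ▸ h8)
  interval_cases n <;> omega

theorem classify (P : Pre R) {x y : GL ι F} (hx : x ∈ R) (hy : y ∈ R) (hxy : x * y = -(y * x)) :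
    ∃ a b : GL ι F, a ∈ R ∧ b ∈ R ∧ a * b = -(b * a) ∧
      ((a * a = 1 ∧ b * b = 1) ∨ (a * a = -1 ∧ b * b = -1)) ∧
      ∀ z, z * x = x * z → z * y = y * z → z * a = a * z ∧ z * b = b * z := by
  have hyx : y * x = -(x * y) := by rw [hxy, neg_neg]
  have e : x * y * (x * y) = -(x * x * (y * y)) := by
    rw [mul_assoc, ← mul_assoc y x y, hyx, neg_mul, mul_neg, mul_assoc x y y, ← mul_assoc x x]
  have cxy : ∀ z, z * x = x * z → z * y = y * z → z * (x * y) = x * y * z := fun z h1 h2 => by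
    rw [← mul_assoc, h1, mul_assoc, h2, mul_assoc]
  rcases P.sqr x hx with hxx | hxx <;> rcases P.sqr y hy with hyy | hyy
  · exact ⟨x, y, hx, hy, hxy, Or.inl ⟨hxx, hyy⟩, fun z h1 h2 => ⟨h1, h2⟩⟩
  · refine ⟨x, x * y, hx, mul_mem hx hy, ?_, Or.inl ⟨hxx, by rw [e, hxx, hyy, one_mul, neg_neg]⟩,
      fun z h1 h2 => ⟨h1, cxy z h1 h2⟩⟩
    rw [mul_assoc x y x, hyx, mul_neg, neg_neg]
  · refine ⟨y, x * y, hy, mul_mem hx hy, ?_, Or.inl ⟨hyy, by rw [e, hxx, hyy, mul_one, neg_neg]⟩,
      fun z h1 h2 => ⟨h2, cxy z h1 h2⟩⟩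
    rw [← mul_assoc, hyx, neg_mul]
  · exact ⟨x, y, hx, hy, hxy, Or.inr ⟨hxx, hyy⟩, fun z h1 h2 => ⟨h1, h2⟩⟩

theorem frame_two [Nonempty ι] (P : Pre R) (hm : Geo.IsOfMinusType 2 R) : Nonempty (Frame R) := by
  obtain ⟨x, y, z, w, hx, hy, hz, hw, hxy, hzw, hzx, hzy, hwx, hwy⟩ := P.exists_pairs
  obtain ⟨a, b, ha, hb, hab, hsq, hcom⟩ := classify P hx hy hxy
  obtain ⟨c, d, hc, hd, hcd, hsq', hcom'⟩ := classify P hz hw hzw
  have hza := hcom z hzx hzy
  have hwa := hcom w hwx hwy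
  have hac := hcom' a hza.1.symm hwa.1.symm
  have hbc := hcom' b hza.2.symm hwa.2.symm
  have sa : Tw a b true := hab
  have sb : Tw b a true := show b * a = -(a * b) by rw [hab, neg_neg]
  have sc : Tw c d true := hcd
  have sd : Tw d c true := show d * c = -(c * d) by rw [hcd, neg_neg]
  rcases hsq with ⟨haa, hbb⟩ | ⟨haa, hbb⟩ <;> rcases hsq' with ⟨hcc, hdd⟩ | ⟨hcc, hdd⟩
  · exact (no_abelian_eight P (by
        have h : a * b * (a * b) ∈ R := mul_mem (mul_mem ha hb) (mul_mem ha hb)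
        rwa [mul_assoc, ← mul_assoc b a b, (show b * a = -(a * b) from sb), neg_mul, mul_neg, mul_assoc a b b, hbb, mul_one, haa] at h)
      hm ha hc haa hcc hac.1 (fun h => (sa.unique P.h2 (show Tw a b false from h.comm b)) |> Bool.noConfusion)
      (fun h => (sc.unique P.h2 (show Tw c d false from h.comm d)) |> Bool.noConfusion)
      (fun h => ((sa.mul (show Tw c b false from hbc.1.symm)).unique P.h2 (show Tw (a * c) b false from h.comm b))
        |> Bool.noConfusion)).elim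
  · exact frame_of_pairs P ha hb hc hd hab hcd hac.1.symm hbc.1.symm hac.2.symm hbc.2.symm haa hbb hcc hdd
  · exact frame_of_pairs P hc hd ha hb hcd hab hac.1 hac.2 hbc.1 hbc.2 hcc hdd haa hbb
  · have tacd : Tw (a * c) d true := (show Tw a d false from hac.2).mul sc
    have taca : Tw (a * c) a false := (show Tw a a false from rfl).mul (show Tw c a false from hac.1.symm)
    have tbda : Tw (b * d) a true := sb.mul (show Tw d a false from hac.2.symm)
    refine (no_abelian_eight P (haa ▸ mul_mem ha ha) hm (mul_mem ha hc) (mul_mem hb hd) ?_ ?_ ?_ ?_ ?_ ?_).elim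
    · rw [mul_assoc, ← mul_assoc c a c, ← hac.1, mul_assoc a c c, hcc, mul_neg, mul_one, mul_neg, haa, neg_neg]
    · rw [mul_assoc, ← mul_assoc d b d, ← hbc.2, mul_assoc b d d, hdd, mul_neg, mul_one, mul_neg, hbb, neg_neg]
    · have h1 : c * (b * d) = -(b * (d * c)) := by rw [← mul_assoc, ← hbc.1, mul_assoc, hcd, mul_neg]
      rw [mul_assoc, h1, mul_neg, ← mul_assoc a b, hab, neg_mul, neg_neg, mul_assoc b a, ← mul_assoc a d c, hac.2,
        mul_assoc d a c, ← mul_assoc b d]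
    · exact fun h => (tacd.unique P.h2 (show Tw (a * c) d false from h.comm d)) |> Bool.noConfusion
    · exact fun h => (tbda.unique P.h2 (show Tw (b * d) a false from h.comm a)) |> Bool.noConfusion
    · exact fun h => ((taca.mul tbda).unique P.h2 (show Tw (a * c * (b * d)) a false from h.comm a)) |> Bool.noConfusion

end Cfsg.Agent.C6Dim4
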