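import Cfsg.Agent.C6Dim4.Build
import Mathlib.NumberTheory.LegendreSymbol.QuadraticReciprocity

/-!
Tools shared by the three dimension-four statements.
-/

set_option autoImplicit false
set_option linter.unusedSectionVars false
set_option linter.style.haveILetI false

open Matrix

namespace Cfsg.Agent.C6Dim4

variable {F : Type*} [Field F] [Fintype F] {ι : Type} [Fintype ι] [DecidableEq ι]

theorem order_four_iff {p : ℕ} : orderOf (p : ZMod 5) = 4 ↔ p % 5 = 2 ∨ p % 5 = 3 := by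
  haveI : Fact (Nat.Prime 5) := ⟨Nat.prime_five⟩
  rw [← ZMod.natCast_mod p 5]
  have h : p % 5 < 5 := Nat.mod_lt _ (by norm_num)
  generalize p % 5 = a at *
  interval_cases a
  · simp [orderOf_zero]
  · simp
  · simp [orderOf_eq_iff (show 0 < 4 by norm_num)]; decide
  · simp [orderOf_eq_iff (show 0 < 4 by norm_num)]; decide
  · simp [orderOf_eq_iff (show 0 < 4 by norm_num)]; decide

theorem scU_mul (c d : Fˣ) : scU ι (c * d) = scU ι c * scU ι d := map_mul _ c d

theorem scU_inv (c : Fˣ) : scU ι c⁻¹ = (scU ι c)⁻¹ := map_inv _ c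

theorem scU_pow (c : Fˣ) (n : ℕ) : scU ι c ^ n = scU ι (c ^ n) := (map_pow _ c n).symm

theorem det_scU (c : Fˣ) : (scU ι c : Matrix ι ι F).det = (c : F) ^ Fintype.card ι := by
  rw [coe_scU, Matrix.det_smul, Matrix.det_one, mul_one]

theorem isSc_iff [Nonempty ι] {g : GL ι F} : IsSc g ↔ ∃ c : Fˣ, g = scU ι c := by
  refine ⟨fun ⟨c, hc⟩ => ?_, fun ⟨c, hc⟩ => hc ▸ isSc_scU c⟩
  have h0 : c ≠ 0 := fun e => g.ne_zero (by rw [hc, e, zero_smul])
  exact ⟨Units.mk0 c h0, Units.ext (by rw [hc, coe_scU, Units.val_mk0])⟩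

theorem sc_mem_normalizer {R : Subgroup (GL ι F)} {c : GL ι F} (hc : IsSc c) :
    c ∈ Geo.subgroupNormalizer R :=
  mem_nz fun u hu => by rw [hc.comm, mul_inv_cancel_right]; exact hu

theorem IsSc.inv [Nonempty ι] {g : GL ι F} (h : IsSc g) : IsSc g⁻¹ := by
  obtain ⟨c, rfl⟩ := isSc_iff.1 h
  rw [← scU_inv]
  exact isSc_scU _

theorem not_sc_conj [Nonempty ι] {x g : GL ι F} (h : ¬ IsSc x) : ¬ IsSc (g⁻¹ * x * g) := fun hs => h (by
  have e : x = g⁻¹ * x * g := by
    have := hs.comm g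
    rw [mul_assoc (g⁻¹) x g] at this ⊢
    conv_lhs => rw [show x = g * (g⁻¹ * (x * g)) * g⁻¹ by group]
    rw [← this, mul_inv_cancel_right]
  rwa [e])

/-- Reduction to elements of order `r`. -/
theorem reduce_odd (hι : Fintype.card ι = 4) {R : Subgroup (GL ι F)} {G : Subgroup (GL ι F)}
    (hdet : ∀ x ∈ G, (x : Matrix ι ι F).det = 1) {r : ℕ} (hodd : Odd r)
    (key : ∀ y ∈ G, y ^ r = 1 → ¬ IsSc y → ∃ g ∈ G, g⁻¹ * y * g ∈ Geo.subgroupNormalizer R) :
    ∀ x ∈ G, (∃ z : F, ((x ^ r : GL ι F) : Matrix ι ι F) = z • (1 : Matrix ι ι F)) →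
      (∀ z : F, (x : Matrix ι ι F) ≠ z • (1 : Matrix ι ι F)) →
      ∃ g ∈ G, g⁻¹ * x * g ∈ Geo.subgroupNormalizer R := by
  haveI : Nonempty ι := Fintype.card_pos_iff.1 (by omega)
  intro x hx hz hns
  obtain ⟨z, hz'⟩ := isSc_iff.1 (show IsSc (x ^ r) from hz)
  have hz4 : z ^ 4 = 1 := Units.ext (by
    have := hdet _ (pow_mem hx r)
    rw [hz', det_scU, hι] at this
    simpa using this)
  set c := (x ^ r) ^ r with hc
  have hcs : IsSc c := by rw [hc, hz', scU_pow]; exact isSc_scU _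
  have hy : (x * c⁻¹) ^ r = 1 := by
    rw [(show Commute x c⁻¹ from (hcs.inv.comm x).symm).mul_pow, inv_pow, hz', hc, hz', scU_pow, scU_pow, ← pow_mul,
      mul_inv_eq_one]
    congr 1
    rw [pow_eq_pow_mod (r * r) hz4]
    have : r * r % 4 = 1 := by
      obtain ⟨k, rfl⟩ := hodd
      rw [show (2 * k + 1) * (2 * k + 1) = 4 * (k * k + k) + 1 by ring]
      omega
    rw [this, pow_one]
  obtain ⟨g, hg, hgN⟩ := key _ (mul_mem hx (inv_mem (pow_mem (pow_mem hx r) r))) hy fun hs => by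
    obtain ⟨w, hw⟩ := hs.mul hcs
    rw [inv_mul_cancel_right] at hw
    exact hns w hw
  refine ⟨g, hg, ?_⟩
  rw [show g⁻¹ * x * g = g⁻¹ * (x * c⁻¹) * g * c by
    rw [mul_assoc _ g c, ← hcs.comm g, ← mul_assoc, mul_assoc g⁻¹ (x * c⁻¹) c, inv_mul_cancel_right]]
  exact mul_mem hgN (sc_mem_normalizer hcs)

theorem exists_order {R G : Subgroup (GL ι F)} (hι : Fintype.card ι = 4)
    (hdet : ∀ x ∈ G, (x : Matrix ι ι F).det = 1) {r : ℕ} [Fact r.Prime] (h : r ∣ R.relIndex G) (h2 : r ≠ 2) :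
    ∃ x ∈ G, x ^ r = 1 ∧ ¬ IsSc x := by
  haveI : Nonempty ι := Fintype.card_pos_iff.1 (by omega)
  obtain ⟨x, hx⟩ := exists_prime_orderOf_dvd_card' r (G := G) (h.trans (Subgroup.index_dvd_card _))
  refine ⟨x, x.2, ?_, fun hs => ?_⟩
  · have := congrArg Subtype.val (pow_orderOf_eq_one x)
    rwa [hx, Subgroup.coe_pow] at this
  · obtain ⟨c, hc⟩ := isSc_iff.1 hs
    have h4 : x ^ 4 = 1 := Subtype.ext (by
      rw [Subgroup.coe_pow, hc, scU_pow]
      have := hdet _ x.2
      rw [hc, det_scU, hι] at this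
      rw [show c ^ 4 = 1 from Units.ext (by simpa using this)]
      exact map_one _)
    have hd := orderOf_dvd_of_pow_eq_one h4
    rw [hx] at hd
    exact h2 ((Nat.prime_dvd_prime_iff_eq Fact.out Nat.prime_two).1
      ((Fact.out : r.Prime).dvd_of_dvd_pow (show r ∣ 2 ^ 2 from hd)))

/-- The commutant of a rank-one perturbation of a scalar. -/
theorem nine_le_centr (hι : Fintype.card ι = 4) {A : Matrix ι ι F} (c : F) (u v : ι → F) (hu : u ≠ 0)
    (hA : A = c • 1 + vecMulVec u v) : 9 ≤ Module.finrank F (centr A) := by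
  let L : Matrix ι ι F →ₗ[F] (ι → F) × (ι → F) :=
    { toFun := fun X => (X *ᵥ u, v ᵥ* X)
      map_add' := fun X Y => by simp [add_mulVec, vecMul_add]
      map_smul' := fun a X => by simp [smul_mulVec, vecMul_smul] }
  let φ : (ι → F) × (ι → F) →ₗ[F] F :=
    { toFun := fun p => v ⬝ᵥ p.1 - p.2 ⬝ᵥ u
      map_add' := fun p q => by simp [dotProduct_add, add_dotProduct]; ring
      map_smul' := fun a p => by simp [dotProduct_smul, smul_dotProduct]; ring }
  have hle : LinearMap.ker L ≤ centr A := fun X hX => by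
    have h : (X *ᵥ u, v ᵥ* X) = 0 := hX
    obtain ⟨h1, h2⟩ := Prod.mk_eq_zero.1 h
    rw [mem_centr, hA, add_mul, mul_add, Matrix.smul_mul, one_mul, Matrix.mul_smul, mul_one, mul_vecMulVec, h1,
      vecMulVec_mul, h2]
    simp [vecMulVec]
  have hφ : φ ≠ 0 := fun h => hu (funext fun i => by
    have := LinearMap.congr_fun h (0, Pi.single i 1)
    simpa [φ] using this)
  have hr : LinearMap.range L ≤ LinearMap.ker φ := by
    rintro _ ⟨X, rfl⟩
    show v ⬝ᵥ (X *ᵥ u) - (v ᵥ* X) ⬝ᵥ u = 0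
    rw [dotProduct_mulVec, sub_self]
  have h1 := LinearMap.finrank_range_add_finrank_ker L
  have h2 := LinearMap.finrank_range_add_finrank_ker φ
  have h3 : 1 ≤ Module.finrank F (LinearMap.range φ) := by
    rw [Nat.one_le_iff_ne_zero, Ne, Submodule.finrank_eq_zero, LinearMap.range_eq_bot]
    exact hφ
  have h4 := Submodule.finrank_mono hr
  have h5 := Submodule.finrank_mono hle
  rw [Module.finrank_matrix, hι, Module.finrank_self] at h1
  rw [Module.finrank_prod, Module.finrank_fintype_fun_eq_card, hι] at h2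
  omega

/-- The commutant of `A ⊕ 1`. -/
theorem five_le_centr (e : Fin 2 ⊕ Fin 2 ≃ ι) (A : Matrix (Fin 2) (Fin 2) F) :
    5 ≤ Module.finrank F (centr (Matrix.reindexAlgEquiv F F e (fromBlocks A 0 0 1))) := by
  let L : F × Matrix (Fin 2) (Fin 2) F →ₗ[F] centr (Matrix.reindexAlgEquiv F F e (fromBlocks A 0 0 1)) :=
    { toFun := fun q => ⟨Matrix.reindexAlgEquiv F F e (fromBlocks (q.1 • 1) 0 0 q.2), mem_centr.2 (by
        rw [← map_mul, ← map_mul, fromBlocks_multiply, fromBlocks_multiply]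
        simp)⟩
      map_add' := fun a b => Subtype.ext (by
        show _ = Matrix.reindexAlgEquiv F F e _ + Matrix.reindexAlgEquiv F F e _
        rw [← map_add, fromBlocks_add]
        simp [add_smul])
      map_smul' := fun a b => Subtype.ext (by
        show _ = a • Matrix.reindexAlgEquiv F F e _
        rw [← map_smul, fromBlocks_smul]
        simp [smul_smul]) }
  have hL : Function.Injective L := by
    intro a b h
    have h' := (Matrix.reindexAlgEquiv F F e).injective (congrArg Subtype.val h)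
    obtain ⟨h1, -, -, h2⟩ := fromBlocks_inj.1 h'
    refine Prod.ext ?_ h2
    have := congrFun (congrFun h1 0) 0
    simpa using this
  have h := LinearMap.finrank_le_finrank_of_injective hL
  rw [Module.finrank_prod, Module.finrank_matrix, Module.finrank_self, Fintype.card_fin] at h
  exact h

/-- No conjugate of an element with a large commutant normalises `R`. -/
theorem no_fix {R : Subgroup (GL ι F)} (Φ : Frame R) {x g : GL ι F} {r : ℕ} [Fact r.Prime]
    (hr : r = 3 ∨ r = 5) (hsc : IsSc (x ^ r)) (hns : ¬ IsSc x)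
    (hd : (if r = 3 then 9 else 5) ≤ Module.finrank F (centr (x : Matrix ι ι F)))
    (hN : g⁻¹ * x * g ∈ Geo.subgroupNormalizer R) : False := by
  haveI := Φ.nonempty
  have hodd : Odd r := by rcases hr with rfl | rfl <;> decide
  have hpow : IsSc ((g⁻¹ * x * g) ^ r) := by
    have e : (g⁻¹ * x * g) ^ r = g⁻¹ * x ^ r * g := by
      have := conj_pow (i := r) (a := g⁻¹) (b := x)
      simpa using this
    rw [e, ← hsc.comm, inv_mul_cancel_right]
    exact hsc
  have hb := Φ.finrank_centr_le hN hodd hpow (not_sc_conj hns)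
  obtain ⟨hf, hdvd⟩ := Φ.fixed_facts hN hodd hpow (not_sc_conj hns)
  have hc := finrank_centr_conj g⁻¹ x
  rw [inv_inv] at hc
  rw [hc] at hb
  simp only [Finset.mem_insert, Finset.mem_singleton] at hf
  rcases hr with rfl | rfl <;> norm_num at hd <;> rcases hf with e | e | e | e <;> rw [e] at hb hdvd <;>
    norm_num at hdvd <;> omega

/-- A root of `t² + t - 1`. -/
theorem exists_t {p : ℕ} [Fact p.Prime] [CharP F p] (hp : p ≠ 2) (h5 : p % 5 = 0 ∨ p % 5 = 1 ∨ p % 5 = 4) :
    ∃ t : F, t * t + t - 1 = 0 ∧ t ^ p = t ∧ (p ≠ 5 → t ≠ 2 ∧ t ≠ -2) := by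
  haveI : Fact (Nat.Prime 5) := ⟨Nat.prime_five⟩
  have h2 : (2 : F) ≠ 0 := fun e => hp ((Nat.prime_dvd_prime_iff_eq (Fact.out : p.Prime) Nat.prime_two).1
    ((CharP.cast_eq_zero_iff F p 2).1 (by exact_mod_cast e)))
  obtain ⟨s, hs⟩ : IsSquare ((5 : ℕ) : ZMod p) := by
    rcases h5 with h | h
    · have h5p : 5 = p := (Nat.prime_dvd_prime_iff_eq Nat.prime_five (Fact.out : p.Prime)).1 (Nat.dvd_of_mod_eq_zero h)
      rw [show ((5 : ℕ) : ZMod p) = 0 from (ZMod.natCast_eq_zero_iff 5 p).2 (h5p ▸ dvd_rfl)]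
      exact ⟨0, (mul_zero 0).symm⟩
    · rw [← ZMod.exists_sq_eq_prime_iff_of_mod_four_eq_one (p := 5) (q := p) (by norm_num) hp, ← ZMod.natCast_mod p 5]
      rcases h with h | h <;> rw [h]
      · exact ⟨1, rfl⟩
      · exact ⟨2, rfl⟩
  set a := ZMod.castHom dvd_rfl F s with ha
  have haa : a * a = 5 := by
    have := congrArg (ZMod.castHom dvd_rfl F) hs
    rw [map_mul, map_natCast] at this
    exact_mod_cast this.symm
  refine ⟨(a - 1) / 2, by field_simp; linear_combination haa, ?_, fun h => ?_⟩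
  · rw [show (a - 1) / 2 = ZMod.castHom dvd_rfl F ((s - 1) / 2) by rw [map_div₀, map_sub, map_one, map_ofNat, ← ha],
      ← map_pow, ZMod.pow_card]
  constructor <;> intro e <;> rw [div_eq_iff h2] at e
  · have h20 : ((20 : ℕ) : F) = 0 := by
      rw [show a = 5 by linear_combination e] at haa
      push_cast; linear_combination haa
    have hd := (CharP.cast_eq_zero_iff F p 20).1 h20
    have : p ∣ 2 ^ 2 * 5 := by simpa using hd
    rcases (Fact.out : p.Prime).dvd_mul.1 this with q | q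
    · exact hp ((Nat.prime_dvd_prime_iff_eq Fact.out Nat.prime_two).1 ((Fact.out : p.Prime).dvd_of_dvd_pow q))
    · exact h ((Nat.prime_dvd_prime_iff_eq Fact.out Nat.prime_five).1 q)
  · have h4 : ((2 ^ 2 : ℕ) : F) = 0 := by
      rw [show a = -3 by linear_combination e] at haa
      push_cast; linear_combination haa
    exact hp ((Nat.prime_dvd_prime_iff_eq Fact.out Nat.prime_two).1
      ((Fact.out : p.Prime).dvd_of_dvd_pow ((CharP.cast_eq_zero_iff F p _).1 h4)))

/-- Powers of a root of `X² - tX + 1`. -/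
theorem pow_of_quad {A : Matrix (Fin 2) (Fin 2) F} {t : F} (hA : A * A = t • A - 1) :
    A ^ 3 = (t * t - 1) • A - t • 1 ∧
      A ^ 5 = (t ^ 4 - 3 * (t * t) + 1) • A - (t ^ 3 - 2 * t) • 1 := by
  have h3 : A ^ 3 = (t * t - 1) • A - t • 1 := by
    rw [pow_succ, pow_two, hA, sub_mul, Matrix.smul_mul, hA, one_mul]
    module
  refine ⟨h3, ?_⟩
  rw [pow_succ, pow_succ, h3]
  simp only [sub_mul, Matrix.smul_mul, one_mul, hA, smul_sub, smul_smul]
  module

theorem quad_five {A : Matrix (Fin 2) (Fin 2) F} {t : F} (hA : A * A = t • A - 1) (ht : t * t + t - 1 = 0) :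
    A ^ 5 = 1 := by
  rw [(pow_of_quad hA).2, show t ^ 4 - 3 * (t * t) + 1 = 0 by linear_combination (t * t - t - 1) * ht,
    show t ^ 3 - 2 * t = -1 by linear_combination (t - 1) * ht]
  simp

theorem quad_three {A : Matrix (Fin 2) (Fin 2) F} (hA : A * A = (-1 : F) • A - 1) : A ^ 3 = 1 := by
  rw [(pow_of_quad hA).1]
  simp

/-- The companion matrix of `X² - tX + 1`. -/
def comp2 (t : F) : Matrix (Fin 2) (Fin 2) F := !![0, -1; 1, t]

theorem comp2_facts (t : F) : comp2 t * comp2 t = t • comp2 t - 1 ∧ (comp2 t).det = 1 ∧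
    ∀ c : F, comp2 t ≠ c • 1 := by
  refine ⟨?_, by simp [comp2, det_fin_two], fun c h => ?_⟩
  · ext i j
    fin_cases i <;> fin_cases j <;> simp [comp2, Matrix.mul_apply, Fin.sum_univ_two] <;> ring
  · have := congrFun (congrFun h 1) 0
    simp [comp2] at this

theorem block_facts (e : Fin 2 ⊕ Fin 2 ≃ ι) {A : Matrix (Fin 2) (Fin 2) F} {r : ℕ} (hr : A ^ r = 1)
    (hdet : A.det = 1) (hns : ∀ c : F, A ≠ c • 1) :
    ∃ x : GL ι F, (x : Matrix ι ι F) = Matrix.reindexAlgEquiv F F e (fromBlocks A 0 0 1) ∧ x ^ r = 1 ∧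
      (x : Matrix ι ι F).det = 1 ∧ ¬ IsSc x := by
  have hd : (Matrix.reindexAlgEquiv F F e (fromBlocks A 0 0 1)).det = 1 := by
    rw [Matrix.det_reindexAlgEquiv, det_fromBlocks_zero₂₁, hdet, det_one, one_mul]
  have hb : ∀ k : ℕ, (fromBlocks A 0 0 (1 : Matrix (Fin 2) (Fin 2) F)) ^ k = fromBlocks (A ^ k) 0 0 1 := fun k => by
    induction k with
    | zero => simp [fromBlocks_one]
    | succ k ih => simp [pow_succ, ih, fromBlocks_multiply]
  refine ⟨Matrix.GeneralLinearGroup.mkOfDetNeZero _ (by rw [hd]; exact one_ne_zero), rfl, Units.ext ?_, hd, ?_⟩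
  · rw [Units.val_pow_eq_pow_val, Units.val_one]
    show (Matrix.reindexAlgEquiv F F e (fromBlocks A 0 0 1)) ^ r = 1
    rw [← map_pow, hb, hr, fromBlocks_one, map_one]
  · rintro ⟨c, hc⟩
    change Matrix.reindexAlgEquiv F F e (fromBlocks A 0 0 1) = c • 1 at hc
    rw [← map_one (Matrix.reindexAlgEquiv F F e), ← map_smul, ← fromBlocks_one, fromBlocks_smul] at hc
    exact hns c (fromBlocks_inj.1 ((Matrix.reindexAlgEquiv F F e).injective hc)).1

end Cfsg.Agent.C6Dim4
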