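import Cfsg.Agent.C6Dim4.Action

/-!
Elements of the normaliser of order two, three and five modulo scalars.
-/

set_option autoImplicit false
set_option linter.unusedSectionVars false
set_option linter.style.haveILetI false

open Matrix

namespace Cfsg.Agent.C6Dim4

variable {F : Type*} [Field F] [Fintype F] {ι : Type} [Fintype ι] [DecidableEq ι]

/-- A scalar unit. -/
def scU (ι : Type) [Fintype ι] [DecidableEq ι] (c : Fˣ) : GL ι F :=
  Units.map (Matrix.scalar ι : F →+* Matrix ι ι F).toMonoidHom c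

@[simp] theorem coe_scU (c : Fˣ) : (scU ι c : Matrix ι ι F) = (c : F) • (1 : Matrix ι ι F) := by
  simp [scU, Matrix.smul_one_eq_diagonal]

theorem isSc_scU (c : Fˣ) : IsSc (scU ι c) := ⟨c, coe_scU c⟩

/-- The unit `1 + a`, for `a² = -1`. -/
noncomputable def ga (h2 : (2 : F) ≠ 0) (a : GL ι F) (ha : a * a = -1) : GL ι F :=
  have key : ∀ A : Matrix ι ι F, A * A = -1 → (1 + A) * ((2 : F)⁻¹ • (1 - A)) = 1 := fun A hA => by
    rw [Matrix.mul_smul, add_mul, one_mul, mul_sub, mul_one, hA,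
      show (1 : Matrix ι ι F) - A + (A - -1) = (2 : F) • 1 by rw [two_smul]; abel, inv_smul_smul₀ h2]
  have ha' : (a : Matrix ι ι F) * a = -1 := by rw [← Units.val_mul, ha]; simp
  ⟨1 + (a : Matrix ι ι F), (2 : F)⁻¹ • (1 - (a : Matrix ι ι F)), key _ ha',
    mul_eq_one_comm.1 (key _ ha')⟩

@[simp] theorem coe_ga (h2 : (2 : F) ≠ 0) (a : GL ι F) (ha : a * a = -1) :
    (ga h2 a ha : Matrix ι ι F) = 1 + (a : Matrix ι ι F) := rfl

theorem ga_comm {h2 : (2 : F) ≠ 0} {a : GL ι F} {ha : a * a = -1} {u : GL ι F} (h : a * u = u * a) :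
    ga h2 a ha * u = u * ga h2 a ha := by
  have h' : (a : Matrix ι ι F) * u = (u : Matrix ι ι F) * a := congrArg Units.val h
  exact Units.ext (by simp [add_mul, mul_add, h'])

theorem ga_anti {h2 : (2 : F) ≠ 0} {a : GL ι F} {ha : a * a = -1} {u : GL ι F} (h : a * u = -(u * a)) :
    ga h2 a ha * u = a * u * ga h2 a ha := by
  have h' : (a : Matrix ι ι F) * u = -((u : Matrix ι ι F) * a) := by
    simpa using congrArg Units.val h
  have ha' : (a : Matrix ι ι F) * a = -1 := by rw [← Units.val_mul, ha]; simp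
  refine Units.ext ?_
  simp only [Units.val_mul, coe_ga, add_mul, mul_add, one_mul, mul_one]
  rw [h', neg_mul, mul_assoc, ha', mul_neg, mul_one, neg_neg]
  abel

theorem mem_nz {R : Subgroup (GL ι F)} {g : GL ι F} (h : ∀ u ∈ R, g * u * g⁻¹ ∈ R) :
    g ∈ Geo.subgroupNormalizer R :=
  Subgroup.mem_normalizer_fintype (S := (R : Set (GL ι F))) h

namespace Frame

variable {R : Subgroup (GL ι F)} (Φ : Frame R)

include Φ

theorem scU_mem (c : Fˣ) : scU ι c ∈ Geo.subgroupNormalizer R :=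
  mem_nz fun u hu => by rw [(isSc_scU c).comm, mul_inv_cancel_right]; exact hu

theorem ga_mem {a : GL ι F} (haR : a ∈ R) (ha : a * a = -1) : ga Φ.h2 a ha ∈ Geo.subgroupNormalizer R := by
  refine mem_nz fun u hu => ?_
  rcases Φ.cc a haR u hu with h | h
  · rw [ga_comm h, mul_inv_cancel_right]; exact hu
  · rw [ga_anti h, mul_inv_cancel_right]; exact mul_mem haR hu

theorem pair_sq {i j : Fin 5} (h : i ≠ j) : Φ.γ i * Φ.γ j * (Φ.γ i * Φ.γ j) = -1 := by
  rw [mul_assoc, ← mul_assoc (Φ.γ j), Φ.anti j i h.symm, neg_mul, mul_assoc (Φ.γ i), Φ.sq, mul_one, mul_neg, Φ.sq]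

theorem pair_left {i j : Fin 5} (h : i ≠ j) :
    ga Φ.h2 _ (Φ.pair_sq h) * Φ.γ i = -Φ.γ j * ga Φ.h2 _ (Φ.pair_sq h) := by
  rw [ga_anti (u := Φ.γ i)]
  · congr 1
    rw [mul_assoc, Φ.anti j i h.symm, mul_neg, ← mul_assoc, Φ.sq, one_mul]
  · rw [mul_assoc, Φ.anti j i h.symm, mul_neg]

theorem pair_right {i j : Fin 5} (h : i ≠ j) :
    ga Φ.h2 _ (Φ.pair_sq h) * Φ.γ j = Φ.γ i * ga Φ.h2 _ (Φ.pair_sq h) := by
  rw [ga_anti (u := Φ.γ j)]
  · congr 1
    rw [mul_assoc, Φ.sq, mul_one]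
  · rw [← mul_assoc (Φ.γ j), Φ.anti j i h.symm, neg_mul, neg_neg]

theorem pair_other {i j k : Fin 5} (h : i ≠ j) (hi : k ≠ i) (hj : k ≠ j) :
    ga Φ.h2 _ (Φ.pair_sq h) * Φ.γ k = Φ.γ k * ga Φ.h2 _ (Φ.pair_sq h) := by
  refine ga_comm ?_
  rw [mul_assoc, Φ.anti j k hj.symm, mul_neg, ← mul_assoc, Φ.anti i k hi.symm, neg_mul, neg_neg, mul_assoc]

theorem sc_of_comm {X : GL ι F} (h : ∀ i, X * Φ.γ i = Φ.γ i * X) : IsSc X := by
  refine Φ.comm X fun v hv => ?_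
  suffices h' : X * v = v * X from congrArg Units.val h'

  have hd : ∀ i, Commute X (Φ.dlt i) := fun i => (show Commute X _ from h _).mul_right (h _)
  have hp : ∀ b : Bool, ∀ i, Commute X (if b then Φ.dlt i else 1) := fun b i => by
    cases b
    exacts [Commute.one_right X, hd i]
  have hr : Commute X (Φ.rep (Φ.sig v)) := (((hp _ _).mul_right (hp _ _)).mul_right (hp _ _)).mul_right (hp _ _)
  have := (show Commute X (v * (Φ.rep (Φ.sig v))⁻¹) from ((Φ.decomp hv).comm X).symm).mul_right hr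
  rwa [inv_mul_cancel_right] at this

/-- An element of order five of the normaliser. -/
theorem exists_five (S : Submonoid (GL ι F)) (hSc : ∀ c : Fˣ, scU ι c ∈ S)
    (hSa : ∀ a ∈ R, ∀ ha : a * a = -1, ga Φ.h2 a ha ∈ S) (h5 : ∀ c : Fˣ, ∃ d : Fˣ, d ^ 5 = c) :
    ∃ g, g ∈ S ∧ g ∈ Geo.subgroupNormalizer R ∧ g ^ 5 = 1 ∧ ¬ IsSc g := by
  haveI := Φ.nonempty
  let P : ∀ {i j : Fin 5}, i ≠ j → GL ι F := fun h => ga Φ.h2 _ (Φ.pair_sq h)
  have hN : ∀ {i j : Fin 5} (h : i ≠ j), P h ∈ S ∧ P h ∈ Geo.subgroupNormalizer R := fun {i j} h =>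
    ⟨hSa _ (mul_mem (Φ.mem i) (Φ.mem j)) _, Φ.ga_mem (mul_mem (Φ.mem i) (Φ.mem j)) _⟩
  set a := P (show (0 : Fin 5) ≠ 1 by decide) with ha
  set b := P (show (1 : Fin 5) ≠ 2 by decide) with hb
  set c := P (show (2 : Fin 5) ≠ 3 by decide) with hc
  set d := P (show (3 : Fin 5) ≠ 4 by decide) with hd
  set g₀ := a * b * c * d with hg₀
  have step : ∀ {x y z g k : GL ι F}, g * x = y * g → k * y = z * k → k * g * x = z * (k * g) := by
    intro x y z g k h1 h2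
    rw [mul_assoc, h1, ← mul_assoc, h2, mul_assoc]
  have ns : ∀ {x y k : GL ι F}, k * x = y * k → k * -x = -y * k := fun h => by
    rw [mul_neg, h, neg_mul]
  have n01 : (0 : Fin 5) ≠ 1 := by decide
  have n12 : (1 : Fin 5) ≠ 2 := by decide
  have n23 : (2 : Fin 5) ≠ 3 := by decide
  have n34 : (3 : Fin 5) ≠ 4 := by decide
  have ex : g₀ = P n01 * P n12 * P n23 * P n34 := rfl
  have e4 : g₀ * Φ.γ 4 = Φ.γ 0 * g₀ := by
    rw [ex]
    exact step (Φ.pair_right n34) (step (Φ.pair_right n23) (step (Φ.pair_right n12) (Φ.pair_right n01)))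
  have e3 : g₀ * Φ.γ 3 = -Φ.γ 4 * g₀ := by
    rw [ex]
    exact step (Φ.pair_left n34) (step (ns (Φ.pair_other n23 (k := 4) (by decide) (by decide)))
      (step (ns (Φ.pair_other n12 (k := 4) (by decide) (by decide))) (ns (Φ.pair_other n01 (k := 4) (by decide) (by decide)))))
  have e2 : g₀ * Φ.γ 2 = -Φ.γ 3 * g₀ := by
    rw [ex]
    exact step (Φ.pair_other n34 (by decide) (by decide)) (step (Φ.pair_left n23)
      (step (ns (Φ.pair_other n12 (k := 3) (by decide) (by decide))) (ns (Φ.pair_other n01 (k := 3) (by decide) (by decide)))))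
  have e1 : g₀ * Φ.γ 1 = -Φ.γ 2 * g₀ := by
    rw [ex]
    exact step (Φ.pair_other n34 (by decide) (by decide)) (step (Φ.pair_other n23 (by decide) (by decide))
      (step (Φ.pair_left n12) (ns (Φ.pair_other n01 (k := 2) (by decide) (by decide)))))
  have e0 : g₀ * Φ.γ 0 = -Φ.γ 1 * g₀ := by
    rw [ex]
    exact step (Φ.pair_other n34 (by decide) (by decide)) (step (Φ.pair_other n23 (by decide) (by decide))
      (step (Φ.pair_other n12 (by decide) (by decide)) (Φ.pair_left n01)))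
  have p5 : g₀ ^ 5 = g₀ * (g₀ * (g₀ * (g₀ * g₀))) := by simp only [pow_succ', pow_zero, mul_one]
  have A : ∀ {x y : GL ι F}, g₀ * x = y * g₀ → ∀ z, g₀ * (x * z) = y * (g₀ * z) := fun h z => by
    rw [← mul_assoc, h, mul_assoc]
  have hcent : ∀ i, g₀ ^ 5 * Φ.γ i = Φ.γ i * g₀ ^ 5 := by
    intro i
    fin_cases i <;>
      simp only [Fin.isValue, Fin.zero_eta, Fin.mk_one, Fin.reduceFinMk, p5, mul_assoc, e0, e1, e2, e3, e4,
        A e0, A e1, A e2, A e3, A e4, mul_neg, neg_mul, neg_neg]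
  obtain ⟨l, hl⟩ := Φ.sc_of_comm hcent
  have hl0 : l ≠ 0 := fun e => (g₀ ^ 5).ne_zero (by rw [hl, e, zero_smul])
  obtain ⟨e, he⟩ := h5 (Units.mk0 l hl0)⁻¹
  refine ⟨scU ι e * g₀, S.mul_mem (hSc e) (S.mul_mem (S.mul_mem (S.mul_mem (hN n01).1 (hN n12).1) (hN n23).1) (hN n34).1),
    mul_mem (Φ.scU_mem e) (mul_mem (mul_mem (mul_mem (hN n01).2 (hN n12).2) (hN n23).2) (hN n34).2), ?_, fun hsc => ?_⟩
  · rw [(show Commute (scU ι e) g₀ from (isSc_scU e).comm g₀).mul_pow]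
    refine Units.ext ?_
    rw [Units.val_mul, hl, show scU ι e ^ 5 = scU ι (e ^ 5) from (map_pow _ e 5).symm, he, coe_scU]
    simp [hl0]
  · have hg : IsSc g₀ := by
      have := (isSc_scU (ι := ι) e⁻¹).mul hsc
      rwa [← mul_assoc, show scU ι e⁻¹ * scU ι e = (1 : GL ι F) by rw [scU, scU, ← map_mul, inv_mul_cancel, map_one],
        one_mul] at this
    rw [hg.comm] at e0
    have := mul_right_cancel e0
    have hanti := Φ.anti 0 1 (by decide)
    rw [this, neg_mul, mul_neg, neg_neg, Φ.sq] at hanti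
    exact neg_ne_self Φ.h2 1 hanti

theorem half_sum {a b : GL ι F} (ha : a * a = -1) (hb : b * b = -1) (hab : a * b = -(b * a)) :
    ∃ W : GL ι F, W = scU ι (Units.mk0 (-(2 : F)⁻¹) (neg_ne_zero.2 (inv_ne_zero Φ.h2))) *
        ga Φ.h2 (-b) (by simpa using hb) * ga Φ.h2 (-a) (by simpa using ha) ∧
      (W : Matrix ι ι F) = (2 : F)⁻¹ • (-1 + (a : Matrix ι ι F) + b + (a : Matrix ι ι F) * b) ∧
      (W : Matrix ι ι F) * W + W + 1 = 0 ∧ W ^ 3 = 1 ∧ (W : Matrix ι ι F).trace = -2 := by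
  have hM : (a : Matrix ι ι F) * a = -1 := by rw [← Units.val_mul, ha]; simp
  have hN : (b : Matrix ι ι F) * b = -1 := by rw [← Units.val_mul, hb]; simp
  have hNM : (b : Matrix ι ι F) * a = -((a : Matrix ι ι F) * b) := by
    rw [← Units.val_mul a b, hab]; simp
  set M := (a : Matrix ι ι F) with hMd
  set N := (b : Matrix ι ι F) with hNd
  refine ⟨_, rfl, ?_⟩
  set W := scU ι (Units.mk0 (-(2 : F)⁻¹) (neg_ne_zero.2 (inv_ne_zero Φ.h2))) *
        ga Φ.h2 (-b) (by simpa using hb) * ga Φ.h2 (-a) (by simpa using ha) with hWd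
  have hW : (W : Matrix ι ι F) = (2 : F)⁻¹ • (-1 + M + N + M * N) := by
    simp only [hWd, Units.val_mul, coe_ga, coe_scU, Units.val_neg, Units.val_mk0, Matrix.smul_mul, one_mul, ← hMd,
      ← hNd]
    rw [show (1 + -N) * (1 + -M) = -(-1 + M + N + M * N) by
      simp only [add_mul, mul_add, one_mul, mul_one, neg_mul, mul_neg, hNM, neg_neg]; abel]
    rw [smul_neg, neg_smul, neg_neg]
  have a1 : ∀ A, M * (M * A) = -A := fun A => by rw [← mul_assoc, hM, neg_one_mul]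
  have a2 : ∀ A, N * (N * A) = -A := fun A => by rw [← mul_assoc, hN, neg_one_mul]
  have a3 : ∀ A, N * (M * A) = -(M * (N * A)) := fun A => by rw [← mul_assoc, hNM, neg_mul, mul_assoc]
  have h2 := Φ.h2
  have hsq : (W : Matrix ι ι F) * W + W + 1 = 0 := by
    rw [hW]
    simp only [Matrix.smul_mul, Matrix.mul_smul, add_mul, mul_add, neg_mul, mul_neg, one_mul, mul_one, mul_assoc, hM,
      hN, hNM, a1, a2, a3, neg_neg, smul_smul, smul_add, smul_neg]
    match_scalars <;> field_simp <;> ring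
  refine ⟨hW, hsq, Units.ext ?_, ?_⟩
  · rw [Units.val_pow_eq_pow_val, Units.val_one]
    set X := (W : Matrix ι ι F)
    rw [← sub_eq_zero, show X ^ 3 - 1 = (X - 1) * (X * X + X + 1) by noncomm_ring, hsq, mul_zero]
  · have t1 : M.trace = 0 := trace_eq_zero Φ.h2 hab
    have t2 : N.trace = 0 := trace_eq_zero Φ.h2 (γ := a) (by rw [hab, neg_neg])
    have t3 : (M * N).trace = 0 := by
      refine trace_eq_zero Φ.h2 (a := a * b) (γ := a) ?_
      rw [mul_assoc, show b * a = -(a * b) by rw [hab, neg_neg], mul_neg]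
    rw [hW, Matrix.trace_smul, Matrix.trace_add, Matrix.trace_add, Matrix.trace_add, Matrix.trace_neg, t1, t2, t3,
      Matrix.trace_one, Φ.card4]
    rw [show ((4 : ℕ) : F) = 2 * 2 by norm_num]
    simp [h2]

/-- Elements of order three of the normaliser. -/
theorem exists_three (S : Submonoid (GL ι F))
    (hSab : ∀ a ∈ R, ∀ b ∈ R, ∀ (ha : a * a = -1) (hb : b * b = -1),
      scU ι (Units.mk0 (-(2 : F)⁻¹) (neg_ne_zero.2 (inv_ne_zero Φ.h2))) * ga Φ.h2 a ha * ga Φ.h2 b hb ∈ S) (i₀ : GL ι F) (hiR : i₀ ∈ R) (hi : i₀ * i₀ = -1)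
    (his : IsSc i₀) :
    (∃ g, g ∈ S ∧ g ∈ Geo.subgroupNormalizer R ∧ g ^ 3 = 1 ∧ (g : Matrix ι ι F).trace = -2) ∧
      ∃ g, g ∈ S ∧ g ∈ Geo.subgroupNormalizer R ∧ g ^ 3 = 1 ∧ (g : Matrix ι ι F).trace = 1 := by
  have hneg : ∀ x ∈ R, -x ∈ R := fun x hx => by
    rw [← neg_one_mul]; exact mul_mem Φ.neg hx
  have mem : ∀ (a b : GL ι F) (ha : a * a = -1) (hb : b * b = -1) (W : GL ι F), a ∈ R → b ∈ R →
      W = scU ι (Units.mk0 (-(2 : F)⁻¹) (neg_ne_zero.2 (inv_ne_zero Φ.h2))) *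
        ga Φ.h2 (-b) (by simpa using hb) * ga Φ.h2 (-a) (by simpa using ha) →
      W ∈ S ∧ W ∈ Geo.subgroupNormalizer R := by
    rintro a b ha hb _ haR hbR rfl
    exact ⟨hSab _ (hneg b hbR) _ (hneg a haR) _ _,
      mul_mem (mul_mem (Φ.scU_mem _) (Φ.ga_mem (hneg b hbR) _)) (Φ.ga_mem (hneg a haR) _)⟩
  set M := Φ.γ 0 * Φ.γ 1 with hMd
  set N := Φ.γ 1 * Φ.γ 2 with hNd
  have c : ∀ {i j k : Fin 5}, k ≠ i → k ≠ j → Φ.γ i * Φ.γ j * Φ.γ k = Φ.γ k * (Φ.γ i * Φ.γ j) :=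
    fun {i j k} hi hj => by
      rw [mul_assoc, Φ.anti j k hj.symm, mul_neg, ← mul_assoc, Φ.anti i k hi.symm, neg_mul, neg_neg, mul_assoc]
  have hM : M * M = -1 := Φ.pair_sq (by decide)
  have hN : N * N = -1 := Φ.pair_sq (by decide)
  have hMN : M * N = -(N * M) := by
    rw [hMd, hNd, mul_assoc, ← mul_assoc (Φ.γ 1) (Φ.γ 1), Φ.sq, one_mul, mul_assoc, ← mul_assoc (Φ.γ 2),
      Φ.anti 2 0 (by decide), neg_mul, mul_neg, mul_assoc, ← mul_assoc (Φ.γ 1), Φ.anti 1 0 (by decide), neg_mul,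
      neg_neg, mul_assoc, Φ.anti 2 1 (by decide), mul_neg, mul_neg, ← mul_assoc (Φ.γ 1) (Φ.γ 1), Φ.sq, one_mul,
      neg_neg]
  obtain ⟨W, hWd, hW, -, hW3, hWt⟩ := Φ.half_sum hM hN hMN
  refine ⟨⟨W, (mem M N hM hN W (mul_mem (Φ.mem _) (Φ.mem _)) (mul_mem (Φ.mem _) (Φ.mem _)) hWd).1,
    (mem M N hM hN W (mul_mem (Φ.mem _) (Φ.mem _)) (mul_mem (Φ.mem _) (Φ.mem _)) hWd).2, hW3, hWt⟩, ?_⟩
  set M' := i₀ * Φ.γ 3 with hM'd
  set N' := i₀ * Φ.γ 4 with hN'd
  have sq' : ∀ k, i₀ * Φ.γ k * (i₀ * Φ.γ k) = -1 := fun k => by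
    rw [mul_assoc, ← mul_assoc (Φ.γ k), ← his.comm (Φ.γ k), mul_assoc i₀, Φ.sq, mul_one, hi]
  have hMN' : M' * N' = -(N' * M') := by
    rw [hM'd, hN'd, mul_assoc, ← mul_assoc (Φ.γ 3), ← his.comm (Φ.γ 3), mul_assoc i₀ (Φ.γ 3),
      Φ.anti 3 4 (by decide), mul_neg, mul_neg, mul_assoc i₀ (Φ.γ 4), ← mul_assoc (Φ.γ 4) i₀, ← his.comm (Φ.γ 4),
      mul_assoc i₀ (Φ.γ 4)]
  obtain ⟨V, hVd, hV, -, hV3, -⟩ := Φ.half_sum (sq' 3) (sq' 4) hMN'
  have comm' : ∀ {i j k : Fin 5}, k ≠ i → k ≠ j → Φ.γ i * Φ.γ j * (i₀ * Φ.γ k) = i₀ * Φ.γ k * (Φ.γ i * Φ.γ j) :=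
    fun {i j k} hi hj => by rw [← mul_assoc, ← his.comm, mul_assoc i₀, c hi hj, ← mul_assoc i₀]
  have hWc : ∀ {k : Fin 5}, k ≠ 0 → k ≠ 1 → k ≠ 2 →
      (W : Matrix ι ι F) * (i₀ * Φ.γ k : GL ι F) = (i₀ * Φ.γ k : GL ι F) * (W : Matrix ι ι F) := by
    intro k k0 k1 k2
    have u1 : (M : Matrix ι ι F) * (i₀ * Φ.γ k : GL ι F) = (i₀ * Φ.γ k : GL ι F) * (M : Matrix ι ι F) :=
      congrArg Units.val (comm' k0 k1)
    have u2 : (N : Matrix ι ι F) * (i₀ * Φ.γ k : GL ι F) = (i₀ * Φ.γ k : GL ι F) * (N : Matrix ι ι F) :=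
      congrArg Units.val (comm' k1 k2)
    rw [hW]
    simp only [Matrix.smul_mul, Matrix.mul_smul, add_mul, mul_add, neg_mul, mul_neg, one_mul, mul_one, u1, u2]
    rw [mul_assoc, u2, ← mul_assoc, u1, mul_assoc]
  have hWM : W * M' = M' * W := Units.ext (hWc (by decide) (by decide) (by decide))
  have hWN : W * N' = N' * W := Units.ext (hWc (by decide) (by decide) (by decide))
  have hVd' := mem M' N' (sq' 3) (sq' 4) V (mul_mem hiR (Φ.mem _)) (mul_mem hiR (Φ.mem _)) hVd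
  have hWd' := mem M N hM hN W (mul_mem (Φ.mem _) (Φ.mem _)) (mul_mem (Φ.mem _) (Φ.mem _)) hWd
  refine ⟨W * V, S.mul_mem hWd'.1 hVd'.1, mul_mem hWd'.2 hVd'.2, ?_, ?_⟩
  · have hcom : Commute W V := Units.ext (by
      have m1 := congrArg Units.val hWM
      have m2 := congrArg Units.val hWN
      simp only [Units.val_mul] at m1 m2
      rw [Units.val_mul, Units.val_mul, hV]
      simp only [Matrix.mul_smul, Matrix.smul_mul, add_mul, mul_add, neg_mul, mul_neg, one_mul, mul_one]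
      rw [← mul_assoc (W : Matrix ι ι F), m1, mul_assoc, m2, ← mul_assoc])
    rw [hcom.mul_pow, hW3, hV3, mul_one]
  · have tz : ∀ {x y : GL ι F}, W * y = y * W → x * y = -(y * x) →
        ((W : Matrix ι ι F) * (x : Matrix ι ι F)).trace = 0 := fun {x y} h1 h2 => by
      rw [← Units.val_mul]
      refine trace_eq_zero Φ.h2 (γ := y) ?_
      rw [mul_assoc, h2, mul_neg, ← mul_assoc, h1, mul_assoc]
    have t1 := tz hWN hMN'
    have t2 := tz hWM (show N' * M' = -(M' * N') by rw [hMN', neg_neg])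
    have t3 := tz hWM (show M' * N' * M' = -(M' * (M' * N')) by
      rw [mul_assoc, show N' * M' = -(M' * N') by rw [hMN', neg_neg], mul_neg])
    rw [Units.val_mul, hV]
    simp only [Matrix.mul_smul, mul_add, mul_neg, mul_one, Matrix.trace_smul, Matrix.trace_add, Matrix.trace_neg,
      hWt, ← Units.val_mul (i₀ * Φ.γ 3), ← hM'd, ← hN'd, t1, t2, smul_eq_mul]
    rw [← Units.val_mul M' N', t3]
    have := Φ.h2
    field_simp
    ring

/-- The reflection. -/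
theorem exists_refl (S : Submonoid (GL ι F)) (hSc : ∀ c : Fˣ, scU ι c ∈ S)
    (hSa : ∀ a ∈ R, ∀ ha : a * a = -1, ga Φ.h2 a ha ∈ S) (i₀ : GL ι F) (hiR : i₀ ∈ R) (hi : i₀ * i₀ = -1)
    (his : IsSc i₀) :
    ∃ g, g ∈ S ∧ g ∈ Geo.subgroupNormalizer R ∧ g * g = 1 ∧ ¬ IsSc g ∧ (g : Matrix ι ι F).trace = 2 := by
  obtain ⟨z, hz⟩ := his
  haveI := Φ.nonempty
  have hzz : z * z = -1 := by
    have h := congrArg Units.val hi
    rw [Units.val_mul, hz, Matrix.smul_mul, one_mul, smul_smul, Units.val_neg, Units.val_one,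
      ← neg_one_smul F (1 : Matrix ι ι F)] at h
    exact smul_left_injective F (one_ne_zero (α := Matrix ι ι F)) h
  have his : IsSc i₀ := ⟨z, hz⟩
  set a := Φ.γ 0 with had
  set b := i₀ * (Φ.γ 1 * Φ.γ 2) with hbd
  have haa : a * a = 1 := Φ.sq 0
  have hbb : b * b = 1 := by
    rw [hbd, mul_assoc, ← mul_assoc (Φ.γ 1 * Φ.γ 2), ← his.comm (Φ.γ 1 * Φ.γ 2), mul_assoc i₀,
      Φ.pair_sq (by decide), ← mul_assoc, hi, neg_mul_neg, one_mul]
  have h0 : Φ.γ 1 * Φ.γ 2 * a = a * (Φ.γ 1 * Φ.γ 2) := by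
    rw [had, mul_assoc, Φ.anti 2 0 (by decide), mul_neg, ← mul_assoc, Φ.anti 1 0 (by decide), neg_mul, neg_neg,
      mul_assoc]
  have hab : b * a = a * b := by rw [hbd, mul_assoc, h0, ← mul_assoc, his.comm a, mul_assoc]
  have habR : a * b ∈ R := mul_mem (Φ.mem 0) (mul_mem hiR (mul_mem (Φ.mem _) (Φ.mem _)))
  have sq : ∀ {x : GL ι F}, x * x = 1 → i₀ * x * (i₀ * x) = -1 := fun {x} hx => by
    rw [mul_assoc, ← mul_assoc x, ← his.comm x, mul_assoc i₀, hx, mul_one, hi]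
  have habab : a * b * (a * b) = 1 := by
    rw [mul_assoc, ← mul_assoc b, hab, mul_assoc a b, hbb, mul_one, haa]
  have hz1 : 1 - z ≠ 0 := fun h => Φ.h2 (by
    have : z = 1 := by linear_combination -h
    rw [this] at hzz; linear_combination hzz)
  let c : Fˣ := Units.mk0 ((2 * (1 - z))⁻¹) (inv_ne_zero (mul_ne_zero Φ.h2 hz1))
  set g := scU ι c * (ga Φ.h2 (i₀ * a) (sq haa) * ga Φ.h2 (i₀ * b) (sq hbb) *
    ga Φ.h2 (i₀ * (a * b)) (sq habab)) with hg
  set A := (a : Matrix ι ι F) with hAd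
  set B := (b : Matrix ι ι F) with hBd
  have hAA : A * A = 1 := congrArg Units.val haa
  have hBB : B * B = 1 := congrArg Units.val hbb
  have hBA : B * A = A * B := congrArg Units.val hab
  have a1 : ∀ X, A * (A * X) = X := fun X => by rw [← mul_assoc, hAA, one_mul]
  have a2 : ∀ X, B * (B * X) = X := fun X => by rw [← mul_assoc, hBB, one_mul]
  have a3 : ∀ X, B * (A * X) = A * (B * X) := fun X => by rw [← mul_assoc, hBA, mul_assoc]
  have h2 := Φ.h2
  have hgm : (g : Matrix ι ι F) = (2 : F)⁻¹ • (1 - A - B - A * B) := by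
    rw [hg]
    simp only [Units.val_mul, coe_ga, coe_scU, hz, c, Units.val_mk0, Matrix.smul_mul, Matrix.mul_smul, one_mul, ← hAd,
      ← hBd]
    simp only [add_mul, mul_add, one_mul, mul_one, Matrix.smul_mul, Matrix.mul_smul, smul_smul, mul_assoc, hAA, hBB,
      hBA, a1, a2, a3, smul_add, smul_sub]
    match_scalars <;> field_simp <;> linear_combination (norm := skip) hzz <;> ring_nf <;> grind
  refine ⟨g, S.mul_mem (hSc _) (S.mul_mem (S.mul_mem (hSa _ (mul_mem hiR (Φ.mem 0)) _)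
      (hSa _ (mul_mem hiR (mul_mem hiR (mul_mem (Φ.mem _) (Φ.mem _)))) _)) (hSa _ (mul_mem hiR habR) _)),
    mul_mem (Φ.scU_mem _) (mul_mem (mul_mem (Φ.ga_mem (mul_mem hiR (Φ.mem 0)) _)
      (Φ.ga_mem (mul_mem hiR (mul_mem hiR (mul_mem (Φ.mem _) (Φ.mem _)))) _)) (Φ.ga_mem (mul_mem hiR habR) _)), ?_, ?_, ?_⟩
  · refine Units.ext ?_
    rw [Units.val_mul, hgm, Units.val_one]
    simp only [Matrix.smul_mul, Matrix.mul_smul, sub_mul, mul_sub, one_mul, mul_one, mul_assoc, hAA, hBB, hBA, a1, a2,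
      a3, smul_smul, smul_sub]
    match_scalars <;> field_simp <;> ring
  · have tA : A.trace = 0 := trace_eq_zero Φ.h2 (Φ.anti 0 1 (by decide))
    have tB : B.trace = 0 := by
      refine trace_eq_zero Φ.h2 (γ := Φ.γ 1) ?_
      rw [hbd, mul_assoc, mul_assoc, Φ.anti 2 1 (by decide), mul_neg, mul_neg, ← mul_assoc (Φ.γ 1),
        ← mul_assoc (Φ.γ 1) i₀, ← his.comm (Φ.γ 1)]
      simp only [mul_assoc]
    rintro ⟨l, hl⟩
    have tAB : (A * B).trace = 0 := by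
      refine trace_eq_zero Φ.h2 (a := a * b) (γ := Φ.γ 3) ?_
      rw [hbd, had, ← mul_assoc, ← his.comm (Φ.γ 0), mul_assoc i₀, mul_assoc i₀, mul_assoc, mul_assoc (Φ.γ 1),
        Φ.anti 2 3 (by decide), mul_neg, ← mul_assoc (Φ.γ 1), Φ.anti 1 3 (by decide), neg_mul, neg_neg,
        ← mul_assoc (Φ.γ 0), ← mul_assoc (Φ.γ 0), Φ.anti 0 3 (by decide), neg_mul, neg_mul, mul_neg,
        ← mul_assoc (Φ.γ 3) i₀, ← his.comm (Φ.γ 3)]
      simp only [mul_assoc]
    have h1 := congrArg (fun M : Matrix ι ι F => (M * A).trace) (hgm.symm.trans hl)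
    simp only [Matrix.smul_mul, sub_mul, one_mul, hAA, mul_assoc, hBA, a1, Matrix.trace_smul, Matrix.trace_sub, tA, tB,
      tAB, Matrix.trace_one, Φ.card4, smul_eq_mul, mul_zero, sub_zero, zero_sub] at h1
    have h22 : (2 : F)⁻¹ * 2 = 1 := inv_mul_cancel₀ h2
    refine h2 ?_
    push_cast at h1
    linear_combination -h1 - 2 * h22
  · have tA : A.trace = 0 := trace_eq_zero Φ.h2 (Φ.anti 0 1 (by decide))
    have tB : B.trace = 0 := by
      refine trace_eq_zero Φ.h2 (γ := Φ.γ 1) ?_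
      rw [hbd, mul_assoc, mul_assoc, Φ.anti 2 1 (by decide), mul_neg, mul_neg, ← mul_assoc (Φ.γ 1),
        ← mul_assoc (Φ.γ 1) i₀, ← his.comm (Φ.γ 1)]
      simp only [mul_assoc]
    have tAB : (A * B).trace = 0 := by
      refine trace_eq_zero Φ.h2 (a := a * b) (γ := Φ.γ 3) ?_
      rw [hbd, had, ← mul_assoc, ← his.comm (Φ.γ 0), mul_assoc i₀, mul_assoc i₀, mul_assoc, mul_assoc (Φ.γ 1),
        Φ.anti 2 3 (by decide), mul_neg, ← mul_assoc (Φ.γ 1), Φ.anti 1 3 (by decide), neg_mul, neg_neg,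
        ← mul_assoc (Φ.γ 0), ← mul_assoc (Φ.γ 0), Φ.anti 0 3 (by decide), neg_mul, neg_mul, mul_neg,
        ← mul_assoc (Φ.γ 3) i₀, ← his.comm (Φ.γ 3)]
      simp only [mul_assoc]
    rw [hgm, Matrix.trace_smul, Matrix.trace_sub, Matrix.trace_sub, Matrix.trace_sub, tA, tB, tAB, Matrix.trace_one,
      Φ.card4, show ((4 : ℕ) : F) = 2 * 2 by norm_num]
    simp [h2]

end Frame

end Cfsg.Agent.C6Dim4
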