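import Mathlib

/-!
Groups of exponent dividing four of order at most 2^6 all of whose characteristic abelian subgroups are cyclic.
-/

set_option autoImplicit false
set_option linter.unusedSectionVars false
set_option linter.style.haveILetI false

namespace Cfsg.Agent.C6Dim4

open scoped commutatorElement

variable {G : Type*} [Group G] [Finite G]

theorem char_inf {A B : Subgroup G} [hA : A.Characteristic] [hB : B.Characteristic] : (A ⊓ B).Characteristic :=
  Subgroup.characteristic_iff_comap_eq.2 fun φ => by
    rw [Subgroup.comap_inf, Subgroup.characteristic_iff_comap_eq.1 hA φ, Subgroup.characteristic_iff_comap_eq.1 hB φ]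

theorem char_sup {A B : Subgroup G} [hA : A.Characteristic] [hB : B.Characteristic] : (A ⊔ B).Characteristic :=
  Subgroup.characteristic_iff_map_eq.2 fun φ => by
    rw [Subgroup.map_sup, Subgroup.characteristic_iff_map_eq.1 hA φ, Subgroup.characteristic_iff_map_eq.1 hB φ]

theorem char_centralizer {A : Subgroup G} [hA : A.Characteristic] :
    (Subgroup.centralizer (A : Set G)).Characteristic := by
  refine Subgroup.characteristic_iff_le_comap.2 fun φ x hx => ?_
  rw [Subgroup.mem_comap, Subgroup.mem_centralizer_iff]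
  intro a ha
  have ha' : φ.symm a ∈ A := by
    have := Subgroup.characteristic_iff_le_comap.1 hA φ.symm ha
    simpa using this
  have := congrArg φ (Subgroup.mem_centralizer_iff.1 hx _ ha')
  simpa using this

theorem card_le_four (he : ∀ g : G, g ^ 4 = 1) (A : Subgroup G) [IsCyclic A] : Nat.card A ∣ 4 := by
  rw [← IsCyclic.exponent_eq_card]
  exact Monoid.exponent_dvd_of_forall_pow_eq_one fun a => Subtype.ext (he a)

/-- Commutators commute with the second centre. -/
theorem commute_ucs_two {z x : G} (hz : z ∈ Subgroup.upperCentralSeries G 2) (hx : x ∈ commutator G) :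
    z * x = x * z := by
  have hc : ∀ g : G, z * g * z⁻¹ * g⁻¹ ∈ Subgroup.center G := fun g => by
    have := Subgroup.mem_upperCentralSeries_succ_iff.1 hz g
    rwa [Subgroup.upperCentralSeries_one] at this
  have hmul : ∀ g h, z * (g * h) * z⁻¹ * (g * h)⁻¹ = z * g * z⁻¹ * g⁻¹ * (z * h * z⁻¹ * h⁻¹) := fun g h => by
    calc z * (g * h) * z⁻¹ * (g * h)⁻¹ = z * g * z⁻¹ * ((z * h * z⁻¹ * h⁻¹) * g⁻¹) := by group
      _ = z * g * z⁻¹ * (g⁻¹ * (z * h * z⁻¹ * h⁻¹)) := by rw [Subgroup.mem_center_iff.1 (hc h) g⁻¹]
      _ = _ := by group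
  let φ : G →* Subgroup.center G := MonoidHom.mk' (fun g => ⟨z * g * z⁻¹ * g⁻¹, hc g⟩)
    (fun g h => Subtype.ext (hmul g h))
  have h1 : φ x = 1 := by
    rw [← MonoidHom.mem_ker]
    rw [commutator_def] at hx
    refine (Subgroup.commutator_le.2 fun a _ b _ => ?_) hx
    rw [MonoidHom.mem_ker, map_commutatorElement, commutatorElement_eq_one_iff_mul_comm]
    exact Subtype.ext (Subgroup.mem_center_iff.1 (φ b).2 (φ a : G))
  have h2 : z * x * z⁻¹ * x⁻¹ = 1 := congrArg Subtype.val h1
  calc z * x = (z * x * z⁻¹ * x⁻¹) * (x * z) := by group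
    _ = x * z := by rw [h2, one_mul]

theorem commutator_le_center [Group.IsNilpotent G]
    (h : commutator G ⊓ Subgroup.upperCentralSeries G 2 ≤ Subgroup.center G) :
    commutator G ≤ Subgroup.center G := by
  obtain ⟨n, hn⟩ := Group.IsNilpotent.nilpotent G
  suffices ∀ k, commutator G ⊓ Subgroup.upperCentralSeries G k ≤ Subgroup.center G by
    exact le_trans (le_inf le_rfl (hn ▸ le_top)) (this n)
  intro k
  induction k with
  | zero => rw [Subgroup.upperCentralSeries_zero]; exact inf_le_right.trans bot_le
  | succ k ih =>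
    rintro x ⟨hx, hx'⟩
    refine h ⟨hx, Subgroup.mem_upperCentralSeries_succ_iff.2 fun y => ?_⟩
    rw [Subgroup.upperCentralSeries_one]
    refine ih ⟨?_, Subgroup.mem_upperCentralSeries_succ_iff.1 hx' y⟩
    have hy : y * x⁻¹ * y⁻¹ ∈ commutator G :=
      (inferInstance : (commutator G).Normal).conj_mem _ (inv_mem hx) y
    have := mul_mem hx hy
    rwa [← mul_assoc, ← mul_assoc] at this

/-- A group of order eight has derived subgroup of index at least four. -/
theorem four_le_index {Q : Type*} [Group Q] [Finite Q] (hQ : Nat.card Q = 8) :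
    4 ≤ (commutator Q).index := by
  by_cases hc : ∀ a b : Q, a * b = b * a
  · have : commutator Q = ⊥ := by
      rw [commutator_def, Subgroup.commutator_eq_bot_iff_le_centralizer]
      exact fun a _ => Subgroup.mem_centralizer_iff.2 fun b _ => hc b a
    rw [this, Subgroup.index_bot, hQ]; norm_num
  · haveI : Fact (Nat.Prime 2) := ⟨Nat.prime_two⟩
    have hP : IsPGroup 2 Q := IsPGroup.of_card (n := 3) (by rw [hQ]; rfl)
    haveI : Nontrivial Q := by
      rw [← Finite.one_lt_card_iff_nontrivial, hQ]; norm_num
    haveI := hP.center_nontrivial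
    have h1 : 1 < Nat.card (Subgroup.center Q) := Finite.one_lt_card_iff_nontrivial.2 inferInstance
    have hdvd : Nat.card (Subgroup.center Q) ∣ 8 := hQ ▸ Subgroup.card_subgroup_dvd_card _
    have hmul := Subgroup.card_mul_index (Subgroup.center Q)
    rw [hQ] at hmul
    have hne8 : Nat.card (Subgroup.center Q) ≠ 8 := fun e => hc fun a b => by
      have : Subgroup.center Q = ⊤ := Subgroup.eq_top_of_card_eq _ (e.trans hQ.symm)
      exact (Subgroup.mem_center_iff.1 (this ▸ Subgroup.mem_top b)) a
    have hne4 : Nat.card (Subgroup.center Q) ≠ 4 := fun e => hc fun a b => by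
      haveI : IsCyclic (Q ⧸ Subgroup.center Q) := isCyclic_of_prime_card (p := 2) (by
        rw [← Subgroup.index_eq_card]; rw [e] at hmul; omega)
      exact (MonoidHom.isMulCommutative_of_isCyclic_of_ker_le_center (QuotientGroup.mk' (Subgroup.center Q))
        (by rw [QuotientGroup.ker_mk'])).is_comm.comm a b
    have hle : Nat.card (Subgroup.center Q) ≤ 8 := Nat.le_of_dvd (by norm_num) hdvd
    have h2 : Nat.card (Subgroup.center Q) = 2 := by
      interval_cases (Nat.card (Subgroup.center Q)) <;> simp_all
    rw [h2] at hmul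
    have hcomm : commutator Q ≤ Subgroup.center Q := by
      have hab : ∀ a b : Q ⧸ Subgroup.center Q, a * b = b * a :=
        (IsPGroup.isMulCommutative_of_card_eq_prime_sq (p := 2) (by rw [← Subgroup.index_eq_card]; omega)).is_comm.comm
      rw [commutator_def, Subgroup.commutator_le]
      intro a _ b _
      rw [← QuotientGroup.eq_one_iff]
      show QuotientGroup.mk' (Subgroup.center Q) ⁅a, b⁆ = 1
      rw [map_commutatorElement, commutatorElement_eq_one_iff_mul_comm]
      exact hab _ _
    have := Subgroup.index_antitone hcomm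
    have hne : (commutator Q).index ≠ 0 := Subgroup.index_ne_zero_of_finite
    omega

/-- The second centre meets the derived subgroup in the centre, when the group has order `2^5` and centre of
order two. -/
theorem no_four (he : ∀ g : G, g ^ 4 = 1)
    (hC : ∀ A : Subgroup G, A.Characteristic → IsMulCommutative A → IsCyclic A)
    (hG : Nat.card G = 32) (hZ : Nat.card (Subgroup.center G) = 2) :
    commutator G ⊓ Subgroup.upperCentralSeries G 2 ≤ Subgroup.center G := by
  by_contra hcon
  set A := commutator G ⊓ Subgroup.upperCentralSeries G 2 with hAdef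
  haveI hAchar : A.Characteristic := char_inf
  haveI hAcyc : IsCyclic A := hC A hAchar
    ⟨⟨fun x y => Subtype.ext (commute_ucs_two (x := (y : G)) x.2.2 y.2.1)⟩⟩
  obtain ⟨a, haA, haZ⟩ := SetLike.not_le_iff_exists.1 hcon
  have hA4 : Nat.card A = 4 := by
    have hd := card_le_four he A
    have hle : Nat.card A ≤ 4 := Nat.le_of_dvd (by norm_num) hd
    have h3 : 3 ≤ Nat.card A := by
      by_contra h
      refine haZ (Subgroup.mem_center_iff.2 fun g => ?_)
      have hga : g * a * g⁻¹ ∈ A := (inferInstance : A.Normal).conj_mem _ haA g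
      have h2 : Nat.card A ≤ 2 := by omega
      have : g * a * g⁻¹ = a := by
        by_contra hne
        have hinj : Function.Injective ![(1 : A), ⟨a, haA⟩, ⟨g * a * g⁻¹, hga⟩] := by
          intro i j hij
          have ha1 : a ≠ 1 := fun e => haZ (e ▸ one_mem _)
          have hga1 : g * a * g⁻¹ ≠ 1 := fun e => ha1 (conj_eq_one_iff.1 e)
          fin_cases i <;> fin_cases j <;>
            first
              | rfl
              | (exfalso; simp [Subtype.ext_iff, ha1, hga1, Ne.symm ha1, Ne.symm hga1, hne, Ne.symm hne] at hij)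
        have := Nat.card_le_card_of_injective _ hinj
        simp at this
        omega
      exact mul_inv_eq_iff_eq_mul.1 this
    interval_cases (Nat.card A) <;> simp_all
  -- the generator
  obtain ⟨b₀, hb₀⟩ := IsCyclic.exists_generator (α := A)
  set b : G := (b₀ : G) with hbdef
  have hbord : orderOf b = 4 := by
    rw [hbdef, Subgroup.orderOf_coe, orderOf_eq_card_of_forall_mem_zpowers hb₀, hA4]
  have hmemA : ∀ x ∈ A, ∃ k : ℕ, k < 4 ∧ x = b ^ k := fun x hx => by
    classical
    obtain ⟨k, hk⟩ := Finset.mem_image.1 (mem_zpowers_iff_mem_range_orderOf.1 (hb₀ ⟨x, hx⟩))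
    refine ⟨k, ?_, ?_⟩
    · have := Finset.mem_range.1 hk.1
      rwa [← Subgroup.orderOf_coe, ← hbdef, hbord] at this
    · exact (congrArg Subtype.val hk.2).symm.trans (by simp [hbdef])
  have hb2 : b ^ 2 ∈ Subgroup.center G := Subgroup.mem_center_iff.2 fun g => by
    obtain ⟨k, hk4, hk⟩ := hmemA _ ((inferInstance : A.Normal).conj_mem b b₀.2 g)
    have hord : orderOf (b ^ k) = 4 := by rw [← hk, ← hbord]; exact orderOf_injective (MulAut.conj g).toMonoidHom (MulAut.conj g).injective b
    have e : g * b ^ 2 * g⁻¹ = b ^ 2 := by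
      have hpow : g * b ^ 2 * g⁻¹ = (b ^ k) ^ 2 := by rw [← hk, conj_pow]
      rw [hpow]
      interval_cases k
      · simp at hord
      · rw [pow_one]
      · exfalso
        have h := pow_orderOf_eq_one b
        rw [hbord] at h
        have h2 : orderOf (b ^ 2) ∣ 2 := orderOf_dvd_of_pow_eq_one (by rw [← pow_mul]; exact h)
        rw [hord] at h2
        exact absurd (Nat.le_of_dvd (by norm_num) h2) (by norm_num)
      · rw [← pow_mul, pow_succ' b 5]
        rw [show (5 : ℕ) = 4 + 1 from rfl, pow_add, he b, one_mul, pow_one, pow_two]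
    exact mul_inv_eq_iff_eq_mul.1 e
  have hb1 : b ∉ Subgroup.center G := fun hb => haZ (by
    obtain ⟨k, -, hk⟩ := hmemA a haA
    exact hk ▸ pow_mem hb k)
  -- the centraliser
  let C := Subgroup.centralizer (A : Set G)
  haveI hCchar : C.Characteristic := char_centralizer
  have hCmem : ∀ x, x ∈ C ↔ b * x = x * b := fun x => by
    rw [Subgroup.mem_centralizer_iff]
    refine ⟨fun h => h b b₀.2, fun h y hy => ?_⟩
    obtain ⟨k, -, rfl⟩ := hmemA y hy
    exact ((show Commute b x from h).pow_left k).eq
  have hinv : ∀ x, x ∉ C → x * b * x⁻¹ = b ^ 3 := fun x hx => by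
    obtain ⟨k, hk4, hk⟩ := hmemA _ ((inferInstance : A.Normal).conj_mem b b₀.2 x)
    have hord : orderOf (b ^ k) = 4 := by rw [← hk, ← hbord]; exact orderOf_injective (MulAut.conj x).toMonoidHom (MulAut.conj x).injective b
    interval_cases k
    · simp at hord
    · rw [pow_one] at hk
      exact absurd ((hCmem x).2 (mul_inv_eq_iff_eq_mul.1 hk).symm) hx
    · exfalso
      have h := pow_orderOf_eq_one b
      rw [hbord] at h
      have h2 : orderOf (b ^ 2) ∣ 2 := orderOf_dvd_of_pow_eq_one (by rw [← pow_mul]; exact h)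
      rw [hord] at h2
      exact absurd (Nat.le_of_dvd (by norm_num) h2) (by norm_num)
    · exact hk
  obtain ⟨h₀, hh₀⟩ : ∃ h, h ∉ C := by
    by_contra hall
    push Not at hall
    exact hb1 (Subgroup.mem_center_iff.2 fun g => ((hCmem g).1 (hall g)).symm)
  have hprod : ∀ x, x ∉ C → ∀ y, y ∉ C → x * y ∈ C := fun x hx y hy => by
    rw [hCmem, eq_comm, ← mul_inv_eq_iff_eq_mul]
    calc x * y * b * (x * y)⁻¹ = x * (y * b * y⁻¹) * x⁻¹ := by group
      _ = (x * b * x⁻¹) ^ 3 := by rw [hinv y hy, conj_pow]
      _ = b := by rw [hinv x hx, ← pow_mul, show 3 * 3 = 4 * 2 + 1 from rfl, pow_add, pow_mul, he b, one_pow,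
          one_mul, pow_one]
  have hCindex : C.index = 2 := Subgroup.index_eq_two_iff.2 ⟨h₀, fun x => by
    by_cases hx : x ∈ C
    · exact Or.inr ⟨hx, fun h => hh₀ ((C.mul_mem_cancel_left hx).1 h)⟩
    · exact Or.inl ⟨hprod x hx h₀ hh₀, hx⟩⟩
  have hCcard : Nat.card C = 16 := by
    have := C.card_mul_index; rw [hCindex, hG] at this; omega
  -- the derived subgroup
  have hcC : commutator G ≤ C := fun x hx => (hCmem x).2 (commute_ucs_two b₀.2.2 hx)
  haveI : A.Normal := inferInstance
  have hcI : 4 ≤ (commutator G).index := by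
    have hQ : Nat.card (G ⧸ A) = 8 := by
      have := A.card_mul_index; rw [hA4, hG, Subgroup.index_eq_card] at this; omega
    have h4 := four_le_index hQ
    have hmap : (commutator G).map (QuotientGroup.mk' A) = commutator (G ⧸ A) := by
      rw [commutator_def, commutator_def, Subgroup.map_commutator,
        Subgroup.map_top_of_surjective _ (QuotientGroup.mk'_surjective A)]
    rwa [← hmap, Subgroup.index_map, QuotientGroup.ker_mk', sup_eq_left.2 (inf_le_left : A ≤ commutator G),
      MonoidHom.range_eq_top.2 (QuotientGroup.mk'_surjective A), Subgroup.index_top, mul_one] at h4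
  have hcomm : IsMulCommutative (commutator G) := by
    let A' := A.subgroupOf (commutator G)
    haveI : A'.Normal := inferInstance
    have hcard' : Nat.card (commutator G) ≤ 8 := by
      have hmul := (commutator G).card_mul_index
      rw [hG] at hmul
      nlinarith
    haveI : IsCyclic (commutator G ⧸ A') := by
      have hA' : Nat.card A' = 4 := by
        rw [Nat.card_congr (Subgroup.subgroupOfEquivOfLe (inf_le_left : A ≤ commutator G)).toEquiv, hA4]
      have hmul := A'.card_mul_index
      rw [hA', Subgroup.index_eq_card] at hmul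
      have hpos : 0 < Nat.card (commutator G ⧸ A') := Nat.card_pos
      rcases (by omega : Nat.card (commutator G ⧸ A') = 1 ∨ Nat.card (commutator G ⧸ A') = 2) with h | h
      · haveI := (Nat.card_eq_one_iff_unique.1 h).1
        infer_instance
      · exact isCyclic_of_prime_card h
    refine MonoidHom.isMulCommutative_of_isCyclic_of_ker_le_center (QuotientGroup.mk' A') ?_
    rw [QuotientGroup.ker_mk']
    intro x hx
    refine Subgroup.mem_center_iff.2 fun y => Subtype.ext ?_
    exact (commute_ucs_two (z := (x : G)) (Subgroup.mem_subgroupOf.1 hx).2 y.2).symm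
  have hcA : commutator G ≤ A := by
    haveI := hC (commutator G) inferInstance hcomm
    have hle := Nat.le_of_dvd (by norm_num) (card_le_four he (commutator G))
    have : A = commutator G := Subgroup.eq_of_le_of_card_ge inf_le_left (by omega)
    exact this.ge
  -- squares in `C`
  have hb2' : ∀ k : G, k ∈ A → k ^ 2 = 1 → k ∈ Subgroup.center G := fun k hk hk2 => by
    obtain ⟨m, hm, rfl⟩ := hmemA k hk
    interval_cases m
    · simp
    · rw [pow_one] at hk2
      have := orderOf_dvd_of_pow_eq_one hk2
      rw [hbord] at this; norm_num at this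
    · exact hb2
    · rw [← pow_mul] at hk2
      have := orderOf_dvd_of_pow_eq_one hk2
      rw [hbord] at this; norm_num at this
  have hsq : ∀ x ∈ C, x ^ 2 ∈ Subgroup.center G := fun x hx => by
    refine hb2' _ ?_ (by rw [← pow_mul]; exact he x)
    by_contra hx2
    let A' := A.subgroupOf C
    have hAC : A ≤ C := fun y hy => by
      obtain ⟨k, -, rfl⟩ := hmemA y hy
      exact (hCmem _).2 ((Commute.refl b).pow_right k).eq
    haveI : A'.Normal := inferInstance
    haveI : IsCyclic (C ⧸ A') := by
      have hA' : Nat.card A' = 4 := by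
        rw [Nat.card_congr (Subgroup.subgroupOfEquivOfLe hAC).toEquiv, hA4]
      have hQ : Nat.card (C ⧸ A') = 4 := by
        have hmul := A'.card_mul_index
        rw [hA', hCcard, Subgroup.index_eq_card] at hmul; omega
      set q : C ⧸ A' := QuotientGroup.mk ⟨x, hx⟩ with hq
      have hd : orderOf q ∣ 4 := hQ ▸ orderOf_dvd_natCard q
      have h2 : q ^ 2 ≠ 1 := fun h => hx2 (by
        rw [hq, ← QuotientGroup.mk_pow, QuotientGroup.eq_one_iff] at h
        exact Subgroup.mem_subgroupOf.1 h)
      have hle := Nat.le_of_dvd (by norm_num) hd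
      have : orderOf q = 4 := by
        have hpos : 0 < orderOf q := orderOf_pos q
        by_contra hne
        refine h2 (orderOf_dvd_iff_pow_eq_one.1 ?_)
        interval_cases (orderOf q) <;> simp_all
      exact isCyclic_of_orderOf_eq_card q (this.trans hQ.symm)
    have hCcomm : IsMulCommutative C := by
      refine MonoidHom.isMulCommutative_of_isCyclic_of_ker_le_center (QuotientGroup.mk' A') ?_
      rw [QuotientGroup.ker_mk']
      intro y hy
      refine Subgroup.mem_center_iff.2 fun z => Subtype.ext ?_
      exact (Subgroup.mem_centralizer_iff.1 z.2 (y : G) (Subgroup.mem_subgroupOf.1 hy)).symm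
    haveI := hC C hCchar hCcomm
    have := Nat.le_of_dvd (by norm_num) (card_le_four he C)
    omega
  have hCcent : ∀ v ∈ C, ∀ u : G, ⁅v, u⁆ ∈ Subgroup.center G := fun v hv u => by
    have hk : ⁅v, u⁆ ∈ A := hcA (Subgroup.commutator_mem_commutator (Subgroup.mem_top v) (Subgroup.mem_top u))
    refine hb2' _ hk ?_
    set k := ⁅v, u⁆ with hkdef
    have hvk : k * v = v * k := Subgroup.mem_centralizer_iff.1 hv k hk
    have e1 : u * v * u⁻¹ = k⁻¹ * v := by rw [hkdef, commutatorElement_def]; group
    have e2 := conj_pow (i := 2) (a := u) (b := v)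
    rw [e1, ((show Commute k v from hvk).inv_left).mul_pow, Subgroup.mem_center_iff.1 (hsq v hv) u,
      mul_assoc, mul_inv_cancel, mul_one, eq_comm] at e2
    have : k⁻¹ ^ 2 * v ^ 2 = 1 * v ^ 2 := by rw [one_mul]; exact e2.symm
    have h3 := mul_right_cancel this
    rwa [inv_pow, inv_eq_one] at h3
  have hall : commutator G ≤ Subgroup.center G := by
    let π := QuotientGroup.mk' (Subgroup.center G)
    have h1 : ∀ v ∈ C, ∀ u, π v * π u = π u * π v := fun v hv u => by
      rw [← commutatorElement_eq_one_iff_mul_comm, ← map_commutatorElement]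
      exact (QuotientGroup.eq_one_iff _).2 (hCcent v hv u)
    rw [commutator_def, Subgroup.commutator_le]
    intro u _ v _
    refine (QuotientGroup.eq_one_iff _).1 ?_
    show π ⁅u, v⁆ = 1
    rw [map_commutatorElement, commutatorElement_eq_one_iff_mul_comm]
    by_cases hu : u ∈ C
    · exact h1 u hu v
    by_cases hv : v ∈ C
    · exact (h1 v hv u).symm
    have hc := h1 _ (hprod u hu v hv) u
    rw [map_mul, mul_assoc] at hc
    exact (mul_left_cancel hc).symm
  exact hb1 (hall (inf_le_left (a := commutator G) b₀.2))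

/-- All squares are central. -/
theorem sq_central (he : ∀ g : G, g ^ 4 = 1)
    (hC : ∀ A : Subgroup G, A.Characteristic → IsMulCommutative A → IsCyclic A)
    (h : (Nat.card G = 64 ∧ Nat.card (Subgroup.center G) = 4) ∨
      (Nat.card G = 32 ∧ Nat.card (Subgroup.center G) = 2)) (g : G) :
    g * g ∈ Subgroup.center G := by
  haveI : Fact (Nat.Prime 2) := ⟨Nat.prime_two⟩
  haveI : Group.IsNilpotent G := (IsPGroup.of_card (p := 2) (n := if Nat.card G = 64 then 6 else 5) (by
    rcases h with h | h <;> rw [h.1] <;> norm_num)).isNilpotent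
  have big : Nat.card (Subgroup.center G) = 4 → ∀ A : Subgroup G, A.Characteristic → IsMulCommutative A →
      A ≤ Subgroup.center G := fun hZ A hA hAc => by
    haveI := hA
    have hcm : IsMulCommutative ↥(A ⊔ Subgroup.center G) := by
      rw [← Subgroup.le_centralizer_iff_isMulCommutative]
      have hA' : A ≤ Subgroup.centralizer (A : Set G) := Subgroup.le_centralizer_iff_isMulCommutative.2 hAc
      refine sup_le ?_ ((Subgroup.center_le_centralizer _))
      intro x hx
      rw [Subgroup.mem_centralizer_iff]
      intro y hy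
      obtain ⟨a, ha, z, hz, rfl⟩ := Subgroup.mem_sup_of_normal_right.1 hy
      have e1 := Subgroup.mem_centralizer_iff.1 (hA' hx) a ha
      rw [mul_assoc, ← Subgroup.mem_center_iff.1 hz x, ← mul_assoc, e1, mul_assoc]
    haveI := hC _ char_sup hcm
    have hle := Nat.le_of_dvd (by norm_num) (card_le_four he (A ⊔ Subgroup.center G))
    have := Subgroup.eq_of_le_of_card_ge (le_sup_right : Subgroup.center G ≤ A ⊔ Subgroup.center G) (by omega)
    exact le_sup_left.trans this.ge
  have hcent : commutator G ≤ Subgroup.center G := by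
    refine commutator_le_center ?_
    rcases h with ⟨-, hZ⟩ | ⟨hG, hZ⟩
    · exact big hZ _ char_inf ⟨⟨fun x y => Subtype.ext (commute_ucs_two (x := (y : G)) x.2.2 y.2.1)⟩⟩
    · exact no_four he hC hG hZ
  have hcm : ∀ a b : G, ⁅a, b⁆ ∈ Subgroup.center G := fun a b =>
    hcent (Subgroup.commutator_mem_commutator (Subgroup.mem_top a) (Subgroup.mem_top b))
  have h2 : ∀ a b : G, ⁅a * a, b⁆ = ⁅a, b⁆ ^ 2 := fun a b => by
    have e : ⁅a * a, b⁆ = a * ⁅a, b⁆ * a⁻¹ * ⁅a, b⁆ := by simp only [commutatorElement_def]; group
    rw [e, Subgroup.mem_center_iff.1 (hcm a b) a, mul_inv_cancel_right, pow_two]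
  rcases h with ⟨-, hZ⟩ | ⟨-, hZ⟩
  · let S := Subgroup.closure (Set.range fun a : G => a * a)
    haveI hS : S.Characteristic := Subgroup.characteristic_iff_map_le.2 fun φ => by
      rw [MonoidHom.map_closure]
      refine Subgroup.closure_mono ?_
      rintro _ ⟨_, ⟨a, rfl⟩, rfl⟩
      exact ⟨φ a, by simp⟩
    have hSc : IsMulCommutative S := by
      refine Subgroup.isMulCommutative_closure ?_
      rintro _ ⟨a, rfl⟩ _ ⟨b, rfl⟩
      rw [← commutatorElement_eq_one_iff_mul_comm, h2, ← commutatorElement_inv (b * b) a, h2, ← inv_pow, ← pow_mul]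
      exact he _
    exact big hZ S hS hSc (Subgroup.subset_closure ⟨g, rfl⟩)
  · refine Subgroup.mem_center_iff.2 fun b => ?_
    have h1 : ⁅g, b⁆ ^ 2 = 1 := by
      have := pow_card_eq_one' (G := Subgroup.center G) (x := ⟨_, hcm g b⟩)
      rw [hZ] at this
      exact congrArg Subtype.val this
    rw [← h2, commutatorElement_eq_one_iff_mul_comm] at h1
    exact h1.symm

end Cfsg.Agent.C6Dim4
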