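import Cfsg.Prelude.Def_GeometricClasses
import Cfsg.Agent.C6Dim4.TwoGroup

/-!
Five pairwise anticommuting involutions in a four-dimensional group of symplectic type.
-/

set_option autoImplicit false
set_option linter.unusedSectionVars false
set_option linter.style.haveILetI false

open scoped Matrix
open Matrix

namespace Cfsg.Agent.C6Dim4

variable {F : Type*} [Field F] {ι : Type} [Fintype ι] [DecidableEq ι]

/-- Scalar matrices. -/
def IsSc (g : GL ι F) : Prop := ∃ c : F, (g : Matrix ι ι F) = c • (1 : Matrix ι ι F)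

theorem IsSc.comm {g : GL ι F} (h : IsSc g) (x : GL ι F) : g * x = x * g := by
  obtain ⟨c, hc⟩ := h
  exact Units.ext (by simp [hc])

theorem IsSc.neg {g : GL ι F} (h : IsSc g) : IsSc (-g) := by
  obtain ⟨c, hc⟩ := h
  exact ⟨-c, by simp [hc]⟩

theorem isSc_one : IsSc (1 : GL ι F) := ⟨1, by simp⟩

/-- `-x` when `b`, else `x`. -/
def sgn (b : Bool) (x : GL ι F) : GL ι F := if b then -x else x

/-- `a` twists `γ` by `b`. -/
def Tw (a γ : GL ι F) (b : Bool) : Prop := a * γ = sgn b (γ * a)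

theorem Tw.mul {a a' γ : GL ι F} {b b' : Bool} (h : Tw a γ b) (h' : Tw a' γ b') : Tw (a * a') γ (xor b b') := by
  unfold Tw sgn at *
  rw [mul_assoc, h']
  cases b <;> cases b' <;>
    simp only [Bool.false_eq_true, if_false, if_true, Bool.xor_false, Bool.xor_true, Bool.not_true,
      Bool.not_false, mul_neg, ← mul_assoc] at * <;>
    simp [h, neg_mul, mul_assoc]

theorem tw_one (γ : GL ι F) : Tw 1 γ false := by simp [Tw, sgn]

theorem neg_ne_self [Nonempty ι] (h2 : (2 : F) ≠ 0) (x : GL ι F) : -x ≠ x := fun h => by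
  have h1 : ((-1 : GL ι F) : Matrix ι ι F) = ((1 : GL ι F) : Matrix ι ι F) := by
    have := congrArg (fun y => y * x⁻¹) h
    simp only [neg_mul, mul_inv_cancel] at this
    rw [this]
  obtain ⟨i⟩ := (inferInstance : Nonempty ι)
  have h3 := congrFun (congrFun h1 i) i
  simp at h3
  exact h2 (by linear_combination -h3)

theorem Tw.unique [Nonempty ι] (h2 : (2 : F) ≠ 0) {a γ : GL ι F} {b b' : Bool} (h : Tw a γ b) (h' : Tw a γ b') :
    b = b' := by
  unfold Tw sgn at *
  rw [h] at h'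
  cases b <;> cases b' <;> simp at h' <;>
    first
      | rfl
      | exact absurd h' (neg_ne_self h2 _)
      | exact absurd h'.symm (neg_ne_self h2 _)

theorem trace_eq_zero (h2 : (2 : F) ≠ 0) {a γ : GL ι F} (h : a * γ = -(γ * a)) :
    (a : Matrix ι ι F).trace = 0 := by
  have e : (a : Matrix ι ι F) = -(((γ * a * γ⁻¹ : GL ι F)) : Matrix ι ι F) := by
    rw [← Units.val_neg, ← neg_mul, ← h, mul_inv_cancel_right]
  have e2 := congrArg Matrix.trace e
  rw [Matrix.trace_neg, Units.val_mul, Units.val_mul, Matrix.trace_units_conj] at e2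
  exact (mul_eq_zero.1 (show (2 : F) * (a : Matrix ι ι F).trace = 0 by linear_combination e2)).resolve_left h2

theorem involution_four {a b c d : GL ι F} (ha : a * a = 1) (hb : b * b = 1) (hc : c * c = 1) (hd : d * d = 1)
    (hba : b * a = -(a * b)) (hca : c * a = -(a * c)) (hda : d * a = -(a * d))
    (hcb : c * b = -(b * c)) (hdb : d * b = -(b * d)) (hdc : d * c = -(c * d)) :
    (a * b * c * d) * (a * b * c * d) = 1 ∧ (a * b * c * d) * a = -(a * (a * b * c * d)) ∧
      (a * b * c * d) * b = -(b * (a * b * c * d)) ∧ (a * b * c * d) * c = -(c * (a * b * c * d)) ∧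
      (a * b * c * d) * d = -(d * (a * b * c * d)) := by
  have A : ∀ x, a * (a * x) = x := fun x => by rw [← mul_assoc, ha, one_mul]
  have B : ∀ x, b * (b * x) = x := fun x => by rw [← mul_assoc, hb, one_mul]
  have C : ∀ x, c * (c * x) = x := fun x => by rw [← mul_assoc, hc, one_mul]
  have D : ∀ x, d * (d * x) = x := fun x => by rw [← mul_assoc, hd, one_mul]
  have BA : ∀ x, b * (a * x) = -(a * (b * x)) := fun x => by rw [← mul_assoc, hba, neg_mul, mul_assoc]
  have CA : ∀ x, c * (a * x) = -(a * (c * x)) := fun x => by rw [← mul_assoc, hca, neg_mul, mul_assoc]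
  have DA : ∀ x, d * (a * x) = -(a * (d * x)) := fun x => by rw [← mul_assoc, hda, neg_mul, mul_assoc]
  have CB : ∀ x, c * (b * x) = -(b * (c * x)) := fun x => by rw [← mul_assoc, hcb, neg_mul, mul_assoc]
  have DB : ∀ x, d * (b * x) = -(b * (d * x)) := fun x => by rw [← mul_assoc, hdb, neg_mul, mul_assoc]
  have DC : ∀ x, d * (c * x) = -(c * (d * x)) := fun x => by rw [← mul_assoc, hdc, neg_mul, mul_assoc]
  refine ⟨?_, ?_, ?_, ?_, ?_⟩ <;>
    simp only [mul_assoc, A, B, C, D, BA, CA, DA, CB, DB, DC, ha, hb, hc, hd, hba, hca, hda, hcb, hdb, hdc,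
      mul_neg, neg_neg, mul_one]

/-- Five anticommuting involutions generating `R` modulo scalars. -/
structure Frame (R : Subgroup (GL ι F)) where
  γ : Fin 5 → GL ι F
  h2 : (2 : F) ≠ 0
  card4 : Fintype.card ι = 4
  mem : ∀ i, γ i ∈ R
  neg : (-1 : GL ι F) ∈ R
  sq : ∀ i, γ i * γ i = 1
  anti : ∀ i j, i ≠ j → γ i * γ j = -(γ j * γ i)
  sqr : ∀ u ∈ R, u * u = 1 ∨ u * u = -1
  cc : ∀ u ∈ R, ∀ v ∈ R, u * v = v * u ∨ u * v = -(v * u)
  scal : ∀ u ∈ R, (∀ j : Fin 4, u * γ j.castSucc = γ j.castSucc * u) → IsSc u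
  comm : ∀ X : Matrix ι ι F, (∀ v ∈ R, X * (v : Matrix ι ι F) = (v : Matrix ι ι F) * X) →
    ∃ c : F, X = c • (1 : Matrix ι ι F)

/-- The initial data. -/
structure Pre (R : Subgroup (GL ι F)) : Prop where
  h2 : (2 : F) ≠ 0
  card4 : Fintype.card ι = 4
  sqr : ∀ u ∈ R, u * u = 1 ∨ u * u = -1
  comm : ∀ X : Matrix ι ι F, (∀ v ∈ R, X * (v : Matrix ι ι F) = (v : Matrix ι ι F) * X) →
    ∃ c : F, X = c • (1 : Matrix ι ι F)
  count : Nat.card R = 16 * Nat.card {u : R // IsSc (u : GL ι F)}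
  fin : Finite R

namespace Pre

variable {R : Subgroup (GL ι F)} (P : Pre R)

include P

theorem cc {u v : GL ι F} (hu : u ∈ R) (hv : v ∈ R) : u * v = v * u ∨ u * v = -(v * u) := by
  have h1 := P.sqr u hu
  have h2 := P.sqr v hv
  have h3 := P.sqr _ (mul_mem hu hv)
  have e : u * v = u * v * (u * v) * (v⁻¹ * u⁻¹) := by group
  have hi : ∀ {w : GL ι F}, (w * w = 1 ∨ w * w = -1) → w⁻¹ = w ∨ w⁻¹ = -w := fun {w} h => by
    rcases h with h | h
    · exact Or.inl (inv_eq_of_mul_eq_one_right h)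
    · exact Or.inr (inv_eq_of_mul_eq_one_right (by rw [mul_neg, h, neg_neg]))
  rw [e]
  rcases hi h1 with a | a <;> rcases hi h2 with b | b <;> rcases h3 with c | c <;> rw [a, b, c] <;> simp

theorem exists_anti {u : GL ι F} (hu : u ∈ R) (h : ¬ IsSc u) : ∃ v ∈ R, u * v = -(v * u) := by
  by_contra hcon
  push Not at hcon
  exact h (P.comm u fun v hv => congrArg Units.val ((P.cc hu hv).resolve_right (hcon v hv)))

theorem adjust {x y : GL ι F} (hx : x ∈ R) (hy : y ∈ R) (hxy : x * y = -(y * x)) {u : GL ι F} (hu : u ∈ R) :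
    ∃ m, (m = 1 ∨ m = x ∨ m = y ∨ m = x * y) ∧ (u * m) * x = x * (u * m) ∧ (u * m) * y = y * (u * m) := by
  have hyx : y * x = -(x * y) := by rw [hxy, neg_neg]
  have X : Tw x x false := by simp [Tw, sgn]
  have X' : Tw x y true := hxy
  have Y : Tw y x true := hyx
  have Y' : Tw y y false := by simp [Tw, sgn]
  obtain ⟨b, hb⟩ : ∃ b, Tw u x b := by
    rcases P.cc hu hx with h | h
    exacts [⟨false, h⟩, ⟨true, h⟩]
  obtain ⟨b', hb'⟩ : ∃ b', Tw u y b' := by
    rcases P.cc hu hy with h | h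
    exacts [⟨false, h⟩, ⟨true, h⟩]
  cases b <;> cases b'
  · exact ⟨1, Or.inl rfl, (hb.mul (tw_one x) : _), (hb'.mul (tw_one y) : _)⟩
  · exact ⟨x, Or.inr (Or.inl rfl), (hb.mul X : _), (hb'.mul X' : _)⟩
  · exact ⟨y, Or.inr (Or.inr (Or.inl rfl)), (hb.mul Y : _), (hb'.mul Y' : _)⟩
  · exact ⟨x * y, Or.inr (Or.inr (Or.inr rfl)), (hb.mul (X.mul Y) : _), (hb'.mul (X'.mul Y') : _)⟩

theorem exists_pairs :
    ∃ x y z w : GL ι F, x ∈ R ∧ y ∈ R ∧ z ∈ R ∧ w ∈ R ∧ x * y = -(y * x) ∧ z * w = -(w * z) ∧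
      z * x = x * z ∧ z * y = y * z ∧ w * x = x * w ∧ w * y = y * w := by
  haveI := P.fin
  have hZ : 0 < Nat.card {u : R // IsSc (u : GL ι F)} := by
    haveI : Nonempty {u : R // IsSc (u : GL ι F)} := ⟨⟨1, isSc_one⟩⟩
    exact Nat.card_pos
  obtain ⟨x, hx, hxs⟩ : ∃ x ∈ R, ¬ IsSc x := by
    by_contra hcon
    push Not at hcon
    have := Nat.card_congr (Equiv.subtypeUnivEquiv (p := fun u : R => IsSc (u : GL ι F)) fun u => hcon u u.2)
    have := P.count
    omega
  obtain ⟨y, hy, hxy⟩ := P.exists_anti hx hxs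
  obtain ⟨z, hz, hzs, hzx, hzy⟩ : ∃ z ∈ R, ¬ IsSc z ∧ z * x = x * z ∧ z * y = y * z := by
    by_contra hcon
    push Not at hcon
    let f : Fin 4 × {u : R // IsSc (u : GL ι F)} → R := fun p =>
      p.2.1 * ((![1, ⟨x, hx⟩, ⟨y, hy⟩, ⟨x, hx⟩ * ⟨y, hy⟩] : Fin 4 → R) p.1)⁻¹
    have hf : Function.Surjective f := by
      intro u
      obtain ⟨m, hm, h1, h2⟩ := P.adjust hx hy hxy u.2
      obtain ⟨i, hi⟩ : ∃ i, ((![1, ⟨x, hx⟩, ⟨y, hy⟩, ⟨x, hx⟩ * ⟨y, hy⟩] : Fin 4 → R) i : GL ι F) = m := by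
        rcases hm with rfl | rfl | rfl | rfl
        exacts [⟨0, rfl⟩, ⟨1, rfl⟩, ⟨2, rfl⟩, ⟨3, rfl⟩]
      have hmem : (u : GL ι F) * m ∈ R := by rw [← hi]; exact mul_mem u.2 (SetLike.coe_mem _)
      have hsc : IsSc ((u : GL ι F) * m) := by
        by_contra hns
        exact hcon _ hmem hns h1 h2
      refine ⟨(i, ⟨⟨_, hmem⟩, hsc⟩), Subtype.ext ?_⟩
      simp only [f, Subgroup.coe_mul, Subgroup.coe_inv, hi, mul_inv_cancel_right]
    have := Nat.card_le_card_of_surjective f hf
    rw [Nat.card_prod, Nat.card_fin] at this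
    have := P.count
    omega
  obtain ⟨v, hv, hzv⟩ := P.exists_anti hz hzs
  obtain ⟨m, hm, h1, h2⟩ := P.adjust hx hy hxy hv
  have hmR : m ∈ R ∧ z * m = m * z := by
    rcases hm with rfl | rfl | rfl | rfl
    · exact ⟨one_mem _, by simp⟩
    · exact ⟨hx, hzx⟩
    · exact ⟨hy, hzy⟩
    · exact ⟨mul_mem hx hy, by rw [← mul_assoc, hzx, mul_assoc, hzy, mul_assoc]⟩
  refine ⟨x, y, z, v * m, hx, hy, hz, mul_mem hv hmR.1, hxy, ?_, hzx, hzy, h1, h2⟩
  rw [← mul_assoc, hzv, neg_mul, mul_assoc v z, hmR.2, mul_assoc v m]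

set_option maxHeartbeats 800000 in
/-- The frame from four anticommuting involutions. -/
theorem frame {a b c d : GL ι F} (ha : a ∈ R) (hb : b ∈ R) (hc : c ∈ R) (hd : d ∈ R)
    (haa : a * a = 1) (hbb : b * b = 1) (hcc : c * c = 1) (hdd : d * d = 1)
    (hba : b * a = -(a * b)) (hca : c * a = -(a * c)) (hda : d * a = -(a * d))
    (hcb : c * b = -(b * c)) (hdb : d * b = -(b * d)) (hdc : d * c = -(c * d)) : Nonempty (Frame R) := by
  haveI := P.fin
  haveI : Nonempty ι := Fintype.card_pos_iff.1 (by rw [P.card4]; norm_num)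
  obtain ⟨he, hea, heb, hec, hed⟩ := involution_four haa hbb hcc hdd hba hca hda hcb hdb hdc
  set e := a * b * c * d with hedef
  have heR : e ∈ R := mul_mem (mul_mem (mul_mem ha hb) hc) hd
  have sym : ∀ {u v : GL ι F}, u * v = -(v * u) → v * u = -(u * v) := fun h => by rw [h, neg_neg]
  have hneg : (-1 : GL ι F) ∈ R := by
    have h : a * b * (a * b) ∈ R := mul_mem (mul_mem ha hb) (mul_mem ha hb)
    rwa [mul_assoc, ← mul_assoc b a, hba, neg_mul, mul_assoc a b, hbb, mul_one, mul_neg, haa] at h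
  set g : Fin 4 → GL ι F := ![a, b, c, d] with hg
  have hgR : ∀ j, g j ∈ R := fun j => by fin_cases j <;> simp [hg, ha, hb, hc, hd]
  have hga : ∀ i j, i ≠ j → g i * g j = -(g j * g i) := fun i j hij => by
    fin_cases i <;> fin_cases j <;>
      simp only [hg, Fin.zero_eta, Fin.isValue, Fin.mk_one, Fin.reduceFinMk, Matrix.cons_val, hba, hca, hda, hcb, hdb,
        hdc, neg_neg] <;>
      exact absurd rfl hij
  have he' : ∀ j, Tw e (g j) true := fun j => by
    fin_cases j
    exacts [hea, heb, hec, hed]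
  have hδ : ∀ i j, Tw (e * g i) (g j) (decide (i = j)) := fun i j => by
    by_cases hij : i = j
    · subst hij
      simpa using (he' i).mul (show Tw (g i) (g i) false by simp [Tw, sgn])
    · simpa [hij] using (he' j).mul (show Tw (g i) (g j) true from hga i j hij)
  have hscal : ∀ u ∈ R, (∀ j, u * g j = g j * u) → IsSc u := by
    intro u hu hcomm
    by_contra hns
    let p : (Fin 4 → Bool) → Fin 4 → GL ι F := fun s i => if s i then e * g i else 1
    let m : (Fin 4 → Bool) → GL ι F := fun s => p s 0 * p s 1 * p s 2 * p s 3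
    have hpR : ∀ s i, p s i ∈ R := fun s i => by
      simp only [p]; split_ifs
      exacts [mul_mem heR (hgR i), one_mem _]
    have hmR : ∀ s, m s ∈ R := fun s => mul_mem (mul_mem (mul_mem (hpR _ _) (hpR _ _)) (hpR _ _)) (hpR _ _)
    have hptw : ∀ s i j, Tw (p s i) (g j) (s i && decide (i = j)) := fun s i j => by
      simp only [p]
      cases s i
      · exact tw_one _
      · exact hδ i j
    have hmtw : ∀ s j, Tw (m s) (g j) (s j) := fun s j => by
      have h := (((hptw s 0 j).mul (hptw s 1 j)).mul (hptw s 2 j)).mul (hptw s 3 j)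
      fin_cases j <;> simpa using h
    let Φ : ((Fin 4 → Bool) × {u : R // IsSc (u : GL ι F)}) × Bool → R := fun q =>
      ⟨m q.1.1 * (q.1.2.1 : GL ι F) * (if q.2 then u else 1),
        mul_mem (mul_mem (hmR _) q.1.2.1.2) (by split_ifs <;> simp [hu])⟩
    have hinj : Function.Injective Φ := by
      rintro ⟨⟨s, z⟩, bb⟩ ⟨⟨s', z'⟩, bb'⟩ h
      have h' : m s * (z.1 : GL ι F) * (if bb then u else 1) = m s' * (z'.1 : GL ι F) * (if bb' then u else 1) :=
        congrArg Subtype.val h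
      have tw : ∀ (t : Fin 4 → Bool) (w : {u : R // IsSc (u : GL ι F)}) (β : Bool) (j),
          Tw (m t * (w.1 : GL ι F) * (if β then u else 1)) (g j) (t j) := fun t w β j => by
        have hu' : Tw (if β then u else 1) (g j) false := by
          cases β
          · exact tw_one _
          · exact hcomm j
        simpa using ((hmtw t j).mul (show Tw (w.1 : GL ι F) (g j) false from w.2.comm _)).mul hu'
      have hs : s = s' := funext fun j => (tw s z bb j).unique P.h2 (h' ▸ tw s' z' bb' j)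
      subst hs
      rw [mul_assoc (m s), mul_assoc (m s)] at h'
      have h'' := mul_left_cancel h'
      have hbb' : bb = bb' := by
        obtain ⟨c₁, hc₁⟩ := z.2
        obtain ⟨c₂, hc₂⟩ := z'.2
        have key : ∀ {c₁ c₂ : F} {z z' : GL ι F}, (z : Matrix ι ι F) = c₁ • 1 → (z' : Matrix ι ι F) = c₂ • 1 →
            z * u = z' → False := fun {c₁ c₂ z z'} e1 e2 h => hns (by
          refine ⟨c₁⁻¹ * c₂, ?_⟩
          have hne : c₁ ≠ 0 := fun e0 => z.ne_zero (by rw [e1, e0, zero_smul])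
          have := congrArg Units.val h
          rw [Units.val_mul, e1, e2, Matrix.smul_mul, one_mul] at this
          rw [← inv_smul_smul₀ hne (u : Matrix ι ι F), this, smul_smul])
        cases bb <;> cases bb' <;> simp at h'' <;>
          first
            | rfl
            | exact (key hc₁ hc₂ h'').elim
            | exact (key hc₂ hc₁ h''.symm).elim
      subst hbb'
      simp only [mul_left_inj] at h''
      exact Prod.ext (Prod.ext rfl (Subtype.ext (Subtype.ext h''))) rfl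
    have := Nat.card_le_card_of_injective Φ hinj
    simp only [Nat.card_prod, Nat.card_fun, Nat.card_fin, Nat.card_eq_fintype_card (α := Bool), Fintype.card_bool] at this
    haveI : Nonempty {u : R // IsSc (u : GL ι F)} := ⟨⟨1, isSc_one⟩⟩
    have hpos : 0 < Nat.card {u : R // IsSc (u : GL ι F)} := Nat.card_pos
    have := P.count
    omega
  refine ⟨⟨![a, b, c, d, e], P.h2, P.card4, ?_, hneg, ?_, ?_, P.sqr, fun u hu v hv => P.cc hu hv,
    fun u hu h => hscal u hu fun j => ?_, P.comm⟩⟩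
  · intro i; fin_cases i <;> simp [ha, hb, hc, hd, heR]
  · intro i; fin_cases i <;> simp [haa, hbb, hcc, hdd, he]
  · intro i j hij
    fin_cases i <;> fin_cases j <;>
      simp only [Fin.zero_eta, Fin.isValue, Fin.mk_one, Fin.reduceFinMk, Matrix.cons_val, hba, hca, hda, hcb, hdb,
        hdc, hea, heb, hec, hed, neg_neg] <;>
      exact absurd rfl hij
  · have := h j
    fin_cases j <;> simpa [hg] using this

end Pre

end Cfsg.Agent.C6Dim4
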