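import Cfsg.Agent.C6Dim4.Tools

/-!
Elements of prime order of `SL₄(p)` and the normaliser of a subgroup `2⁶` of symplectic type.
-/

set_option autoImplicit false
set_option linter.unusedSectionVars false
set_option linter.style.haveILetI false

open Polynomial Matrix

namespace Cfsg.Agent.C6Dim4

variable {F : Type*} [Field F] [Fintype F] {p : ℕ} [Fact p.Prime] [CharP F p] {R : Subgroup (GL (Fin 4) F)}

local notation "SL₄" => Geo.specialLinear (Fin 4) F

theorem mem_sl {x : GL (Fin 4) F} : x ∈ SL₄ ↔ (x : Matrix (Fin 4) (Fin 4) F).det = 1 := by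
  rw [show x ∈ SL₄ ↔ Matrix.GeneralLinearGroup.det x = 1 from MonoidHom.mem_ker, Units.ext_iff]
  simp

theorem sl_conj {N : ℕ} (hN : (N : F) ≠ 0) {y h : GL (Fin 4) F} (hy : y ^ N = 1) (hh : h ^ N = 1)
    (hc : (y : Matrix (Fin 4) (Fin 4) F).charpoly = (h : Matrix (Fin 4) (Fin 4) F).charpoly) :
    ∃ g ∈ SL₄, g⁻¹ * y * g = h := by
  obtain ⟨M, hM, hMy⟩ := GLSemi.exists_conj_det (by norm_num : 0 < 4) hN
    (by rw [← Units.val_pow_eq_pow_val, hy, Units.val_one] : (y : Matrix (Fin 4) (Fin 4) F) ^ N = 1)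
    (by rw [← Units.val_pow_eq_pow_val, hh, Units.val_one] : (h : Matrix (Fin 4) (Fin 4) F) ^ N = 1) hc one_ne_zero
  set G := Matrix.GeneralLinearGroup.mkOfDetNeZero M (by rw [hM]; exact one_ne_zero) with hG
  refine ⟨G⁻¹, inv_mem (mem_sl.2 hM), ?_⟩
  rw [inv_inv, mul_inv_eq_iff_eq_mul]
  exact Units.ext hMy

theorem finish {x w g h : GL (Fin 4) F} (hw : IsSc w) (hN : h ∈ Geo.subgroupNormalizer R)
    (e : g⁻¹ * (x * w⁻¹) * g = h) : g⁻¹ * x * g ∈ Geo.subgroupNormalizer R := by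
  rw [show g⁻¹ * x * g = g⁻¹ * (x * w⁻¹) * g * w by
    rw [mul_assoc _ g w, ← hw.comm g, ← mul_assoc, mul_assoc g⁻¹ (x * w⁻¹) w, inv_mul_cancel_right], e]
  exact mul_mem hN (sc_mem_normalizer hw)

theorem linear_two (hp : p ≠ 2) (Φ : Frame R) {i₀ : GL (Fin 4) F} (hiR : i₀ ∈ R) (hi : i₀ * i₀ = -1) (his : IsSc i₀)
    {x : GL (Fin 4) F} (hx : x ∈ SL₄) (hsc : IsSc (x ^ 2)) (hns : ¬ IsSc x) :
    ∃ g ∈ SL₄, g⁻¹ * x * g ∈ Geo.subgroupNormalizer R := by
  obtain ⟨z, hz⟩ := isSc_iff.1 hsc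
  obtain ⟨zi, hzi⟩ := isSc_iff.1 his
  have hzi2 : (zi : F) * zi = -1 := by
    have := congrArg Units.val hi
    rw [hzi, ← scU_mul, coe_scU, Units.val_neg, Units.val_one, ← neg_one_smul F (1 : Matrix (Fin 4) (Fin 4) F)] at this
    simpa using smul_left_injective F (one_ne_zero (α := Matrix (Fin 4) (Fin 4) F)) this
  have hdx : (x : Matrix (Fin 4) (Fin 4) F).det = 1 := mem_sl.1 hx
  have hz4 : (z : F) ^ 4 = 1 := by
    have := congrArg (fun g : GL (Fin 4) F => (g : Matrix (Fin 4) (Fin 4) F).det) hz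
    simpa [det_scU, hdx] using this.symm
  have hz2 : (z : F) ^ 2 = 1 ∨ (z : F) ^ 2 = -1 := mul_self_eq_one_iff.1 (by linear_combination hz4)
  by_cases hw : ∃ w : Fˣ, w * w = z
  · obtain ⟨w, rfl⟩ := hw
    have hws : IsSc (scU (Fin 4) w) := isSc_scU w
    set y := x * (scU (Fin 4) w)⁻¹ with hyd
    have hyy : y * y = 1 := by
      rw [← pow_two, hyd, (show Commute x (scU (Fin 4) w)⁻¹ from (hws.inv.comm x).symm).mul_pow, hz, inv_pow, scU_pow,
        pow_two, mul_inv_cancel]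
    have hyn : ¬ IsSc y := fun h => hns (by simpa [hyd] using h.mul hws)
    have hdy : (y : Matrix (Fin 4) (Fin 4) F).det * ((w * w : Fˣ) : F) ^ 2 = 1 := by
      have e : y * scU (Fin 4) w = x := inv_mul_cancel_right x _
      have := congrArg (fun g : GL (Fin 4) F => (g : Matrix (Fin 4) (Fin 4) F).det) e
      simp only [Units.val_mul, Matrix.det_mul, det_scU, hdx, Fintype.card_fin] at this
      rw [show ((w * w : Fˣ) : F) = w * w from Units.val_mul w w]
      linear_combination this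
    have h2F : ((2 : ℕ) : F) ≠ 0 := by exact_mod_cast two_ne (F := F) hp
    obtain ⟨h, hhN, hhh, hhn, hht⟩ : ∃ h, h ∈ Geo.subgroupNormalizer R ∧ h * h = 1 ∧ ¬ IsSc h ∧
        (y : Matrix (Fin 4) (Fin 4) F).trace = (h : Matrix (Fin 4) (Fin 4) F).trace := by
      rcases invol_cases hp (Fintype.card_fin 4) hyy hyn with ⟨-, ht⟩ | ⟨-, ht⟩
      · obtain ⟨hN, hn, h0⟩ := gamma_facts Φ 0
        exact ⟨Φ.γ 0, hN, Φ.sq 0, hn, ht.trans h0.symm⟩
      · obtain ⟨g, -, hgN, hgg, hgn, hgt⟩ :=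
          Φ.exists_refl ⊤ (fun _ => Submonoid.mem_top _) (fun _ _ _ => Submonoid.mem_top _) i₀ hiR hi his
        rcases ht with ht | ht
        · exact ⟨g, hgN, hgg, hgn, ht.trans hgt.symm⟩
        · refine ⟨-g, ?_, by rw [neg_mul_neg, hgg], fun hs => hgn (by simpa using hs.neg),
            by rw [ht, Units.val_neg, Matrix.trace_neg, hgt]⟩
          rw [← neg_one_mul]
          exact mul_mem (sc_mem_normalizer isSc_neg_one) hgN
    obtain ⟨g, hg, hgy⟩ := sl_conj h2F (by rw [pow_two, hyy]) (by rw [pow_two, hhh])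
      (invol_charpoly hp (Fintype.card_fin 4) hyy hyn hhh hhn hht)
    exact ⟨g, hg, finish hws hhN hgy⟩
  · exfalso
    have hirr : Irreducible (X ^ 2 - C (z : F)) := X_pow_sub_C_irreducible_of_prime Nat.prime_two fun b hb => by
      have hb0 : b ≠ 0 := fun e => z.ne_zero (by rw [← hb, e]; ring)
      exact hw ⟨Units.mk0 b hb0, Units.ext (by simp [← hb, pow_two])⟩
    obtain ⟨e, he, hsum, -⟩ := charpoly_eq_prod (κ := Unit) (fun _ => X ^ 2 - C (z : F)) (fun _ => hirr)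
      (fun _ => monic_X_pow_sub_C _ two_ne_zero) (A := (x : Matrix (Fin 4) (Fin 4) F)) (by
        have := congrArg Units.val hz
        rw [Units.val_pow_eq_pow_val, coe_scU] at this
        simp [this, Algebra.algebraMap_eq_smul_one])
    simp only [Finset.univ_unique, Finset.sum_singleton, Finset.prod_singleton, natDegree_X_pow_sub_C,
      Fintype.card_fin] at he hsum
    have hd := det_eq_eval (F := F) (ι := Fin 4) (by simp; decide) (x : Matrix (Fin 4) (Fin 4) F)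
    rw [hdx, he, show e default = 2 by omega] at hd
    simp at hd
    rcases mul_self_eq_one_iff.1 (show (z : F) * z = 1 by linear_combination -hd) with h | h
    · exact hw ⟨1, Units.ext (by simp [h])⟩
    · exact hw ⟨zi, Units.ext (by simp [h, hzi2])⟩

theorem linear_three (hF : Fintype.card F = p) (hp : p ≠ 2) (h3 : p % 3 = 2) (Φ : Frame R) {i₀ : GL (Fin 4) F}
    (hiR : i₀ ∈ R) (hi : i₀ * i₀ = -1) (his : IsSc i₀) {y : GL (Fin 4) F} (hy : y ^ 3 = 1) (hns : ¬ IsSc y) :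
    ∃ g ∈ SL₄, g⁻¹ * y * g ∈ Geo.subgroupNormalizer R := by
  haveI : Fact (Nat.Prime 3) := ⟨Nat.prime_three⟩
  have hp3 : p ≠ 3 := by omega
  have h3F : ((3 : ℕ) : F) ≠ 0 := nat_ne hp3.symm
  have h3F' : (3 : F) ≠ 0 := by exact_mod_cast h3F
  have hω : ∀ ω : F, ω ^ 2 + ω + 1 ≠ 0 := fun ω hω => by
    have h0 : ω ≠ 0 := fun e => by simp [e] at hω
    have hpow : (Units.mk0 ω h0) ^ 3 = 1 := Units.ext (by
      simp only [Units.val_pow_eq_pow_val, Units.val_mk0, Units.val_one]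
      linear_combination (ω - 1) * hω)
    have hc : (Nat.card Fˣ).Coprime 3 := by
      rw [Nat.card_units, Nat.card_eq_fintype_card, hF, Nat.coprime_comm, Nat.prime_three.coprime_iff_not_dvd]
      have := (Fact.out : p.Prime).two_le
      omega
    have := congrArg Units.val ((powCoprime hc).injective (show powCoprime hc (Units.mk0 ω h0) = powCoprime hc 1 by
      simpa using hpow))
    simp at this
    exact h3F' (by rw [this] at hω; linear_combination hω)
  have data : ∀ g : GL (Fin 4) F, g ^ 3 = 1 → (g : Matrix (Fin 4) (Fin 4) F) ≠ 1 →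
      ∃ l : ℕ, 1 ≤ l ∧ l ≤ 2 ∧ (g : Matrix (Fin 4) (Fin 4) F).charpoly = (X - C 1) ^ (4 - 2 * l) * phi3 F ^ l ∧
        (g : Matrix (Fin 4) (Fin 4) F).trace = 4 - 3 * (l : F) := fun g hg hg1 =>
    order_three_data (p := p) hp3 (Fintype.card_fin 4) (by rw [← Units.val_pow_eq_pow_val, hg, Units.val_one]) hg1
      (Or.inl hω)
  obtain ⟨⟨g1, -, g1N, g13, g1t⟩, ⟨g2, -, g2N, g23, g2t⟩⟩ :=
    Φ.exists_three ⊤ (fun _ _ _ _ _ _ => Submonoid.mem_top _) i₀ hiR hi his
  have key : ∀ g : GL (Fin 4) F, g ^ 3 = 1 → ∀ l : ℕ, 1 ≤ l → l ≤ 2 → (g : Matrix (Fin 4) (Fin 4) F).trace = 4 - 3 * (l : F) →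
      (g : Matrix (Fin 4) (Fin 4) F).charpoly = (X - C 1) ^ (4 - 2 * l) * phi3 F ^ l := by
    intro g hg l l1 l2 ht
    obtain ⟨m, m1, m2, hc, hm⟩ := data g hg fun e => by
      rw [e, Matrix.trace_one, Fintype.card_fin] at ht
      have : ((l : ℕ) : F) = ((0 : ℕ) : F) := by
        push_cast at ht ⊢
        exact (mul_eq_zero.1 (show (3 : F) * l = 0 by linear_combination ht)).resolve_left h3F'
      have := nat_eq_of_cast (p := p) this (by omega) (by omega)
      omega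
    have : ((l : ℕ) : F) = (m : F) := mul_left_cancel₀ h3F' (by linear_combination -(ht.symm.trans hm))
    rw [hc, nat_eq_of_cast (p := p) this (by omega) (by omega)]
  obtain ⟨l, l1, l2, hc, -⟩ := data y hy (mat_ne_of_not_sc hns).1
  obtain ⟨h, hhN, hh, hhc⟩ : ∃ h, h ∈ Geo.subgroupNormalizer R ∧ h ^ 3 = 1 ∧
      (h : Matrix (Fin 4) (Fin 4) F).charpoly = (X - C 1) ^ (4 - 2 * l) * phi3 F ^ l := by
    interval_cases l
    · exact ⟨g2, g2N, g23, key g2 g23 1 le_rfl (by norm_num) (by rw [g2t]; norm_num)⟩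
    · exact ⟨g1, g1N, g13, key g1 g13 2 (by norm_num) le_rfl (by rw [g1t]; norm_num)⟩
  obtain ⟨g, hg, e⟩ := sl_conj h3F hy hh (hc.trans hhc.symm)
  exact ⟨g, hg, e ▸ hhN⟩

theorem linear_five (hF : Fintype.card F = p) (h5 : p % 5 = 2 ∨ p % 5 = 3) (Φ : Frame R) {y : GL (Fin 4) F}
    (hy : y ^ 5 = 1) (hns : ¬ IsSc y) : ∃ g ∈ SL₄, g⁻¹ * y * g ∈ Geo.subgroupNormalizer R := by
  haveI : Fact (Nat.Prime 5) := ⟨Nat.prime_five⟩
  have h5F : ((5 : ℕ) : F) ≠ 0 := nat_ne (by omega)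
  have h5F' : (5 : F) ≠ 0 := by exact_mod_cast h5F
  have hcop : (Nat.card Fˣ).Coprime 5 := by
    rw [Nat.card_units, Nat.card_eq_fintype_card, hF, Nat.coprime_comm, Nat.prime_five.coprime_iff_not_dvd]
    have := (Fact.out : p.Prime).two_le
    omega
  obtain ⟨h, -, hhN, hh, hhn⟩ := Φ.exists_five ⊤ (fun _ => Submonoid.mem_top _) (fun _ _ _ => Submonoid.mem_top _)
    fun c => ⟨(powCoprime hcop).symm c, (powCoprime hcop).apply_symm_apply c⟩
  obtain ⟨ν, hν, hν1⟩ := exists_root_five h5F'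
  set φ := algebraMap F (AlgebraicClosure F)
  have data : ∀ g : GL (Fin 4) F, g ^ 5 = 1 → ¬ IsSc g → (g : Matrix (Fin 4) (Fin 4) F).charpoly.map φ =
      (X - C ν) * (X - C (ν ^ 2)) * (X - C (ν ^ 3)) * (X - C (ν ^ 4)) := fun g hg hgn =>
    charpoly_five φ (Fintype.card_fin 4) (by rw [← Units.val_pow_eq_pow_val, hg, Units.val_one])
      (mat_ne_of_not_sc hgn).1 h5F' h5 (fun μ _ hμ => closed_frob φ hF _ μ hμ) hν hν1
  obtain ⟨g, hg, e⟩ := sl_conj h5F hy hh
    (Polynomial.map_injective φ φ.injective ((data y hy hns).trans (data h hh hhn).symm))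
  exact ⟨g, hg, e ▸ hhN⟩

theorem linear_bad (hF : Fintype.card F = p) (hp : p ≠ 2) (Φ : Frame R) {r : ℕ} [Fact r.Prime]
    (h : (r = 3 ∧ p % 3 ≠ 2) ∨ (r = 5 ∧ ¬ (p % 5 = 2 ∨ p % 5 = 3))) :
    ∃ x ∈ SL₄, x ^ r = 1 ∧ ¬ IsSc x ∧ ∀ g ∈ SL₄, g⁻¹ * x * g ∉ Geo.subgroupNormalizer R := by
  suffices ∃ x : GL (Fin 4) F, (x : Matrix (Fin 4) (Fin 4) F).det = 1 ∧ x ^ r = 1 ∧ ¬ IsSc x ∧
      (if r = 3 then 9 else 5) ≤ Module.finrank F (centr (x : Matrix (Fin 4) (Fin 4) F)) by
    obtain ⟨x, hd, hxr, hns, hc⟩ := this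
    exact ⟨x, mem_sl.2 hd, hxr, hns, fun g _ hN => no_fix Φ (by omega) (by rw [hxr]; exact isSc_one) hns hc hN⟩
  rcases h with ⟨rfl, h3⟩ | ⟨rfl, h5⟩
  · rw [if_pos rfl]
    obtain ⟨a, b, c, hc, M, hM, h3M, hdM, hnM⟩ : ∃ (a : F) (b c : Fin 4 → F), b ≠ 0 ∧ ∃ M : Matrix (Fin 4) (Fin 4) F,
        M = a • 1 + vecMulVec b c ∧ M ^ 3 = 1 ∧ M.det = 1 ∧ ∀ k : F, M ≠ k • 1 := by
      by_cases h0 : p % 3 = 0
      · obtain rfl : 3 = p :=
          (Nat.prime_dvd_prime_iff_eq Nat.prime_three (Fact.out : p.Prime)).1 (Nat.dvd_of_mod_eq_zero h0)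
        have h30 : (3 : F) = 0 := by exact_mod_cast CharP.cast_eq_zero F 3
        refine ⟨1, Pi.single 0 1, Pi.single 1 1, fun e => by simpa using congrFun e 0, _, rfl, ?_, ?_, fun k hk => ?_⟩
        · rw [one_smul]
          have hn : (vecMulVec (Pi.single 0 (1 : F)) (Pi.single 1 1) : Matrix (Fin 4) (Fin 4) F) *
              vecMulVec (Pi.single 0 1) (Pi.single 1 1) = 0 := by
            rw [vecMulVec_mul_vecMulVec]; simp
          rw [show (1 + vecMulVec (Pi.single 0 (1 : F)) (Pi.single 1 1) : Matrix (Fin 4) (Fin 4) F) ^ 3 =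
            1 + (3 : F) • vecMulVec (Pi.single 0 1) (Pi.single 1 1) by
              simp only [pow_succ, pow_zero, one_mul, add_mul, mul_add, mul_one, hn, zero_mul, mul_zero, add_zero]
              module, h30, zero_smul, add_zero]
        · rw [one_smul, vecMulVec_eq (ι := Unit), det_one_add_replicateCol_mul_replicateRow]
          simp
        · have := congrFun (congrFun hk 0) 1
          simp [vecMulVec] at this
      · have h1 : p % 3 = 1 := by omega
        have h3d : 3 ∣ Nat.card Fˣ := by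
          rw [Nat.card_units, Nat.card_eq_fintype_card, hF]
          omega
        obtain ⟨ω, hω⟩ := exists_prime_orderOf_dvd_card' 3 h3d
        have hω3 : (ω : F) ^ 3 = 1 := by
          rw [← Units.val_pow_eq_pow_val, ← hω, pow_orderOf_eq_one, Units.val_one]
        have hω1 : (ω : F) ≠ 1 := fun e => by
          rw [show ω = 1 from Units.ext e, orderOf_one] at hω
          exact absurd hω (by decide)
        refine ⟨ω, Pi.single 0 1, Pi.single 0 (1 - (ω : F)), fun e => by simpa using congrFun e 0,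
          Matrix.diagonal ![1, (ω : F), ω, ω], ?_, ?_, ?_, fun k hk => ?_⟩
        · ext i j
          fin_cases i <;> fin_cases j <;> simp [vecMulVec]
        · rw [diagonal_pow, ← diagonal_one]
          congr 1
          funext i
          fin_cases i <;> simp [hω3]
        · rw [det_diagonal, Fin.prod_univ_four]
          simp
          linear_combination hω3
        · have a0 := congrFun (congrFun hk 0) 0
          have a1 := congrFun (congrFun hk 1) 1
          simp at a0 a1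
          exact hω1 (a1.trans a0.symm)
    refine ⟨Matrix.GeneralLinearGroup.mkOfDetNeZero M (by rw [hdM]; exact one_ne_zero), hdM, Units.ext ?_, ?_,
      nine_le_centr (Fintype.card_fin 4) a b c hc hM⟩
    · rw [Units.val_pow_eq_pow_val, Units.val_one]; exact h3M
    · rintro ⟨k, hk⟩
      exact hnM k hk
  · rw [if_neg (by decide)]
    obtain ⟨t, ht, -, -⟩ := exists_t (F := F) hp (by omega)
    obtain ⟨hA, hAd, hAn⟩ := comp2_facts t
    obtain ⟨x, hx, hxr, hxd, hxn⟩ := block_facts finSumFinEquiv (quad_five hA ht) hAd hAn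
    exact ⟨x, hxd, hxr, hxn, hx ▸ five_le_centr _ _⟩

end Cfsg.Agent.C6Dim4
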