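import Cfsg.Agent.Lib.GLSemisimple.DualPoly

/-!
Characteristic polynomials of elements of small order in dimension four.
-/

set_option autoImplicit false
set_option linter.unusedSectionVars false

open Polynomial Matrix

namespace Cfsg.Agent.C6Dim4

variable {F : Type*} [Field F]

/-- A monic polynomial with all irreducible factors among given ones is a product of their powers. -/
theorem eq_prod_pows {κ : Type} [Fintype κ] [DecidableEq κ] (f : κ → F[X]) (hf : ∀ k, Irreducible (f k))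
    (hm : ∀ k, (f k).Monic) : ∀ (n : ℕ) (P : F[X]), P.Monic → P.natDegree = n →
    (∀ q : F[X], Irreducible q → q ∣ P → q ∣ ∏ k, f k) → ∃ e : κ → ℕ, P = ∏ k, f k ^ e k := by
  intro n
  induction' n using Nat.strong_induction_on with n ih
  intro P hP hdeg hall
  rcases Nat.eq_zero_or_pos n with rfl | hn
  · exact ⟨0, by rw [hP.natDegree_eq_zero.1 hdeg]; simp⟩
  obtain ⟨q, hqm, hqi, hqd⟩ := Polynomial.exists_monic_irreducible_factor P
    (fun h => by have := natDegree_eq_zero_of_isUnit h; omega)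
  obtain ⟨k, -, hk⟩ := (hqi.prime.dvd_finsetProd_iff _).1 (hall q hqi hqd)
  obtain rfl : q = f k := eq_of_monic_of_associated hqm (hm k) (hqi.associated_of_dvd (hf k) hk)
  obtain ⟨Q, rfl⟩ := hqd
  have hQ : Q.Monic := hqm.of_mul_monic_left hP
  have hlt : Q.natDegree < n := by
    rw [← hdeg, hqm.natDegree_mul hQ]
    have := hqi.natDegree_pos
    omega
  obtain ⟨e, he⟩ := ih _ hlt Q hQ rfl fun q hq hqd => hall q hq (hqd.trans (dvd_mul_left _ _))
  refine ⟨e + Pi.single k 1, ?_⟩
  rw [he]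
  simp only [Pi.add_apply, pow_add, Finset.prod_mul_distrib]
  rw [mul_comm (f k)]
  congr 1
  rw [Finset.prod_eq_single k (fun j _ hj => by simp [Pi.single_eq_of_ne hj]) (fun h => absurd (Finset.mem_univ k) h)]
  simp

variable {ι : Type} [Fintype ι] [DecidableEq ι]

/-- Irreducible factors of the characteristic polynomial divide every annihilating polynomial. -/
theorem dvd_of_ann {A : Matrix ι ι F} {Q q : F[X]} (hQ : aeval A Q = 0) (hq : Irreducible q)
    (hd : q ∣ A.charpoly) : q ∣ Q := by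
  by_contra hnd
  obtain ⟨a, b, hab⟩ := hq.coprime_iff_not_dvd.mpr hnd
  obtain ⟨v, hv, hqv⟩ := GLSemi.exists_ne_zero_aeval_apply_eq_zero (Matrix.toLin' A) hq
    (by rwa [Matrix.charpoly_toLin'])
  have hQ' : aeval (Matrix.toLin' A) Q = 0 := by
    show aeval ((Matrix.toLinAlgEquiv' (R := F) (n := ι)) A) Q = 0
    rw [aeval_algHom_apply, hQ, map_zero]
  have h := congrArg (fun P => aeval (Matrix.toLin' A) P v) hab
  simp only [map_add, map_mul, map_one, LinearMap.add_apply, Module.End.mul_apply, hqv, hQ', map_zero,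
    LinearMap.zero_apply, add_zero, Module.End.one_apply] at h
  exact hv h.symm

/-- The factorisation of a characteristic polynomial. -/
theorem charpoly_eq_prod {κ : Type} [Fintype κ] [DecidableEq κ] (f : κ → F[X]) (hf : ∀ k, Irreducible (f k))
    (hm : ∀ k, (f k).Monic) {A : Matrix ι ι F} (hA : aeval A (∏ k, f k) = 0) :
    ∃ e : κ → ℕ, A.charpoly = ∏ k, f k ^ e k ∧ ∑ k, e k * (f k).natDegree = Fintype.card ι ∧
      (Nonempty ι → A.trace = -∑ k, (e k : F) * (f k).nextCoeff) := by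
  obtain ⟨e, he⟩ := eq_prod_pows f hf hm _ A.charpoly (Matrix.charpoly_monic A) rfl fun q hq hd => dvd_of_ann hA hq hd
  refine ⟨e, he, ?_, fun hne => ?_⟩
  · rw [← Matrix.charpoly_natDegree_eq_dim A, he,
      natDegree_prod_of_monic _ _ fun k _ => (hm k).pow _]
    simp [natDegree_pow]
  · rw [Matrix.trace_eq_neg_charpoly_nextCoeff, he, Monic.nextCoeff_prod _ _ fun k _ => (hm k).pow _]
    simp [(hm _).nextCoeff_pow, nsmul_eq_mul]

theorem det_eq_eval (hι : Even (Fintype.card ι)) (A : Matrix ι ι F) : A.det = A.charpoly.eval 0 := by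
  rw [Matrix.det_eq_sign_charpoly_coeff, hι.neg_one_pow, one_mul, coeff_zero_eq_eval_zero]

variable {p : ℕ} [Fact p.Prime] [CharP F p]

theorem nat_eq_of_cast {a b : ℕ} (h : (a : F) = b) (ha : a < p) (hb : b < p) : a = b := by
  have := (CharP.natCast_eq_natCast F p).1 h
  exact Nat.ModEq.eq_of_lt_of_lt this ha hb

/-- Involutions of dimension four. -/
theorem charpoly_invol (hp : p ≠ 2) (hι : Fintype.card ι = 4) {A : Matrix ι ι F} (hA : A * A = 1) :
    ∃ a : ℕ, a ≤ 4 ∧ A.charpoly = (X - C 1) ^ (4 - a) * (X - C (-1)) ^ a ∧ A.trace = 4 - 2 * (a : F) := by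
  obtain ⟨e, he, hsum, htr⟩ := charpoly_eq_prod (κ := Fin 2) ![X - C (1 : F), X - C (-1)]
    (fun k => by fin_cases k <;> exact irreducible_X_sub_C _)
    (fun k => by fin_cases k <;> exact monic_X_sub_C _) (A := A) (by
      simp [Fin.prod_univ_two, mul_add, sub_mul, hA]
      try noncomm_ring [hA])
  have htr' := htr (Fintype.card_pos_iff.1 (by omega))
  simp only [Fin.prod_univ_two, Fin.sum_univ_two, Matrix.cons_val_zero, Matrix.cons_val_one, natDegree_X_sub_C, nextCoeff_X_sub_C, mul_one, hι] at he hsum htr'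
  refine ⟨e 1, by omega, ?_, ?_⟩
  · rw [he, show 4 - e 1 = e 0 by omega]
  · rw [htr', show (4 : F) = ((e 0 + e 1 : ℕ) : F) by rw [hsum]; norm_num]
    push_cast
    ring

theorem ann_of_pow {A : Matrix ι ι F} {f g : F[X]} (n : ℕ) (hn : aeval A (f ^ n) = 0)
    (hfg : aeval A (f * g) = 0) (hco : IsCoprime f g) : aeval A f = 0 := by
  obtain ⟨a, b, hab⟩ := hco.pow_left (m := n)
  have e := congrArg (fun P => aeval A (f * P)) hab
  simp only [mul_one] at e
  rw [← e, show f * (a * f ^ n + b * g) = f ^ n * (f * a) + f * g * b by ring, map_add, map_mul (aeval A) (f ^ n), map_mul (aeval A) (f * g), hn, hfg,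
    zero_mul, zero_mul, add_zero]

theorem isCoprime_X_sub_C_of_eval {f : F[X]} {a : F} (h : f.eval a ≠ 0) : IsCoprime (X - C a) f :=
  (irreducible_X_sub_C a).coprime_iff_not_dvd.2 fun hd => h (dvd_iff_isRoot.1 hd)

/-- Non-scalar involutions of dimension four are determined by their trace. -/
theorem invol_data (hp : p ≠ 2) (hι : Fintype.card ι = 4) {A : Matrix ι ι F} (hA : A * A = 1) (h1 : A ≠ 1)
    (h2 : A ≠ -1) :
    ∃ a : ℕ, 1 ≤ a ∧ a ≤ 3 ∧ A.charpoly = (X - C 1) ^ (4 - a) * (X - C (-1)) ^ a ∧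
      A.trace = 4 - 2 * (a : F) ∧ A.det = (-1) ^ a := by
  have h2F : (2 : F) ≠ 0 := fun e => hp ((Nat.prime_dvd_prime_iff_eq (Fact.out : p.Prime) Nat.prime_two).1
    ((CharP.cast_eq_zero_iff F p 2).1 (by exact_mod_cast e)))
  have hann : aeval A ((X - C (1 : F)) * (X - C (-1))) = 0 := by
    simp [mul_add, sub_mul, hA]
  obtain ⟨a, ha, hc, ht⟩ := charpoly_invol hp hι hA
  have hne : ∀ c : F, ∀ d : F, c ≠ d → aeval A ((X - C c) * (X - C d)) = 0 →
      A.charpoly = (X - C c) ^ 4 → A = c • 1 := fun c d hcd hcd' hpow => by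
    have h := ann_of_pow 4 (hpow ▸ Matrix.aeval_self_charpoly A) hcd'
      (isCoprime_X_sub_C_of_eval (by simpa [sub_ne_zero] using hcd))
    simp [sub_eq_zero, Algebra.algebraMap_eq_smul_one] at h
    exact h
  have hpm : (1 : F) ≠ -1 := fun e => h2F (by linear_combination e)
  refine ⟨a, Nat.one_le_iff_ne_zero.2 ?_, ?_, hc, ht, ?_⟩
  · rintro rfl
    exact h1 ((hne 1 (-1) hpm hann (by simpa using hc)).trans (one_smul _ _))
  · by_contra h
    obtain rfl : a = 4 := by omega
    refine h2 ((hne (-1) 1 hpm.symm (by rw [mul_comm]; exact hann) (by simpa using hc)).trans (neg_one_smul F _))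
  · rw [det_eq_eval (by rw [hι]; decide), hc]
    simp only [eval_mul, eval_pow, eval_sub, eval_X, eval_C]
    rw [show (0 : F) - 1 = -1 by ring, show (0 : F) - -1 = 1 by ring, one_pow, mul_one,
      neg_one_pow_eq_pow_mod_two (n := a), neg_one_pow_eq_pow_mod_two (n := 4 - a)]
    congr 1
    omega

theorem invol_charpoly_unique (hp : p ≠ 2) (hι : Fintype.card ι = 4) {A B : Matrix ι ι F}
    (hA : A * A = 1) (hA1 : A ≠ 1) (hA2 : A ≠ -1) (hB : B * B = 1) (hB1 : B ≠ 1) (hB2 : B ≠ -1)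
    (h : A.trace = B.trace) : A.charpoly = B.charpoly := by
  have h2F : (2 : F) ≠ 0 := fun e => hp ((Nat.prime_dvd_prime_iff_eq (Fact.out : p.Prime) Nat.prime_two).1
    ((CharP.cast_eq_zero_iff F p 2).1 (by exact_mod_cast e)))
  obtain ⟨a, a1, a3, hc, ht, -⟩ := invol_data hp hι hA hA1 hA2
  obtain ⟨b, b1, b3, hc', ht', -⟩ := invol_data hp hι hB hB1 hB2
  have e : ((a - 1 : ℕ) : F) = ((b - 1 : ℕ) : F) := by
    rw [Nat.cast_sub a1, Nat.cast_sub b1]
    refine congrArg (· - ((1 : ℕ) : F)) (mul_left_cancel₀ h2F ?_)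
    linear_combination -(ht.symm.trans (h.trans ht'))
  have hp3 : 3 ≤ p := by have := (Fact.out : p.Prime).two_le; omega
  have := nat_eq_of_cast (p := p) e (by omega) (by omega)
  rw [hc, hc', show a = b by omega]

/-- `X² + 1` as annihilating polynomial, with trace zero. -/
theorem charpoly_sq_neg (hp : p ≠ 2) (hι : Fintype.card ι = 4) {A : Matrix ι ι F} (hA : A * A = -1)
    (ht : A.trace = 0 ∨ ∀ i₀ : F, i₀ * i₀ ≠ -1) : A.charpoly = (X ^ 2 + 1) ^ 2 := by
  have hp3 : 3 ≤ p := by have := (Fact.out : p.Prime).two_le; omega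
  by_cases hi : ∃ i₀ : F, i₀ * i₀ = -1
  · obtain ⟨i₀, hi₀⟩ := hi
    have ht0 : A.trace = 0 := ht.resolve_right fun h => h i₀ hi₀
    obtain ⟨e, he, hsum, htr⟩ := charpoly_eq_prod (κ := Fin 2) ![X - C i₀, X - C (-i₀)]
      (fun k => by fin_cases k <;> exact irreducible_X_sub_C _)
      (fun k => by fin_cases k <;> exact monic_X_sub_C _) (A := A) (by
        simp [Fin.prod_univ_two, mul_add, sub_mul, hA, Algebra.algebraMap_eq_smul_one, smul_smul, hi₀])
    have htr' := htr (Fintype.card_pos_iff.1 (by omega))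
    simp only [Fin.prod_univ_two, Fin.sum_univ_two, Matrix.cons_val_zero, Matrix.cons_val_one, natDegree_X_sub_C,
      nextCoeff_X_sub_C, mul_one, hι] at he hsum htr'
    have h2F : (2 : F) ≠ 0 := fun e => hp ((Nat.prime_dvd_prime_iff_eq (Fact.out : p.Prime) Nat.prime_two).1
      ((CharP.cast_eq_zero_iff F p 2).1 (by exact_mod_cast e)))
    have hi0 : i₀ ≠ 0 := fun e => by simp [e] at hi₀
    have h01 : ((e 0 : ℕ) : F) = ((2 : ℕ) : F) := by
      have h4 : ((e 0 + e 1 : ℕ) : F) = ((4 : ℕ) : F) := by rw [hsum]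
      push_cast at h4 ⊢
      refine mul_left_cancel₀ (mul_ne_zero h2F hi0) ?_
      linear_combination i₀ * h4 + (htr'.symm.trans ht0)
    have he0 : e 0 = 2 := by
      rcases (by omega : p = 3 ∨ 4 < p ∨ p = 4) with rfl | h | rfl
      · have := (CharP.natCast_eq_natCast F 3).1 h01
        unfold Nat.ModEq at this
        omega
      · exact nat_eq_of_cast (p := p) h01 (by omega) (by omega)
      · exact absurd (Fact.out : Nat.Prime 4) (by decide)
    rw [he, he0, show e 1 = 2 by omega, ← mul_pow]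
    congr 1
    rw [map_neg, sub_neg_eq_add, show (X - C i₀) * (X + C i₀) = X ^ 2 - C (i₀ * i₀) by rw [map_mul]; ring, hi₀,
      map_neg, map_one, sub_neg_eq_add]
  · have hirr : Irreducible (X ^ 2 + 1 : F[X]) := by
      have hd : (X ^ 2 + 1 : F[X]).natDegree = 2 := by compute_degree!
      refine (irreducible_iff_roots_eq_zero_of_degree_le_three (by omega) (by omega)).2
        (Multiset.eq_zero_of_forall_notMem fun x hx => hi ⟨x, ?_⟩)
      have := (mem_roots'.1 hx).2
      simp [IsRoot] at this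
      linear_combination this
    obtain ⟨e, he, hsum, -⟩ := charpoly_eq_prod (κ := Unit) (fun _ => X ^ 2 + 1)
      (fun _ => hirr) (fun _ => by monicity!) (A := A) (by simp [pow_two, hA])
    have hd : (X ^ 2 + 1 : F[X]).natDegree = 2 := by compute_degree!
    simp only [Finset.univ_unique, Finset.sum_singleton, Finset.prod_singleton, hd, hι] at he hsum
    rw [he, show e default = 2 by omega]

/-- `X² + X + 1`. -/
noncomputable def phi3 (F : Type*) [Field F] : F[X] := X ^ 2 + X + 1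

theorem phi3_facts : (phi3 F).Monic ∧ (phi3 F).natDegree = 2 ∧ (phi3 F).nextCoeff = 1 ∧ (phi3 F).eval 0 = 1 := by
  have hd : (phi3 F).natDegree = 2 := by unfold phi3; compute_degree!
  refine ⟨by unfold phi3; monicity!, hd, ?_, by simp [phi3]⟩
  rw [nextCoeff_of_natDegree_pos (by omega), hd]
  simp [phi3, coeff_one, coeff_X_pow]

/-- The data of an element of order three in dimension four. -/
theorem order_three_data (hp3 : p ≠ 3) (hι : Fintype.card ι = 4) {A : Matrix ι ι F} (hA : A ^ 3 = 1) (h1 : A ≠ 1)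
    (h : (∀ ω : F, ω ^ 2 + ω + 1 ≠ 0) ∨
      ∃ σ : F →+* F, (∀ ω : F, ω ^ 2 + ω + 1 = 0 → σ ω = ω) ∧ GLSemi.dual σ A.charpoly = A.charpoly) :
    ∃ l : ℕ, 1 ≤ l ∧ l ≤ 2 ∧ A.charpoly = (X - C 1) ^ (4 - 2 * l) * phi3 F ^ l ∧ A.trace = 4 - 3 * (l : F) := by
  have h3 : (3 : F) ≠ 0 := fun e => hp3 ((Nat.prime_dvd_prime_iff_eq (Fact.out : p.Prime) Nat.prime_three).1
    ((CharP.cast_eq_zero_iff F p 3).1 (by exact_mod_cast e)))
  obtain ⟨hm, hd, hnc, -⟩ := phi3_facts (F := F)
  have hann : aeval A ((X - C (1 : F)) * phi3 F) = 0 := by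
    rw [show (X - C (1 : F)) * phi3 F = X ^ 3 - 1 by rw [map_one, phi3]; ring, map_sub, map_pow, aeval_X, hA,
      map_one, sub_self]
  suffices ∃ l : ℕ, l ≤ 2 ∧ A.charpoly = (X - C 1) ^ (4 - 2 * l) * phi3 F ^ l by
    obtain ⟨l, hl, hc⟩ := this
    refine ⟨l, Nat.one_le_iff_ne_zero.2 ?_, hl, hc, ?_⟩
    · rintro rfl
      have h := ann_of_pow 4 (show aeval A ((X - C (1 : F)) ^ 4) = 0 by
        rw [show (X - C (1 : F)) ^ 4 = A.charpoly by rw [hc]; simp]; exact Matrix.aeval_self_charpoly A) hann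
        (isCoprime_X_sub_C_of_eval (by simp [phi3]; norm_num; exact h3))
      simp [sub_eq_zero] at h
      exact h1 h
    · haveI : Nonempty ι := Fintype.card_pos_iff.1 (by omega)
      rw [Matrix.trace_eq_neg_charpoly_nextCoeff, hc, ((monic_X_sub_C _).pow _).nextCoeff_mul (hm.pow _),
        (monic_X_sub_C _).nextCoeff_pow, hm.nextCoeff_pow, nextCoeff_X_sub_C, hnc, nsmul_eq_mul, nsmul_eq_mul,
        Nat.cast_sub (by omega)]
      push_cast
      ring
  by_cases hω : ∃ ω : F, ω ^ 2 + ω + 1 = 0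
  · obtain ⟨σ, hσ, hdual⟩ := h.resolve_left fun hi => hω.elim hi
    obtain ⟨ω, hw⟩ := hω
    have hw3 : ω ^ 3 = 1 := by linear_combination (ω - 1) * hw
    have hne1 : ω ≠ 1 := fun e => h3 (by rw [e] at hw; linear_combination hw)
    have hne : ω ^ 2 ≠ ω := fun e => hne1 (by
      have h0 : ω ≠ 0 := fun z => by simp [z] at hw3
      exact mul_left_cancel₀ h0 (by linear_combination e))
    have hprod : (X - C ω) * (X - C (ω ^ 2)) = phi3 F := by
      have e1 : C ω + C (ω ^ 2) = (-1 : F[X]) := by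
        rw [← map_add, show ω + ω ^ 2 = -1 by linear_combination hw, map_neg, map_one]
      have e2 : C ω * C (ω ^ 2) = (1 : F[X]) := by
        rw [← map_mul, show ω * ω ^ 2 = 1 by linear_combination hw3, map_one]
      rw [phi3]
      linear_combination -(X : F[X]) * e1 + e2
    obtain ⟨e, he, hsum, -⟩ := charpoly_eq_prod (κ := Fin 3) ![X - C (1 : F), X - C ω, X - C (ω ^ 2)]
      (fun k => by fin_cases k <;> exact irreducible_X_sub_C _)
      (fun k => by fin_cases k <;> exact monic_X_sub_C _) (A := A) (by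
        rw [Fin.prod_univ_three]
        show aeval A ((X - C (1 : F)) * (X - C ω) * (X - C (ω ^ 2))) = 0
        rw [mul_assoc, hprod]; exact hann)
    simp only [Fin.prod_univ_three, Fin.sum_univ_three, Matrix.cons_val_zero, Matrix.cons_val_one, Matrix.cons_val,
      natDegree_X_sub_C, mul_one, hι] at he hsum
    have hdl : ∀ c : F, c ≠ 0 → GLSemi.dual σ (X - C c) = X - C (σ c)⁻¹ := fun c hc => by
      have h0 : (X - C c).coeff 0 ≠ 0 := by simpa using hc
      refine ((GLSemi.monic_dual σ h0).eq_X_add_C ((GLSemi.natDegree_dual σ h0).trans (natDegree_X_sub_C c))).trans ?_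
      rw [GLSemi.coeff_zero_dual σ (monic_X_sub_C c)]
      simp [inv_neg, sub_eq_add_neg]
    have hω0 : ω ≠ 0 := fun z => by simp [z] at hw3
    have d1 : GLSemi.dual σ (X - C (1 : F)) = X - C 1 := by rw [hdl 1 one_ne_zero, map_one, inv_one]
    have d2 : GLSemi.dual σ (X - C ω) = X - C (ω ^ 2) := by
      rw [hdl ω hω0, hσ ω hw, inv_eq_of_mul_eq_one_right (by linear_combination hw3 : ω * ω ^ 2 = 1)]
    have d3 : GLSemi.dual σ (X - C (ω ^ 2)) = X - C ω := by
      rw [hdl _ (pow_ne_zero _ hω0), map_pow, hσ ω hw,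
        inv_eq_of_mul_eq_one_right (by linear_combination hw3 : ω ^ 2 * ω = 1)]
    have dpow : ∀ (P : F[X]) (n : ℕ), GLSemi.dual σ (P ^ n) = GLSemi.dual σ P ^ n := fun P n => by
      induction n with
      | zero => rw [pow_zero, pow_zero, GLSemi.dual, ← C_1, reverse_C, map_C]; simp
      | succ n ih => rw [pow_succ, pow_succ, GLSemi.dual_mul, ih]
    rw [he, GLSemi.dual_mul, GLSemi.dual_mul, dpow, dpow, dpow, d1, d2, d3, mul_assoc, mul_assoc] at hdual
    have hab := mul_left_cancel₀ (pow_ne_zero _ (X_sub_C_ne_zero (1 : F))) hdual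
    have key : ∀ {c d : F} {a b : ℕ}, c ≠ d → (X - C c) ^ a * (X - C d) ^ b = (X - C c) ^ b * (X - C d) ^ a →
        a ≤ b := by
      intro c d a b hcd hh
      by_contra hlt
      obtain ⟨k, rfl⟩ : ∃ k, a = b + (k + 1) := ⟨a - b - 1, by omega⟩
      rw [pow_add, pow_add (X - C d)] at hh
      have h' : (X - C c) ^ (k + 1) = (X - C d) ^ (k + 1) :=
        mul_left_cancel₀ (mul_ne_zero (pow_ne_zero b (X_sub_C_ne_zero c)) (pow_ne_zero b (X_sub_C_ne_zero d)))
          (by linear_combination hh)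
      have := congrArg (eval c) h'
      simp [eq_comm] at this
      exact pow_ne_zero _ (sub_ne_zero.2 hcd) this.symm
    have hle1 : e 1 ≤ e 2 := key hne.symm (by linear_combination -hab)
    have hle2 : e 2 ≤ e 1 := key hne.symm (by linear_combination hab)
    refine ⟨e 1, by omega, ?_⟩
    rw [he, show e 2 = e 1 by omega, show 4 - 2 * e 1 = e 0 by omega, mul_assoc, ← mul_pow, hprod]
  · push Not at hω
    have hi : Irreducible (phi3 F) :=
      (irreducible_iff_roots_eq_zero_of_degree_le_three (by omega) (by omega)).2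
        (Multiset.eq_zero_of_forall_notMem fun x hx => hω x (by
          have := (mem_roots'.1 hx).2
          simpa [IsRoot, phi3] using this))
    obtain ⟨e, he, hsum, -⟩ := charpoly_eq_prod (κ := Fin 2) ![X - C (1 : F), phi3 F]
      (fun k => by fin_cases k; exacts [irreducible_X_sub_C _, hi])
      (fun k => by fin_cases k; exacts [monic_X_sub_C _, hm]) (A := A) (by simpa [Fin.prod_univ_two] using hann)
    simp only [Fin.prod_univ_two, Fin.sum_univ_two, Matrix.cons_val_zero, Matrix.cons_val_one, natDegree_X_sub_C,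
      hd, mul_one, hι] at he hsum
    exact ⟨e 1, by omega, by rw [he, show 4 - 2 * e 1 = e 0 by omega]⟩

/-- The fifth roots of unity other than one are all roots. -/
theorem charpoly_five {K : Type*} [Field K] [IsAlgClosed K] (φ : F →+* K) (hι : Fintype.card ι = 4)
    {A : Matrix ι ι F} (hA : A ^ 5 = 1) (h1 : A ≠ 1) (h5 : (5 : F) ≠ 0) {e : ℕ} (he : e % 5 = 2 ∨ e % 5 = 3)
    (hclos : ∀ μ : K, μ ^ 5 = 1 → A.charpoly.eval₂ φ μ = 0 → A.charpoly.eval₂ φ (μ ^ e) = 0)
    {ν : K} (hν : ν ^ 5 = 1) (hν1 : ν ≠ 1) :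
    A.charpoly.map φ = (X - C ν) * (X - C (ν ^ 2)) * (X - C (ν ^ 3)) * (X - C (ν ^ 4)) := by
  classical
  set χ := A.charpoly with hχ
  have hm : (χ.map φ).Monic := (Matrix.charpoly_monic A).map φ
  have hd : (χ.map φ).natDegree = 4 := by rw [natDegree_map, Matrix.charpoly_natDegree_eq_dim, hι]
  have hroot5 : ∀ μ : K, (χ.map φ).IsRoot μ → μ ^ 5 = 1 := by
    intro μ hμ
    have hB : (A.map φ) ^ 5 = 1 := by
      rw [← RingHom.mapMatrix_apply, ← map_pow, hA, map_one]
    have h := dvd_of_ann (A := A.map φ) (Q := X ^ 5 - 1) (by simp [hB]) (irreducible_X_sub_C μ)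
      (by rw [Matrix.charpoly_map]; exact dvd_iff_isRoot.2 hμ)
    simpa [dvd_iff_isRoot, IsRoot, sub_eq_zero] using h
  obtain ⟨μ, hμ, hμ1⟩ : ∃ μ : K, (χ.map φ).IsRoot μ ∧ μ ≠ 1 := by
    by_contra hcon
    push Not at hcon
    have hsp : χ.map φ = (X - C 1) ^ 4 := by
      rw [(IsAlgClosed.splits (χ.map φ)).eq_prod_roots_of_monic hm]
      have hc : Multiset.card (χ.map φ).roots = 4 := by rw [IsAlgClosed.card_roots_eq_natDegree, hd]
      rw [Multiset.eq_replicate.2 ⟨hc, fun x hx => hcon x (mem_roots'.1 hx).2⟩]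
      simp [pow_succ, mul_assoc]
    have hc : χ = (X - C (1 : F)) ^ 4 := map_injective φ φ.injective (by simp [hsp])
    have hann : aeval A ((X - C (1 : F)) * (1 + X + X ^ 2 + X ^ 3 + X ^ 4)) = 0 := by
      rw [show (X - C (1 : F)) * (1 + X + X ^ 2 + X ^ 3 + X ^ 4) = X ^ 5 - 1 by rw [map_one]; ring, map_sub, map_pow,
        aeval_X, hA, map_one, sub_self]
    have h := ann_of_pow 4 (hc ▸ Matrix.aeval_self_charpoly A) hann
      (isCoprime_X_sub_C_of_eval (by simp; norm_num; exact h5))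
    simp [sub_eq_zero] at h
    exact h1 h
  have hμ5 := hroot5 μ hμ
  have hmod : ∀ n : ℕ, μ ^ n = μ ^ (n % 5) := fun n => pow_eq_pow_mod n hμ5
  have hiter : ∀ k : ℕ, (χ.map φ).IsRoot (μ ^ (e ^ k)) := by
    intro k
    induction k with
    | zero => simpa using hμ
    | succ k ih =>
      rw [IsRoot, eval_map] at ih ⊢
      have := hclos _ (by rw [← pow_mul, mul_comm, pow_mul, hμ5, one_pow]) ih
      rwa [← pow_mul, ← pow_succ] at this
  have hall : ∀ j, 1 ≤ j → j ≤ 4 → (χ.map φ).IsRoot (μ ^ j) := by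
    intro j j1 j4
    obtain ⟨k, hk⟩ : ∃ k, e ^ k % 5 = j := by
      rcases he with h | h <;> interval_cases j <;>
        first
          | (refine ⟨0, ?_⟩; simp [Nat.pow_mod, h]; done)
          | (refine ⟨1, ?_⟩; simp [Nat.pow_mod, h]; done)
          | (refine ⟨2, ?_⟩; simp [Nat.pow_mod, h]; done)
          | (refine ⟨3, ?_⟩; simp [Nat.pow_mod, h]; done)
    rw [← hk, ← hmod]
    exact hiter k
  have hord : orderOf μ = 5 := orderOf_eq_prime (hp := ⟨Nat.prime_five⟩) hμ5 hμ1
  have hνp : ∃ j, j < 5 ∧ μ ^ j = ν := by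
    have hprim : IsPrimitiveRoot μ 5 := hord ▸ IsPrimitiveRoot.orderOf μ
    exact hprim.eq_pow_of_pow_eq_one hν
  obtain ⟨j, hj5, rfl⟩ := hνp
  have hj1 : 1 ≤ j := Nat.one_le_iff_ne_zero.2 fun e => hν1 (by rw [e, pow_zero])
  have hroots : ∀ i, 1 ≤ i → i ≤ 4 → (χ.map φ).IsRoot ((μ ^ j) ^ i) := fun i i1 i4 => by
    rw [← pow_mul, hmod]
    refine hall _ ?_ (by have := Nat.mod_lt (j * i) (show 5 > 0 by norm_num); omega)
    interval_cases j <;> interval_cases i <;> norm_num
  let S : Finset K := (Finset.Icc 1 4).image fun i => (μ ^ j) ^ i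
  have hordj : orderOf (μ ^ j) = 5 := orderOf_eq_prime (hp := ⟨Nat.prime_five⟩) hν hν1
  have hS : S.card = 4 := by
    rw [Finset.card_image_of_injOn]
    · simp
    · intro a ha b hb hab
      simp only [Finset.coe_Icc, Set.mem_Icc] at ha hb
      exact pow_injOn_Iio_orderOf (show a ∈ Set.Iio (orderOf (μ ^ j)) by rw [hordj]; simp; omega)
        (show b ∈ Set.Iio (orderOf (μ ^ j)) by rw [hordj]; simp; omega) hab
  have hsub : S.val ≤ (χ.map φ).roots := (Multiset.le_iff_subset S.nodup).2 fun x hx => by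
    obtain ⟨i, hi, rfl⟩ := Finset.mem_image.1 (Finset.mem_def.2 hx : x ∈ S)
    simp only [Finset.mem_Icc] at hi
    exact mem_roots'.2 ⟨hm.ne_zero, hroots i hi.1 hi.2⟩
  have heq : S.val = (χ.map φ).roots := Multiset.eq_of_le_of_card_le hsub (by
    rw [IsAlgClosed.card_roots_eq_natDegree, hd]; exact hS.ge)
  have hfac := (IsAlgClosed.splits (χ.map φ)).eq_prod_roots_of_monic hm
  rw [← heq] at hfac
  rw [hfac]
  show (Multiset.map (fun a => X - C a) S.val).prod = _
  rw [← Finset.prod_eq_multiset_prod, Finset.prod_image]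
  · simp [Finset.prod_Icc_succ_top]
  · intro a ha b hb hab
    simp only [Finset.coe_Icc, Set.mem_Icc] at ha hb
    exact pow_injOn_Iio_orderOf (show a ∈ Set.Iio (orderOf (μ ^ j)) by rw [hordj]; simp; omega)
      (show b ∈ Set.Iio (orderOf (μ ^ j)) by rw [hordj]; simp; omega) hab

end Cfsg.Agent.C6Dim4
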