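import Cfsg.Agent.C6Dim4.Tools
import Cfsg.Agent.Lib.GLSemisimple.SpClasses
import Cfsg.Agent.Lib.Symplectic.Basic

/-!
Elements of prime order of `Sp₄(p)` and the normaliser of an extraspecial subgroup `2⁵` of minus type.
-/

set_option autoImplicit false
set_option linter.unusedSectionVars false
set_option linter.style.haveILetI false

open Polynomial Matrix

namespace Cfsg.Agent.C6Dim4

variable {F : Type*} [Field F] [Fintype F] {p : ℕ} [Fact p.Prime] [CharP F p]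
  {R : Subgroup (GL (Fin 2 ⊕ Fin 2) F)}

local notation "𝐉" => Matrix.J (Fin 2) F
local notation "M₄" => Matrix (Fin 2 ⊕ Fin 2) (Fin 2 ⊕ Fin 2) F

theorem mem_sp {g : GL (Fin 2 ⊕ Fin 2) F} : g ∈ Cfsg.spGL 2 F ↔ (g : M₄)ᵀ * 𝐉 * (g : M₄) = 𝐉 :=
  Iff.trans (Symplectic.mem_iff_form _).symm SymplecticGroup.mem_iff'

theorem det_sp {g : GL (Fin 2 ⊕ Fin 2) F} (hg : g ∈ Cfsg.spGL 2 F) : (g : M₄).det = 1 :=
  SymplecticGroup.det_eq_one (SymplecticGroup.mem_iff'.2 (mem_sp.1 hg))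

/-- The similitudes. -/
def simSp (F : Type*) [Field F] : Submonoid (GL (Fin 2 ⊕ Fin 2) F) where
  carrier := {g | ∃ μ : F, (g : Matrix (Fin 2 ⊕ Fin 2) (Fin 2 ⊕ Fin 2) F)ᵀ * Matrix.J (Fin 2) F *
    (g : Matrix (Fin 2 ⊕ Fin 2) (Fin 2 ⊕ Fin 2) F) = μ • Matrix.J (Fin 2) F}
  one_mem' := ⟨1, by simp⟩
  mul_mem' := by
    rintro a b ⟨μ, hμ⟩ ⟨ν, hν⟩
    refine ⟨μ * ν, ?_⟩
    rw [Units.val_mul, transpose_mul]
    calc _ = (b : Matrix (Fin 2 ⊕ Fin 2) (Fin 2 ⊕ Fin 2) F)ᵀ * ((a : Matrix (Fin 2 ⊕ Fin 2) (Fin 2 ⊕ Fin 2) F)ᵀ *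
          Matrix.J (Fin 2) F * (a : Matrix (Fin 2 ⊕ Fin 2) (Fin 2 ⊕ Fin 2) F)) * b := by simp only [mul_assoc]
      _ = _ := by rw [hμ, Matrix.mul_smul, Matrix.smul_mul, hν, smul_smul]

theorem sim_ga (h2 : (2 : F) ≠ 0) (hRf : R ≤ Cfsg.spGL 2 F) {a : GL (Fin 2 ⊕ Fin 2) F} (haR : a ∈ R)
    (ha : a * a = -1) : ga h2 a ha ∈ simSp F := by
  have h := mem_sp.1 (hRf haR)
  have h1 : (a : M₄)ᵀ * 𝐉 = -(𝐉 * (a : M₄)) := by
    have e := congrArg (fun M : M₄ => M * (a : M₄)) h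
    rw [mul_assoc _ (a : M₄) (a : M₄), ← Units.val_mul, ha, Units.val_neg, Units.val_one, mul_neg, mul_one] at e
    rw [← e, neg_neg]
  refine ⟨2, ?_⟩
  rw [coe_ga, transpose_add, transpose_one]
  have ha' : (a : M₄) * (a : M₄) = -1 := by rw [← Units.val_mul, ha, Units.val_neg, Units.val_one]
  simp only [add_mul, mul_add, one_mul, mul_one, h1, neg_mul, mul_assoc, ha', mul_neg, mul_one, neg_neg]
  rw [two_smul]
  abel

theorem sim_sc (c : Fˣ) : scU (Fin 2 ⊕ Fin 2) c ∈ simSp F :=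
  ⟨(c : F) * c, by simp [coe_scU, smul_smul]⟩

theorem mem_sp_of_sim {g : GL (Fin 2 ⊕ Fin 2) F} (hg : g ∈ simSp F) (hdet : (g : M₄).det = 1) (h5 : g ^ 5 = 1) :
    g ∈ Cfsg.spGL 2 F := by
  obtain ⟨μ, hμ⟩ := hg
  have h4 : μ ^ 4 = 1 := by
    have := congrArg Matrix.det hμ
    rw [det_mul, det_mul, det_transpose, hdet, det_smul, one_mul, mul_one, Fintype.card_sum, Fintype.card_fin] at this
    exact (mul_eq_right₀ (Matrix.isUnit_det_J (Fin 2) F).ne_zero).1 this.symm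
  have hk : ∀ k : ℕ, ((g ^ k : GL (Fin 2 ⊕ Fin 2) F) : M₄)ᵀ * 𝐉 * ((g ^ k : GL (Fin 2 ⊕ Fin 2) F) : M₄) = μ ^ k • 𝐉 := by
    intro k
    induction k with
    | zero => simp
    | succ k ih =>
      rw [pow_succ, Units.val_mul, transpose_mul]
      calc _ = (g : M₄)ᵀ * (((g ^ k : GL (Fin 2 ⊕ Fin 2) F) : M₄)ᵀ * 𝐉 * ((g ^ k : GL (Fin 2 ⊕ Fin 2) F) : M₄)) *
            (g : M₄) := by simp only [mul_assoc]
        _ = _ := by rw [ih, Matrix.mul_smul, Matrix.smul_mul, hμ, smul_smul, pow_succ]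
  have h := hk 5
  rw [h5, Units.val_one, transpose_one, one_mul, mul_one] at h
  have hμ5 : μ ^ 5 = 1 := by
    have hJ : (𝐉 : M₄) (Sum.inr 0) (Sum.inl 0) = 1 := by simp [Matrix.J]
    have := congrFun (congrFun h (Sum.inr 0)) (Sum.inl 0)
    rw [Matrix.smul_apply, hJ, smul_eq_mul, mul_one] at this
    exact this.symm
  have hμ1 : μ = 1 := by rwa [pow_succ, h4, one_mul] at hμ5
  exact mem_sp.2 (by rw [hμ, hμ1, one_smul])

theorem sp_conj (p : ℕ) [Fact p.Prime] [CharP F p] {N : ℕ} (hN : (N : F) ≠ 0) {y h : GL (Fin 2 ⊕ Fin 2) F} (hyG : y ∈ Cfsg.spGL 2 F)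
    (hhG : h ∈ Cfsg.spGL 2 F) (hy : y ^ N = 1) (hh : h ^ N = 1)
    (hc : (y : M₄).charpoly = (h : M₄).charpoly) : ∃ g ∈ Cfsg.spGL 2 F, g⁻¹ * y * g = h := by
  let Y : Matrix.symplecticGroup (Fin 2) F := ⟨(y : M₄), SymplecticGroup.mem_iff'.2 (mem_sp.1 hyG)⟩
  let H : Matrix.symplecticGroup (Fin 2) F := ⟨(h : M₄), SymplecticGroup.mem_iff'.2 (mem_sp.1 hhG)⟩
  have hcop : ∀ (Z : Matrix.symplecticGroup (Fin 2) F), Z ^ N = 1 → (orderOf Z).Coprime p := fun Z hZ => by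
    rw [Nat.coprime_comm, (Fact.out : p.Prime).coprime_iff_not_dvd]
    exact fun hd => hN ((CharP.cast_eq_zero_iff F p N).2 (hd.trans (orderOf_dvd_of_pow_eq_one hZ)))
  have hYN : Y ^ N = 1 := Subtype.ext (by
    rw [SubmonoidClass.coe_pow, ← Units.val_pow_eq_pow_val, hy]; rfl)
  have hHN : H ^ N = 1 := Subtype.ext (by
    rw [SubmonoidClass.coe_pow, ← Units.val_pow_eq_pow_val, hh]; rfl)
  obtain ⟨C, hC⟩ := isConj_iff.1 (GLSemi.sp_isConj p Y H (hcop Y hYN) (hcop H hHN) hc)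
  let c : GL (Fin 2 ⊕ Fin 2) F := (Matrix.symplecticGroup (Fin 2) F).subtype.toHomUnits C
  have hcm : c ∈ Cfsg.spGL 2 F := mem_sp.2 (SymplecticGroup.mem_iff'.1 C.2)
  refine ⟨c⁻¹, inv_mem hcm, ?_⟩
  rw [inv_inv, mul_inv_eq_iff_eq_mul]
  exact Units.ext (congrArg Subtype.val (mul_inv_eq_iff_eq_mul.1 hC))

theorem sp_two (hp : p ≠ 2) (Φ : Frame R) (hRf : R ≤ Cfsg.spGL 2 F) {x : GL (Fin 2 ⊕ Fin 2) F}
    (hx : x ∈ Cfsg.spGL 2 F) (hsc : IsSc (x ^ 2)) (hns : ¬ IsSc x) :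
    ∃ g ∈ Cfsg.spGL 2 F, g⁻¹ * x * g ∈ Geo.subgroupNormalizer R := by
  have hι : Fintype.card (Fin 2 ⊕ Fin 2) = 4 := by simp
  haveI := Φ.nonempty
  obtain ⟨c, hc⟩ := hsc
  have hx2 := mem_sp.1 (pow_mem hx 2)
  rw [hc] at hx2
  have hJ : (𝐉 : M₄) (Sum.inr 0) (Sum.inl 0) = 1 := by simp [Matrix.J]
  have hcc : c * c = 1 := by
    have h := congrFun (congrFun hx2 (Sum.inr 0)) (Sum.inl 0)
    simp [Matrix.smul_mul, Matrix.mul_smul, smul_smul, hJ] at h
    exact h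
  have hxx : (x : M₄) * (x : M₄) = c • 1 := by rw [← hc, pow_two, Units.val_mul]
  rcases mul_self_eq_one_iff.1 hcc with rfl | rfl
  · have hyy : x * x = 1 := Units.ext (by rw [Units.val_mul, hxx, one_smul, Units.val_one])
    have hd := det_sp hx
    rcases invol_cases hp hι hyy hns with ⟨-, ht⟩ | ⟨hd', -⟩
    · obtain ⟨hN, hn, h0⟩ := gamma_facts Φ 0
      obtain ⟨g, hg, e⟩ := sp_conj p (N := 2) (by exact_mod_cast two_ne (F := F) hp) hx (hRf (Φ.mem 0))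
        (by rw [pow_two, hyy]) (by rw [pow_two, Φ.sq]) (invol_charpoly hp hι hyy hns (Φ.sq 0) hn (ht.trans h0.symm))
      exact ⟨g, hg, e ▸ hN⟩
    · exact absurd (hd.symm.trans hd') fun e => two_ne (F := F) hp (by linear_combination e)
  · have hxx' : (x : M₄) * x = -1 := by rw [hxx, neg_one_smul]
    have ht : (x : M₄).trace = 0 := by
      have h := mem_sp.1 hx
      have e1 : (x : M₄) = 𝐉 * ((x : M₄)ᵀ * 𝐉) := by
        have e := congrArg (fun M : M₄ => 𝐉 * (M * (x : M₄))) h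
        simp only [mul_assoc, hxx', mul_neg, mul_one, neg_mul] at e
        rw [← mul_assoc 𝐉 𝐉 (x : M₄), J_squared, neg_mul, one_mul, neg_inj] at e
        exact e.symm
      have e2 := congrArg Matrix.trace e1
      rw [Matrix.trace_mul_comm, mul_assoc, J_squared, mul_neg, mul_one, Matrix.trace_neg, Matrix.trace_transpose] at e2
      exact (mul_eq_zero.1 (show (2 : F) * (x : M₄).trace = 0 by linear_combination e2)).resolve_left (two_ne hp)
    set h := Φ.γ 0 * Φ.γ 1 with hh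
    have hhh : h * h = -1 := Φ.pair_sq (by decide)
    have hht : (h : M₄).trace = 0 := by
      refine trace_eq_zero Φ.h2 (γ := Φ.γ 0) ?_
      rw [hh, mul_assoc, Φ.anti 1 0 (by decide), mul_neg]
    have e4 : ∀ {y : GL (Fin 2 ⊕ Fin 2) F}, y * y = -1 → y ^ 4 = 1 := fun {y} hy => by
      rw [show (4 : ℕ) = 2 * 2 from rfl, pow_mul, pow_two y, hy, neg_one_sq]
    have h4 : ((4 : ℕ) : F) ≠ 0 := by
      rw [show (4 : ℕ) = 2 * 2 from rfl, Nat.cast_mul]
      exact mul_ne_zero (by exact_mod_cast two_ne (F := F) hp) (by exact_mod_cast two_ne (F := F) hp)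
    have hxx'' : x * x = -1 := Units.ext (by rw [Units.val_mul, hxx', Units.val_neg, Units.val_one])
    obtain ⟨g, hg, e⟩ := sp_conj p h4 hx (hRf (mul_mem (Φ.mem 0) (Φ.mem 1))) (e4 hxx'') (e4 hhh)
      ((charpoly_sq_neg hp hι hxx' (Or.inl ht)).trans (charpoly_sq_neg hp hι
        (by rw [← Units.val_mul, hhh, Units.val_neg, Units.val_one]) (Or.inl hht)).symm)
    exact ⟨g, hg, e ▸ Subgroup.le_normalizer (mul_mem (Φ.mem 0) (Φ.mem 1))⟩

theorem sp_five (hF : Fintype.card F = p) (h5 : p % 5 = 2 ∨ p % 5 = 3) (Φ : Frame R) (hRf : R ≤ Cfsg.spGL 2 F)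
    {y : GL (Fin 2 ⊕ Fin 2) F} (hyG : y ∈ Cfsg.spGL 2 F) (hy : y ^ 5 = 1) (hns : ¬ IsSc y) :
    ∃ g ∈ Cfsg.spGL 2 F, g⁻¹ * y * g ∈ Geo.subgroupNormalizer R := by
  haveI : Fact (Nat.Prime 5) := ⟨Nat.prime_five⟩
  have hι : Fintype.card (Fin 2 ⊕ Fin 2) = 4 := by simp
  have h5F : ((5 : ℕ) : F) ≠ 0 := nat_ne (by omega)
  have h5F' : (5 : F) ≠ 0 := by exact_mod_cast h5F
  have hm : ¬ 5 ∣ p - 1 := by omega
  obtain ⟨h, hhS, hhN, hh, hhn⟩ := Φ.exists_five (simSp F) sim_sc (fun a haR ha => sim_ga Φ.h2 hRf haR ha)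
    (powers_coprime_five (by rw [Nat.card_units, Nat.card_eq_fintype_card, hF]) hm)
  obtain ⟨ν, hν, hν1⟩ := exists_root_five h5F'
  set φ := algebraMap F (AlgebraicClosure F)
  have data : ∀ g : GL (Fin 2 ⊕ Fin 2) F, g ^ 5 = 1 → ¬ IsSc g → (g : M₄).charpoly.map φ =
      (X - C ν) * (X - C (ν ^ 2)) * (X - C (ν ^ 3)) * (X - C (ν ^ 4)) := fun g hg hgn =>
    charpoly_five φ hι (by rw [← Units.val_pow_eq_pow_val, hg, Units.val_one])
      (mat_ne_of_not_sc hgn).1 h5F' h5 (fun μ _ hμ => closed_frob φ hF _ μ hμ) hν hν1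
  obtain ⟨g, hg, e⟩ := sp_conj p h5F hyG (mem_sp_of_sim hhS (det_five φ hι hν (data h hh hhn)) hh) hy hh
    (Polynomial.map_injective φ φ.injective ((data y hy hns).trans (data h hh hhn).symm))
  exact ⟨g, hg, e ▸ hhN⟩

/-- Coordinates in which `A ⊕ 1` is symplectic. -/
def spPairs : Fin 2 ⊕ Fin 2 ≃ Fin 2 ⊕ Fin 2 := Equiv.swap (Sum.inl 1) (Sum.inr 0)

theorem block_mem_sp {x : GL (Fin 2 ⊕ Fin 2) F} {A : Matrix (Fin 2) (Fin 2) F} (hA : A.det = 1)
    (hx : (x : M₄) = Matrix.reindexAlgEquiv F F spPairs (fromBlocks A 0 0 1)) : x ∈ Cfsg.spGL 2 F := by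
  rw [det_fin_two] at hA
  refine mem_sp.2 ?_
  rw [hx]
  ext i j
  rcases i with i | i <;> rcases j with j | j <;> fin_cases i <;> fin_cases j <;>
    simp [Matrix.mul_apply, Fintype.sum_sum_type, Fin.sum_univ_two, spPairs, Matrix.J, Equiv.swap_apply_def] <;>
    first
      | ring1
      | linear_combination hA
      | linear_combination -hA

/-- Involutions of `R` lie in five classes modulo scalars. -/
theorem invol_class (P : Pre R) (Φ : Frame R) (hm : Geo.IsOfMinusType 2 R) {u : GL (Fin 2 ⊕ Fin 2) F} (hu : u ∈ R)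
    (huu : u * u = 1) (hus : ¬ IsSc u) : ∃ i, Φ.sig u = Φ.sig (Φ.γ i) := by
  haveI := Φ.nonempty
  by_contra hcon
  push Not at hcon
  have hanti : ∀ i, u * Φ.γ i = -(Φ.γ i * u) := fun i => by
    refine (Φ.cc u hu _ (Φ.mem i)).resolve_left fun hc => ?_
    refine no_abelian_eight P Φ.neg hm hu (Φ.mem i) huu (Φ.sq i) hc hus (gamma_facts Φ i).2.1 fun hs => hcon i ?_
    have h := Φ.sig_sc (mul_mem hu (Φ.mem i)) hs
    rw [Φ.sig_mul hu (Φ.mem i)] at h
    funext j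
    have := congrFun h j
    simpa [Frame.add] using this
  refine hcon (Fin.last 4) ?_
  rw [Φ.sig_eq hu (s := fun _ => true) fun j => hanti _,
    Φ.sig_eq (Φ.mem _) (s := fun _ => true) fun j => Φ.anti _ _ (Fin.castSucc_lt_last j).ne']

theorem sig_gamma_inj (Φ : Frame R) : Function.Injective fun i => Φ.sig (Φ.γ i) := by
  haveI := Φ.nonempty
  intro i k h
  by_contra hik
  have hs : IsSc (Φ.γ i * Φ.γ k) := Φ.sc_of_sig (mul_mem (Φ.mem i) (Φ.mem k)) (by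
    rw [Φ.sig_mul (Φ.mem i) (Φ.mem k), show Φ.sig (Φ.γ i) = Φ.sig (Φ.γ k) from h]
    funext j
    simp [Frame.add])
  refine not_sc_of_anti Φ.h2 (b := Φ.γ i) ?_ hs
  rw [mul_assoc, Φ.anti k i (Ne.symm hik), mul_neg]

/-- An element of order three of the normaliser commutes with two anticommuting involutions. -/
theorem two_fixed (P : Pre R) (Φ : Frame R) (hm : Geo.IsOfMinusType 2 R) {g : GL (Fin 2 ⊕ Fin 2) F}
    (hg : g ∈ Geo.subgroupNormalizer R) (h3 : g ^ 3 = 1) :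
    ∃ i j, i ≠ j ∧ g * Φ.γ i = Φ.γ i * g ∧ g * Φ.γ j = Φ.γ j * g := by
  classical
  haveI := Φ.nonempty
  haveI : Fact (Nat.Prime 3) := ⟨Nat.prime_three⟩
  have hπ : ∀ i, ∃ k, Φ.act g (Φ.sig (Φ.γ i)) = Φ.sig (Φ.γ k) := fun i => by
    rw [Φ.act_sig hg (Φ.mem i)]
    refine invol_class P Φ hm (Φ.conj_mem hg (Φ.mem i)) ?_ fun hs => (gamma_facts Φ i).2.1 ?_
    · rw [show g * Φ.γ i * g⁻¹ * (g * Φ.γ i * g⁻¹) = g * (Φ.γ i * Φ.γ i) * g⁻¹ by group, Φ.sq, mul_one,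
        mul_inv_cancel]
    · have : Φ.γ i = g⁻¹ * (g * Φ.γ i * g⁻¹) * g := by group
      rw [this, mul_assoc, hs.comm g, ← mul_assoc, inv_mul_cancel, one_mul]
      exact hs
  choose π hπ using hπ
  have hinj : Function.Injective π := fun i k e => by
    refine sig_gamma_inj Φ ((Φ.act_bij hg).1 ?_)
    rw [hπ, hπ, e]
  let σ : Equiv.Perm (Fin 5) := Equiv.ofBijective π (Finite.injective_iff_bijective.1 hinj)
  have hσ3 : σ ^ 3 = 1 := Equiv.ext fun i => sig_gamma_inj Φ (by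
    show Φ.sig (Φ.γ (π (π (π i)))) = Φ.sig (Φ.γ i)
    rw [← hπ, ← hπ, ← hπ]
    have := Φ.act_iterate hg 3 (Φ.sig (Φ.γ i))
    rw [h3, one_mul, inv_one, mul_one, Φ.sig_rep] at this
    exact this)
  have hmod := Equiv.Perm.card_compl_support_modEq (p := 3) (n := 1) (σ := σ) (by rw [pow_one]; exact hσ3)
  rw [Fintype.card_fin] at hmod
  have h2 : 1 < σ.supportᶜ.card := by
    unfold Nat.ModEq at hmod
    have := σ.supportᶜ.card_le_univ
    omega
  obtain ⟨i, hi, j, hj, hij⟩ := Finset.one_lt_card.1 h2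
  have key : ∀ k ∈ σ.supportᶜ, g * Φ.γ k = Φ.γ k * g := fun k hk => by
    refine Φ.fixed_comm hg (r := 3) (by decide) (by rw [h3]; exact isSc_one) (Φ.mem k) ?_
    rw [Finset.mem_compl, Equiv.Perm.mem_support, not_not] at hk
    rw [hπ, show π k = k from hk]
  exact ⟨i, j, hij, key i hi, key j hj⟩

/-- Anticommuting invertible matrices do not commute with `A ⊕ 1`. -/
theorem no_anti_comm (h2 : (2 : F) ≠ 0) {t : F} (ht : t ≠ 2) {a b : GL (Fin 2 ⊕ Fin 2) F}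
    (hab : a * b = -(b * a))
    (ha : Matrix.reindexAlgEquiv F F spPairs (fromBlocks (comp2 t) 0 0 1) * (a : M₄) =
      (a : M₄) * Matrix.reindexAlgEquiv F F spPairs (fromBlocks (comp2 t) 0 0 1))
    (hb : Matrix.reindexAlgEquiv F F spPairs (fromBlocks (comp2 t) 0 0 1) * (b : M₄) =
      (b : M₄) * Matrix.reindexAlgEquiv F F spPairs (fromBlocks (comp2 t) 0 0 1)) : False := by
  set e := Matrix.reindexAlgEquiv F F spPairs
  have hdet1 : (comp2 t - 1 : Matrix (Fin 2) (Fin 2) F).det ≠ 0 := fun h => ht (by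
    simp [comp2, det_fin_two] at h
    linear_combination -h)
  have hu : IsUnit (comp2 t - 1 : Matrix (Fin 2) (Fin 2) F) :=
    (Matrix.isUnit_iff_isUnit_det _).2 (isUnit_iff_ne_zero.2 hdet1)
  have split : ∀ u : GL (Fin 2 ⊕ Fin 2) F, e (fromBlocks (comp2 t) 0 0 1) * (u : M₄) =
      (u : M₄) * e (fromBlocks (comp2 t) 0 0 1) →
      ∃ P S : Matrix (Fin 2) (Fin 2) F, (u : M₄) = e (fromBlocks P 0 0 S) ∧ P.det ≠ 0 ∧ comp2 t * P = P * comp2 t := by
    intro u hu'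
    set N := e.symm (u : M₄) with hN
    have eu : (u : M₄) = e N := (e.apply_symm_apply _).symm
    rw [eu, ← map_mul, ← map_mul] at hu'
    have h := e.injective hu'
    rw [← fromBlocks_toBlocks N, fromBlocks_multiply, fromBlocks_multiply] at h
    obtain ⟨h11, h12, h21, -⟩ := fromBlocks_inj.1 h
    simp only [Matrix.zero_mul, Matrix.mul_zero, add_zero, zero_add, Matrix.one_mul, Matrix.mul_one] at h11 h12 h21
    have q : N.toBlocks₁₂ = 0 := hu.mul_right_eq_zero.1 (by rw [Matrix.sub_mul, Matrix.one_mul, h12, sub_self])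
    have r : N.toBlocks₂₁ = 0 := hu.mul_left_eq_zero.1 (by rw [Matrix.mul_sub, Matrix.mul_one, ← h21, sub_self])
    have eN : N = fromBlocks N.toBlocks₁₁ 0 0 N.toBlocks₂₂ := by
      conv_lhs => rw [← fromBlocks_toBlocks N, q, r]
    refine ⟨_, _, eu.trans (congrArg e eN), fun hd => ?_, h11⟩
    have := (Matrix.isUnit_iff_isUnit_det _).1 u.isUnit
    rw [eu, eN, Matrix.det_reindexAlgEquiv, det_fromBlocks_zero₂₁, hd, zero_mul] at this
    exact not_isUnit_zero this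
  obtain ⟨P, S, ea, hP, cP⟩ := split a ha
  obtain ⟨Q, T, eb, hQ, cQ⟩ := split b hb
  have shape : ∀ P : Matrix (Fin 2) (Fin 2) F, comp2 t * P = P * comp2 t → P 0 1 = -P 1 0 ∧ P 1 1 = P 0 0 + t * P 1 0 := by
    intro P h
    have h00 := congrFun (congrFun h 0) 0
    have h10 := congrFun (congrFun h 1) 0
    simp [comp2, Matrix.mul_apply, Fin.sum_univ_two] at h00 h10
    exact ⟨by linear_combination -h00, by linear_combination -h10⟩
  obtain ⟨p1, p2⟩ := shape P cP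
  obtain ⟨q1, q2⟩ := shape Q cQ
  have hcomm : P * Q = Q * P := by
    ext i j
    fin_cases i <;> fin_cases j <;> simp [Matrix.mul_apply, Fin.sum_univ_two, p1, p2, q1, q2] <;> ring
  have h := congrArg Units.val hab
  rw [Units.val_neg, Units.val_mul, Units.val_mul, ea, eb, ← map_mul, ← map_mul, ← map_neg, fromBlocks_multiply,
    fromBlocks_multiply, fromBlocks_neg] at h
  have h11 := (fromBlocks_inj.1 (e.injective h)).1
  simp only [Matrix.zero_mul, Matrix.mul_zero, add_zero, ← hcomm] at h11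
  have h22 : (2 : F) • (P * Q) = 0 := by rw [two_smul]; nth_rw 1 [h11]; exact neg_add_cancel _
  have := congrArg Matrix.det ((smul_eq_zero.1 h22).resolve_left h2)
  rw [det_mul, Matrix.det_zero] at this
  exact mul_ne_zero hP hQ this

theorem sp_bad (hp : p ≠ 2) (P : Pre R) (Φ : Frame R) (hm : Geo.IsOfMinusType 2 R) {r : ℕ}
    [Fact r.Prime] (h : r = 3 ∨ (r = 5 ∧ ¬ (p % 5 = 2 ∨ p % 5 = 3))) :
    ∃ x ∈ Cfsg.spGL 2 F, x ^ r = 1 ∧ ¬ IsSc x ∧ ∀ g ∈ Cfsg.spGL 2 F, g⁻¹ * x * g ∉ Geo.subgroupNormalizer R := by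
  rcases h with rfl | ⟨rfl, h5⟩
  · by_cases hp3 : p = 3
    · subst hp3
      have h30 : (3 : F) = 0 := by exact_mod_cast CharP.cast_eq_zero F 3
      set A : Matrix (Fin 2) (Fin 2) F := !![1, 1; 0, 1] with hA
      have hA3 : A ^ 3 = 1 := by
        ext i j
        fin_cases i <;> fin_cases j <;> simp [hA, pow_succ, Matrix.mul_apply, Fin.sum_univ_two] <;>
          linear_combination h30
      obtain ⟨x, hx, hx3, -, hxn⟩ := block_facts spPairs hA3 (by simp [hA, det_fin_two]) (fun c e => by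
        have := congrFun (congrFun e 0) 1
        simp [hA] at this)
      refine ⟨x, block_mem_sp (by simp [hA, det_fin_two]) hx, hx3, hxn, fun g _ hN =>
        no_fix Φ (Or.inl rfl) (by rw [hx3]; exact isSc_one) hxn ?_ hN⟩
      rw [if_pos rfl]
      refine nine_le_centr (by simp) 1 (Pi.single (Sum.inl 0) 1) (Pi.single (Sum.inr 0) 1)
        (fun e => by simpa using congrFun e (Sum.inl 0)) ?_
      rw [hx]
      ext i j
      rcases i with i | i <;> rcases j with j | j <;> fin_cases i <;> fin_cases j <;>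
        simp [spPairs, Equiv.swap_apply_def, vecMulVec, hA]
    · obtain ⟨hA, hAd, hAn⟩ := comp2_facts (-1 : F)
      obtain ⟨x, hx, hx3, -, hxn⟩ := block_facts spPairs (quad_three hA) hAd hAn
      refine ⟨x, block_mem_sp hAd hx, hx3, hxn, fun g _ hN => ?_⟩
      obtain ⟨i, j, hij, hi, hj⟩ := two_fixed P Φ hm hN (by
        rw [show (g⁻¹ * x * g) ^ 3 = g⁻¹ * x ^ 3 * g by simpa using conj_pow (i := 3) (a := g⁻¹) (b := x), hx3,
          mul_one, inv_mul_cancel])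
      have conj : ∀ u, g⁻¹ * x * g * u = u * (g⁻¹ * x * g) → x * (g * u * g⁻¹) = g * u * g⁻¹ * x := fun u h => by
        have := congrArg (fun w => g * w * g⁻¹) h
        simp only [mul_assoc, mul_inv_cancel_left, mul_inv_cancel, mul_one] at this
        simpa only [mul_assoc] using this
      refine no_anti_comm Φ.h2 (t := -1) (fun e => hp3 ((Nat.prime_dvd_prime_iff_eq Fact.out Nat.prime_three).1
        ((CharP.cast_eq_zero_iff F p 3).1 (by push_cast; linear_combination -e))))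
        (a := g * Φ.γ i * g⁻¹) (b := g * Φ.γ j * g⁻¹) ?_ ?_ ?_
      · rw [show g * Φ.γ i * g⁻¹ * (g * Φ.γ j * g⁻¹) = g * (Φ.γ i * Φ.γ j) * g⁻¹ by group, Φ.anti i j hij, mul_neg,
          neg_mul, show g * Φ.γ j * g⁻¹ * (g * Φ.γ i * g⁻¹) = g * (Φ.γ j * Φ.γ i) * g⁻¹ by group]
      · rw [← hx, ← Units.val_mul, ← Units.val_mul, conj _ hi]
      · rw [← hx, ← Units.val_mul, ← Units.val_mul, conj _ hj]
  · obtain ⟨t, ht, -, -⟩ := exists_t (F := F) hp (by omega)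
    obtain ⟨hA, hAd, hAn⟩ := comp2_facts t
    obtain ⟨x, hx, hx5, -, hxn⟩ := block_facts spPairs (quad_five hA ht) hAd hAn
    exact ⟨x, block_mem_sp hAd hx, hx5, hxn, fun g _ hN =>
      no_fix Φ (Or.inr rfl) (by rw [hx5]; exact isSc_one) hxn (by rw [if_neg (by decide), hx]; exact five_le_centr _ _) hN⟩

end Cfsg.Agent.C6Dim4
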