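import Cfsg.Agent.C6Dim4.Common
import Cfsg.Agent.C6Dim4.Poly

/-!
Characteristic polynomials and representatives in the normaliser.
-/

set_option autoImplicit false
set_option linter.unusedSectionVars false
set_option linter.style.haveILetI false

open Polynomial Matrix

namespace Cfsg.Agent.C6Dim4

variable {F : Type*} [Field F] [Fintype F] {ι : Type} [Fintype ι] [DecidableEq ι] {p : ℕ} [Fact p.Prime] [CharP F p]

theorem two_ne (hp : p ≠ 2) : (2 : F) ≠ 0 := fun e =>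
  hp ((Nat.prime_dvd_prime_iff_eq (Fact.out : p.Prime) Nat.prime_two).1
    ((CharP.cast_eq_zero_iff F p 2).1 (by exact_mod_cast e)))

theorem nat_ne {r : ℕ} [Fact r.Prime] (h : r ≠ p) : ((r : ℕ) : F) ≠ 0 := fun e =>
  h ((Nat.prime_dvd_prime_iff_eq (Fact.out : p.Prime) (Fact.out : r.Prime)).1
    ((CharP.cast_eq_zero_iff F p r).1 e)).symm

theorem mat_ne_of_not_sc {g : GL ι F} (h : ¬ IsSc g) : (g : Matrix ι ι F) ≠ 1 ∧ (g : Matrix ι ι F) ≠ -1 :=
  ⟨fun e => h ⟨1, by rw [e, one_smul]⟩, fun e => h ⟨-1, by rw [e, neg_one_smul]⟩⟩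

theorem not_sc_of_anti [Nonempty ι] (h2 : (2 : F) ≠ 0) {a b : GL ι F} (h : a * b = -(b * a)) : ¬ IsSc a := fun hs => by
  rw [hs.comm b] at h
  exact neg_ne_self h2 _ h.symm

/-- An involution in dimension four has determinant one and trace zero, or determinant minus one and trace two
up to sign. -/
theorem invol_cases (hp : p ≠ 2) (hι : Fintype.card ι = 4) {y : GL ι F} (hy : y * y = 1) (hns : ¬ IsSc y) :
    ((y : Matrix ι ι F).det = 1 ∧ (y : Matrix ι ι F).trace = 0) ∨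
      ((y : Matrix ι ι F).det = -1 ∧ ((y : Matrix ι ι F).trace = 2 ∨ (y : Matrix ι ι F).trace = -2)) := by
  obtain ⟨a, a1, a3, -, ht, hd⟩ := invol_data hp hι (congrArg Units.val hy) (mat_ne_of_not_sc hns).1
    (mat_ne_of_not_sc hns).2
  interval_cases a
  · exact Or.inr ⟨by rw [hd]; norm_num, Or.inl (by rw [ht]; norm_num)⟩
  · exact Or.inl ⟨by rw [hd]; norm_num, by rw [ht]; norm_num⟩
  · exact Or.inr ⟨by rw [hd]; norm_num, Or.inr (by rw [ht]; norm_num)⟩

theorem invol_charpoly (hp : p ≠ 2) (hι : Fintype.card ι = 4) {y h : GL ι F} (hy : y * y = 1) (hyn : ¬ IsSc y)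
    (hh : h * h = 1) (hhn : ¬ IsSc h) (ht : (y : Matrix ι ι F).trace = (h : Matrix ι ι F).trace) :
    (y : Matrix ι ι F).charpoly = (h : Matrix ι ι F).charpoly :=
  invol_charpoly_unique hp hι (congrArg Units.val hy) (mat_ne_of_not_sc hyn).1 (mat_ne_of_not_sc hyn).2
    (congrArg Units.val hh) (mat_ne_of_not_sc hhn).1 (mat_ne_of_not_sc hhn).2 ht

theorem gamma_facts {R : Subgroup (GL ι F)} (Φ : Frame R) (i : Fin 5) :
    Φ.γ i ∈ Geo.subgroupNormalizer R ∧ ¬ IsSc (Φ.γ i) ∧ (Φ.γ i : Matrix ι ι F).trace = 0 := by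
  haveI := Φ.nonempty
  obtain ⟨j, hj⟩ := exists_ne i
  exact ⟨Subgroup.le_normalizer (Φ.mem i), not_sc_of_anti Φ.h2 (Φ.anti i j hj.symm),
    trace_eq_zero Φ.h2 (Φ.anti i j hj.symm)⟩

theorem det_three (hι : Fintype.card ι = 4) {A : Matrix ι ι F} {l : ℕ}
    (hc : A.charpoly = (X - C 1) ^ (4 - 2 * l) * phi3 F ^ l) : A.det = 1 := by
  rw [det_eq_eval (by rw [hι]; decide), hc, eval_mul, eval_pow, eval_pow, eval_sub, eval_X, eval_C,
    (phi3_facts (F := F)).2.2.2, one_pow, mul_one, zero_sub, Even.neg_one_pow]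
  exact ⟨2 - l, by omega⟩

theorem det_five {K : Type*} [Field K] (φ : F →+* K) (hι : Fintype.card ι = 4) {A : Matrix ι ι F} {ν : K}
    (hν : ν ^ 5 = 1)
    (hc : A.charpoly.map φ = (X - C ν) * (X - C (ν ^ 2)) * (X - C (ν ^ 3)) * (X - C (ν ^ 4))) : A.det = 1 := by
  refine φ.injective ?_
  rw [map_one, det_eq_eval (by rw [hι]; decide), ← Polynomial.eval₂_at_apply φ, map_zero, ← eval_map, hc]
  simp only [eval_mul, eval_sub, eval_X, eval_C]
  linear_combination (ν ^ 5 + 1) * hν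

theorem exists_root_five (h5 : (5 : F) ≠ 0) :
    ∃ ν : AlgebraicClosure F, ν ^ 5 = 1 ∧ ν ≠ 1 := by
  haveI : NeZero ((5 : ℕ) : AlgebraicClosure F) := ⟨fun e => h5 (by
    have : algebraMap F (AlgebraicClosure F) 5 = 0 := by
      rw [map_ofNat]; exact_mod_cast e
    exact (map_eq_zero _).1 this)⟩
  obtain ⟨ν, hν⟩ := HasEnoughRootsOfUnity.exists_primitiveRoot (AlgebraicClosure F) 5
  exact ⟨ν, hν.pow_eq_one, hν.ne_one (by norm_num)⟩

/-- Frobenius permutes the roots. -/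
theorem closed_frob {K : Type*} [Field K] (φ : F →+* K) (hF : Fintype.card F = p) (P : F[X]) (μ : K)
    (h : P.eval₂ φ μ = 0) : P.eval₂ φ (μ ^ p) = 0 := by
  haveI : CharP K p := charP_of_injective_ringHom φ.injective p
  have e : ∀ a : F, frobenius K p (φ a) = φ a := fun a => by
    rw [frobenius_def, ← map_pow]
    congr 1
    rw [← hF]
    exact FiniteField.pow_card a
  have := congrArg (frobenius K p) h
  rw [map_zero, hom_eval₂, frobenius_def] at this
  rwa [show (frobenius K p).comp φ = φ from RingHom.ext e] at this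

/-- Frobenius composed with inversion permutes the roots of a self-dual polynomial. -/
theorem closed_dual {K : Type*} [Field K] (φ : F →+* K) (σ : F →+* F) (hσ : ∀ a, σ a = a ^ p) {P : F[X]}
    (hP : P.coeff 0 ≠ 0) (hd : GLSemi.dual σ P = P) (μ : K) (hμ : μ ≠ 0) (h : P.eval₂ φ μ = 0) :
    P.eval₂ φ ((μ⁻¹) ^ p) = 0 := by
  haveI : CharP K p := charP_of_injective_ringHom φ.injective p
  have e : φ.comp σ = (frobenius K p).comp φ := RingHom.ext fun a => by
    simp [hσ, frobenius_def]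
  have h1 : P.reverse.eval₂ φ μ⁻¹ = 0 := by
    haveI : Invertible μ := invertibleOfNonzero hμ
    have h2 := Polynomial.eval₂_reverse_eq_zero_iff φ μ P
    rw [invOf_eq_inv] at h2
    exact h2.2 h
  rw [← hd, GLSemi.dual, eval₂_mul, eval₂_map, e, show μ⁻¹ ^ p = frobenius K p μ⁻¹ from rfl,
    ← hom_eval₂, h1, map_zero, mul_zero]

theorem big_case (hι : Fintype.card ι = 4) {R G : Subgroup (GL ι F)} (Φ : Frame R)
    (hdet : ∀ x ∈ G, (x : Matrix ι ι F).det = 1) {r : ℕ} [Fact r.Prime] (hΩ : r ∣ (Geo.subgroupNormalizer R).relIndex G)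
    (h7 : 7 ≤ r)
    (hall : ∀ x ∈ G, (∃ z : F, ((x ^ r : GL ι F) : Matrix ι ι F) = z • (1 : Matrix ι ι F)) →
      (∀ z : F, (x : Matrix ι ι F) ≠ z • (1 : Matrix ι ι F)) →
      ∃ g ∈ G, g⁻¹ * x * g ∈ Geo.subgroupNormalizer R) : False := by
  haveI : Nonempty ι := Fintype.card_pos_iff.1 (by omega)
  obtain ⟨x, hx, hxr, hns⟩ := exists_order hι hdet hΩ (by omega)
  obtain ⟨g, -, hgN⟩ := hall x hx ⟨1, by simp [hxr]⟩ fun z hz => hns ⟨z, hz⟩
  refine not_sc_conj (g := g) hns (Φ.big hgN h7 ?_)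
  rw [show (g⁻¹ * x * g) ^ r = g⁻¹ * x ^ r * g by simpa using conj_pow (i := r) (a := g⁻¹) (b := x), hxr,
    mul_one, inv_mul_cancel]
  exact isSc_one

theorem prime_cases {r : ℕ} [hr : Fact r.Prime] (h : ¬ 7 ≤ r) (h2 : r ≠ 2) : r = 3 ∨ r = 5 := by
  have := hr.out.two_le
  have hp := hr.out
  interval_cases r <;> first | omega | exact absurd hp (by decide)

theorem mem_of_conj {R : Subgroup (GL ι F)} {x w g h : GL ι F} (hw : IsSc w) (hN : h ∈ Geo.subgroupNormalizer R)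
    (e : g⁻¹ * (x * w⁻¹) * g = h) : g⁻¹ * x * g ∈ Geo.subgroupNormalizer R := by
  rw [show g⁻¹ * x * g = g⁻¹ * (x * w⁻¹) * g * w by
    rw [mul_assoc _ g w, ← hw.comm g, ← mul_assoc, mul_assoc g⁻¹ (x * w⁻¹) w, inv_mul_cancel_right], e]
  exact mul_mem hN (sc_mem_normalizer hw)

theorem powers_coprime_five {m : ℕ} (hm : Nat.card Fˣ = m) (h : ¬ 5 ∣ m) (c : Fˣ) : ∃ d : Fˣ, d ^ 5 = c :=
  have hcop : (Nat.card Fˣ).Coprime 5 := by
    rw [hm, Nat.coprime_comm, Nat.prime_five.coprime_iff_not_dvd]; exact h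
  ⟨(powCoprime hcop).symm c, (powCoprime hcop).apply_symm_apply c⟩

end Cfsg.Agent.C6Dim4
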