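import Cfsg.Agent.C6Dim4.Tools
import Cfsg.Agent.Lib.GLSemisimple.Unitary
import Cfsg.Agent.Forms59.Hilbert90
import Cfsg.Prelude.Def_LieClassical

/-!
Elements of prime order of `SU₄(p)` and the normaliser of a subgroup `2⁶` of symplectic type.
-/

set_option autoImplicit false
set_option linter.unusedSectionVars false
set_option linter.style.haveILetI false

open Polynomial Matrix

namespace Cfsg.Agent.C6Dim4

variable {F : Type*} [Field F] [Fintype F] [StarRing F] {p : ℕ} [Fact p.Prime] [CharP F p]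
  {R : Subgroup (GL (Fin 4) F)}

local notation "M₄" => Matrix (Fin 4) (Fin 4) F

theorem mem_su (hs : ∀ x : F, star x = x ^ p) {g : GL (Fin 4) F} :
    g ∈ Cfsg.GU 4 F p ⊓ Geo.specialLinear (Fin 4) F ↔ (g : M₄)ᴴ * (g : M₄) = 1 ∧ (g : M₄).det = 1 := by
  rw [Subgroup.mem_inf, Forms59.mem_GU_iff_conjTranspose hs,
    show g ∈ Geo.specialLinear (Fin 4) F ↔ Matrix.GeneralLinearGroup.det g = 1 from MonoidHom.mem_ker, Units.ext_iff]
  simp

/-- The similitudes. -/
def simU (F : Type*) [Field F] [StarRing F] : Submonoid (GL (Fin 4) F) where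
  carrier := {g | ∃ μ : F, (g : Matrix (Fin 4) (Fin 4) F)ᴴ * (g : Matrix (Fin 4) (Fin 4) F) = μ • 1}
  one_mem' := ⟨1, by simp⟩
  mul_mem' := by
    rintro a b ⟨μ, hμ⟩ ⟨ν, hν⟩
    refine ⟨μ * ν, ?_⟩
    rw [Units.val_mul, conjTranspose_mul, mul_assoc, ← mul_assoc (a : Matrix (Fin 4) (Fin 4) F)ᴴ, hμ, Matrix.smul_mul,
      one_mul, Matrix.mul_smul, hν, smul_smul]

theorem ga_gram (hs : ∀ x : F, star x = x ^ p) (h2 : (2 : F) ≠ 0) (hRU : R ≤ Cfsg.GU 4 F p) {a : GL (Fin 4) F}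
    (haR : a ∈ R) (ha : a * a = -1) : (ga h2 a ha : M₄)ᴴ * (ga h2 a ha : M₄) = (2 : F) • 1 := by
  have h := (Forms59.mem_GU_iff_conjTranspose hs a).1 (hRU haR)
  have ha' : (a : M₄) * (a : M₄) = -1 := by rw [← Units.val_mul, ha, Units.val_neg, Units.val_one]
  have h1 : (a : M₄)ᴴ = -(a : M₄) := by
    have e := congrArg (fun M : M₄ => M * (a : M₄)) h
    simp only [mul_assoc, ha', mul_neg, mul_one, one_mul] at e
    exact neg_eq_iff_eq_neg.1 e
  rw [coe_ga, conjTranspose_add, conjTranspose_one, h1]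
  simp only [add_mul, mul_add, one_mul, mul_one, neg_mul, ha', neg_neg]
  rw [two_smul]
  abel

theorem star_two : star (2 : F) = 2 := by simpa using map_ofNat (starRingEnd F) 2

theorem scU_gram (c : Fˣ) : (scU (Fin 4) c : M₄)ᴴ * (scU (Fin 4) c : M₄) = (star (c : F) * c) • 1 := by
  rw [coe_scU, conjTranspose_smul, conjTranspose_one, Matrix.smul_mul, one_mul, smul_smul]

theorem three_mem (hs : ∀ x : F, star x = x ^ p) (h2 : (2 : F) ≠ 0) (hRU : R ≤ Cfsg.GU 4 F p) {a b : GL (Fin 4) F}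
    (haR : a ∈ R) (hbR : b ∈ R) (ha : a * a = -1) (hb : b * b = -1) :
    scU (Fin 4) (Units.mk0 (-(2 : F)⁻¹) (neg_ne_zero.2 (inv_ne_zero h2))) * ga h2 a ha * ga h2 b hb ∈
      Cfsg.GU 4 F p := by
  rw [Forms59.mem_GU_iff_conjTranspose hs]
  have e1 := scU_gram (F := F) (Units.mk0 (-(2 : F)⁻¹) (neg_ne_zero.2 (inv_ne_zero h2)))
  have e2 := ga_gram hs h2 hRU haR ha
  have e3 := ga_gram hs h2 hRU hbR hb
  simp only [Units.val_mul, conjTranspose_mul]
  calc _ = (ga h2 b hb : M₄)ᴴ * ((ga h2 a ha : M₄)ᴴ *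
        ((scU (Fin 4) (Units.mk0 (-(2 : F)⁻¹) (neg_ne_zero.2 (inv_ne_zero h2))) : M₄)ᴴ *
          (scU (Fin 4) (Units.mk0 (-(2 : F)⁻¹) (neg_ne_zero.2 (inv_ne_zero h2))) : M₄)) * (ga h2 a ha : M₄)) *
        (ga h2 b hb : M₄) := by simp only [mul_assoc]
    _ = 1 := by
      rw [e1, Matrix.mul_smul, mul_one, Matrix.smul_mul, e2, smul_smul, Matrix.mul_smul, mul_one, Matrix.smul_mul, e3,
        smul_smul, Units.val_mk0, star_neg, star_inv₀, star_two,
        show -(2 : F)⁻¹ * -(2 : F)⁻¹ * 2 * 2 = 1 by field_simp, one_smul]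

theorem smul_one_inj {a b : F} (h : a • (1 : M₄) = b • 1) : a = b :=
  smul_left_injective F (one_ne_zero (α := M₄)) h

theorem su_conj (θ : F) (hθ : star θ ≠ θ) (hs : ∀ x : F, star x = x ^ p) {N : ℕ} (hN : (N : F) ≠ 0)
    {y h : GL (Fin 4) F} (hyU : y ∈ Cfsg.GU 4 F p) (hhU : h ∈ Cfsg.GU 4 F p) (hy : y ^ N = 1) (hh : h ^ N = 1)
    (hc : (y : M₄).charpoly = (h : M₄).charpoly) :
    ∃ g ∈ Cfsg.GU 4 F p ⊓ Geo.specialLinear (Fin 4) F, g⁻¹ * y * g = h := by
  have hyU' := (Forms59.mem_GU_iff_conjTranspose hs y).1 hyU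
  have hyN : (y : M₄) ^ N = 1 := by rw [← Units.val_pow_eq_pow_val, hy, Units.val_one]
  obtain ⟨Y, hY, hYy⟩ := GLSemi.exists_unitary_conj_of_charpoly θ hθ hN hyU'
    ((Forms59.mem_GU_iff_conjTranspose hs h).1 hhU) hyN (by rw [← Units.val_pow_eq_pow_val, hh, Units.val_one]) hc
  have hd : star Y.det * Y.det = 1 := by
    have := congrArg Matrix.det hY
    rwa [Matrix.det_mul, Matrix.det_conjTranspose, Matrix.det_one] at this
  obtain ⟨Z, hZ, hZy, hZd⟩ := GLSemi.exists_unitary_commute_det θ hθ (by norm_num : 0 < 4) hN hyU' hyN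
    (δ := star Y.det) (by rw [star_star]; exact hd)
  have hdet : (Y * Z).det = 1 := by rw [Matrix.det_mul, hZd, mul_comm, hd]
  set G := Matrix.GeneralLinearGroup.mkOfDetNeZero (Y * Z) (by rw [hdet]; exact one_ne_zero) with hG
  refine ⟨G⁻¹, inv_mem ((mem_su hs).2 ⟨?_, hdet⟩), ?_⟩
  · show (Y * Z)ᴴ * (Y * Z) = 1
    rw [conjTranspose_mul, mul_assoc, ← mul_assoc Yᴴ, hY, one_mul, hZ]
  · rw [inv_inv, mul_inv_eq_iff_eq_mul]
    refine Units.ext ?_
    show Y * Z * (y : M₄) = (h : M₄) * (Y * Z)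
    rw [mul_assoc, hZy, ← mul_assoc, hYy, mul_assoc]

theorem gram_pow {g : GL (Fin 4) F} {μ : F} (h : (g : M₄)ᴴ * (g : M₄) = μ • 1) (k : ℕ) :
    ((g ^ k : GL (Fin 4) F) : M₄)ᴴ * ((g ^ k : GL (Fin 4) F) : M₄) = μ ^ k • 1 := by
  induction k with
  | zero => simp
  | succ k ih =>
    rw [pow_succ, Units.val_mul, conjTranspose_mul, mul_assoc, ← mul_assoc ((g ^ k : GL (Fin 4) F) : M₄)ᴴ, ih,
      Matrix.smul_mul, one_mul, Matrix.mul_smul, h, smul_smul, pow_succ]

theorem unitary_two (hF : Fintype.card F = p ^ 2) (hp4 : p % 4 = 3) (θ : F) (hθ : star θ ≠ θ)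
    (hs : ∀ x : F, star x = x ^ p) (Φ : Frame R) (hRU : R ≤ Cfsg.GU 4 F p) {i₀ : GL (Fin 4) F} (hiR : i₀ ∈ R)
    (hi : i₀ * i₀ = -1) (his : IsSc i₀) {x : GL (Fin 4) F} (hx : x ∈ Cfsg.GU 4 F p ⊓ Geo.specialLinear (Fin 4) F)
    (hsc : IsSc (x ^ 2)) (hns : ¬ IsSc x) :
    ∃ g ∈ Cfsg.GU 4 F p ⊓ Geo.specialLinear (Fin 4) F, g⁻¹ * x * g ∈ Geo.subgroupNormalizer R := by
  have hp : p ≠ 2 := by omega
  have h2 : (2 : F) ≠ 0 := two_ne hp
  obtain ⟨hxu, hdx⟩ := (mem_su hs).1 hx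
  obtain ⟨z, hz⟩ := isSc_iff.1 hsc
  have hz4 : (z : F) ^ 4 = 1 := by
    have := congrArg (fun g : GL (Fin 4) F => (g : M₄).det) hz
    simpa [det_scU, hdx] using this.symm
  obtain ⟨w₀, hw₀⟩ : IsSquare (z : F) := by
    refine (FiniteField.isSquare_iff (by rw [ringChar.eq F p]; exact hp) z.ne_zero).2 ?_
    obtain ⟨j, hj⟩ : ∃ j, p = 4 * j + 3 := ⟨p / 4, by omega⟩
    rw [hF, show p ^ 2 / 2 = 4 * (2 * j * j + 3 * j + 1) by
      rw [hj, show (4 * j + 3) ^ 2 = 2 * (4 * (2 * j * j + 3 * j + 1)) + 1 by ring]; omega, pow_mul, hz4, one_pow]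
  have hw0 : w₀ ≠ 0 := fun e => z.ne_zero (by rw [hw₀, e, mul_zero])
  obtain ⟨w, rfl⟩ : ∃ w : Fˣ, z = w * w := ⟨Units.mk0 w₀ hw0, Units.ext (by simp [hw₀])⟩
  have hws : IsSc (scU (Fin 4) w) := isSc_scU w
  set y := x * (scU (Fin 4) w)⁻¹ with hyd
  have hyy : y * y = 1 := by
    rw [← pow_two, hyd, (show Commute x (scU (Fin 4) w)⁻¹ from (hws.inv.comm x).symm).mul_pow, hz, inv_pow, scU_pow,
      pow_two, mul_inv_cancel]
  have hyn : ¬ IsSc y := fun h => hns (by simpa [hyd] using h.mul hws)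
  have e : y * scU (Fin 4) w = x := inv_mul_cancel_right x _
  have hdy : (y : M₄).det * (w : F) ^ 4 = 1 := by
    have := congrArg (fun g : GL (Fin 4) F => (g : M₄).det) e
    simpa only [Units.val_mul, Matrix.det_mul, det_scU, hdx, Fintype.card_fin] using this
  set μ := (star (w : F) * w)⁻¹ with hμd
  have hgy : (y : M₄)ᴴ * (y : M₄) = μ • 1 := by
    have h := hxu
    rw [← e, Units.val_mul, conjTranspose_mul, coe_scU, conjTranspose_smul, conjTranspose_one] at h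
    simp only [Matrix.smul_mul, Matrix.mul_smul, one_mul, mul_one, smul_smul] at h
    rw [hμd, ← h, smul_smul, show (star (w : F) * w)⁻¹ * ((w : F) * star (w : F)) = 1 from ?_, one_smul]
    rw [mul_comm (w : F)]
    exact inv_mul_cancel₀ (mul_ne_zero (star_ne_zero.2 w.ne_zero) w.ne_zero)
  suffices ∃ h, h ∈ Cfsg.GU 4 F p ∧ h ∈ Geo.subgroupNormalizer R ∧ h * h = 1 ∧ ¬ IsSc h ∧ μ = 1 ∧
      (y : M₄).trace = (h : M₄).trace by
    obtain ⟨h, hhU, hhN, hhh, hhn, hμ1, hht⟩ := this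
    have hyU : y ∈ Cfsg.GU 4 F p := (Forms59.mem_GU_iff_conjTranspose hs y).2 (by rw [hgy, hμ1, one_smul])
    obtain ⟨g, hg, hgy'⟩ := su_conj θ hθ hs (N := 2) (by exact_mod_cast h2) hyU hhU (by rw [pow_two, hyy])
      (by rw [pow_two, hhh]) (invol_charpoly hp (Fintype.card_fin 4) hyy hyn hhh hhn hht)
    exact ⟨g, hg, mem_of_conj hws hhN hgy'⟩
  rcases invol_cases hp (Fintype.card_fin 4) hyy hyn with ⟨hd, ht⟩ | ⟨-, ht⟩
  · obtain ⟨hN, hn, h0⟩ := gamma_facts Φ 0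
    refine ⟨Φ.γ 0, hRU (Φ.mem 0), hN, Φ.sq 0, hn, ?_, ht.trans h0.symm⟩
    rw [hd, one_mul] at hdy
    rw [hμd, hs, ← pow_succ, show p + 1 = 4 * ((p + 1) / 4) by omega, pow_mul, hdy, one_pow, inv_one]
  · have hμ1 : μ = 1 := by
      have hyy' : (y : M₄) * (y : M₄) = 1 := by rw [← Units.val_mul, hyy, Units.val_one]
      have h := congrArg (fun M : M₄ => (M * (y : M₄)).trace) hgy
      simp only [mul_assoc, hyy', mul_one, Matrix.trace_conjTranspose, Matrix.smul_mul, one_mul, Matrix.trace_smul,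
        smul_eq_mul] at h
      rcases ht with ht | ht <;> rw [ht] at h <;> simp only [star_neg, star_two] at h
      · exact mul_right_cancel₀ h2 (h.symm.trans (one_mul _).symm)
      · exact mul_right_cancel₀ (neg_ne_zero.2 h2) (h.symm.trans (one_mul _).symm)
    obtain ⟨g, ⟨ν, hν⟩, hgN, hgg, hgn, hgt⟩ := Φ.exists_refl (simU F) (fun c => ⟨_, scU_gram c⟩)
      (fun a haR ha => ⟨_, ga_gram hs Φ.h2 hRU haR ha⟩) i₀ hiR hi his
    have hν1 : ν = 1 := by
      have hgg' : (g : M₄) * (g : M₄) = 1 := by rw [← Units.val_mul, hgg, Units.val_one]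
      have h := congrArg (fun M : M₄ => (M * (g : M₄)).trace) hν
      simp only [mul_assoc, hgg', mul_one, Matrix.trace_conjTranspose, Matrix.smul_mul, one_mul, Matrix.trace_smul,
        smul_eq_mul, hgt, star_two] at h
      exact mul_right_cancel₀ h2 (h.symm.trans (one_mul _).symm)
    have hgU : g ∈ Cfsg.GU 4 F p := (Forms59.mem_GU_iff_conjTranspose hs g).2 (by rw [hν, hν1, one_smul])
    rcases ht with ht | ht
    · exact ⟨g, hgU, hgN, hgg, hgn, hμ1, ht.trans hgt.symm⟩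
    · refine ⟨-g, ?_, ?_, by rw [neg_mul_neg, hgg], fun h => hgn (by simpa using h.neg), hμ1,
        by rw [ht, Units.val_neg, Matrix.trace_neg, hgt]⟩
      · rw [Forms59.mem_GU_iff_conjTranspose hs, Units.val_neg, conjTranspose_neg, neg_mul_neg]
        exact (Forms59.mem_GU_iff_conjTranspose hs g).1 hgU
      · rw [← neg_one_mul]
        exact mul_mem (sc_mem_normalizer isSc_neg_one) hgN

theorem unitary_three (hp4 : p % 4 = 3) (h3 : p % 3 = 1) (θ : F) (hθ : star θ ≠ θ) (hs : ∀ x : F, star x = x ^ p)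
    (Φ : Frame R) (hRU : R ≤ Cfsg.GU 4 F p) {i₀ : GL (Fin 4) F} (hiR : i₀ ∈ R) (hi : i₀ * i₀ = -1) (his : IsSc i₀)
    {y : GL (Fin 4) F} (hyU : y ∈ Cfsg.GU 4 F p) (hy : y ^ 3 = 1) (hns : ¬ IsSc y) :
    ∃ g ∈ Cfsg.GU 4 F p ⊓ Geo.specialLinear (Fin 4) F, g⁻¹ * y * g ∈ Geo.subgroupNormalizer R := by
  haveI : Fact (Nat.Prime 3) := ⟨Nat.prime_three⟩
  have hp3 : p ≠ 3 := by omega
  have h3F : ((3 : ℕ) : F) ≠ 0 := nat_ne hp3.symm
  have h3F' : (3 : F) ≠ 0 := by exact_mod_cast h3F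
  have data : ∀ g : GL (Fin 4) F, g ∈ Cfsg.GU 4 F p → g ^ 3 = 1 → (g : M₄) ≠ 1 →
      ∃ l : ℕ, 1 ≤ l ∧ l ≤ 2 ∧ (g : M₄).charpoly = (X - C 1) ^ (4 - 2 * l) * phi3 F ^ l ∧
        (g : M₄).trace = 4 - 3 * (l : F) := fun g hgU hg hg1 =>
    order_three_data (p := p) hp3 (Fintype.card_fin 4) (by rw [← Units.val_pow_eq_pow_val, hg, Units.val_one]) hg1
      (Or.inr ⟨starRingEnd F, fun ω hω => by
        have hω3 : ω ^ 3 = 1 := by linear_combination (ω - 1) * hω
        rw [starRingEnd_apply, hs, pow_eq_pow_mod p hω3, h3, pow_one],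
        GLSemi.dual_charpoly_of_unitary ((Forms59.mem_GU_iff_conjTranspose hs g).1 hgU)⟩)
  obtain ⟨⟨g1, g1S, g1N, g13, g1t⟩, ⟨g2, g2S, g2N, g23, g2t⟩⟩ :=
    Φ.exists_three (Cfsg.GU 4 F p).toSubmonoid (fun a haR b hbR ha hb => three_mem hs Φ.h2 hRU haR hbR ha hb)
      i₀ hiR hi his
  have key : ∀ g : GL (Fin 4) F, g ∈ Cfsg.GU 4 F p → g ^ 3 = 1 → ∀ l : ℕ, 1 ≤ l → l ≤ 2 →
      (g : M₄).trace = 4 - 3 * (l : F) → (g : M₄).charpoly = (X - C 1) ^ (4 - 2 * l) * phi3 F ^ l := by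
    intro g hgU hg l l1 l2 ht
    obtain ⟨m, m1, m2, hc, hm⟩ := data g hgU hg fun e => by
      rw [e, Matrix.trace_one, Fintype.card_fin] at ht
      have : ((l : ℕ) : F) = ((0 : ℕ) : F) := by
        push_cast at ht ⊢
        exact (mul_eq_zero.1 (show (3 : F) * l = 0 by linear_combination ht)).resolve_left h3F'
      have := nat_eq_of_cast (p := p) this (by omega) (by omega)
      omega
    have : ((l : ℕ) : F) = (m : F) := mul_left_cancel₀ h3F' (by linear_combination -(ht.symm.trans hm))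
    rw [hc, nat_eq_of_cast (p := p) this (by omega) (by omega)]
  obtain ⟨l, l1, l2, hc, -⟩ := data y hyU hy (mat_ne_of_not_sc hns).1
  obtain ⟨h, hhU, hhN, hh, hhc⟩ : ∃ h, h ∈ Cfsg.GU 4 F p ∧ h ∈ Geo.subgroupNormalizer R ∧ h ^ 3 = 1 ∧
      (h : M₄).charpoly = (X - C 1) ^ (4 - 2 * l) * phi3 F ^ l := by
    interval_cases l
    · exact ⟨g2, g2S, g2N, g23, key g2 g2S g23 1 le_rfl (by norm_num) (by rw [g2t]; norm_num)⟩
    · exact ⟨g1, g1S, g1N, g13, key g1 g1S g13 2 (by norm_num) le_rfl (by rw [g1t]; norm_num)⟩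
  obtain ⟨g, hg, e⟩ := su_conj θ hθ hs h3F hyU hhU hy hh (hc.trans hhc.symm)
  exact ⟨g, hg, e ▸ hhN⟩

theorem unitary_five (hF : Fintype.card F = p ^ 2) (h5 : p % 5 = 2 ∨ p % 5 = 3) (θ : F) (hθ : star θ ≠ θ)
    (hs : ∀ x : F, star x = x ^ p) (Φ : Frame R) (hRU : R ≤ Cfsg.GU 4 F p) {y : GL (Fin 4) F}
    (hyU : y ∈ Cfsg.GU 4 F p) (hy : y ^ 5 = 1) (hns : ¬ IsSc y) :
    ∃ g ∈ Cfsg.GU 4 F p ⊓ Geo.specialLinear (Fin 4) F, g⁻¹ * y * g ∈ Geo.subgroupNormalizer R := by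
  haveI : Fact (Nat.Prime 5) := ⟨Nat.prime_five⟩
  have h5F : ((5 : ℕ) : F) ≠ 0 := nat_ne (by omega)
  have h5F' : (5 : F) ≠ 0 := by exact_mod_cast h5F
  have hp2 := (Fact.out : p.Prime).two_le
  have hm : ¬ 5 ∣ p ^ 2 - 1 := by
    have hsq : p ^ 2 % 5 = 4 := by
      rw [Nat.pow_mod]; rcases h5 with h | h <;> rw [h]
    have : 1 ≤ p ^ 2 := Nat.one_le_pow _ _ (by omega)
    omega
  obtain ⟨h, ⟨μ, hμ⟩, hhN, hh, hhn⟩ := Φ.exists_five (simU F) (fun c => ⟨_, scU_gram c⟩)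
    (fun a haR ha => ⟨_, ga_gram hs Φ.h2 hRU haR ha⟩)
    (powers_coprime_five (by rw [Nat.card_units, Nat.card_eq_fintype_card, hF]) hm)
  have hhU : h ∈ Cfsg.GU 4 F p := by
    rw [Forms59.mem_GU_iff_conjTranspose hs, hμ]
    have hμ5 : μ ^ 5 = 1 := by
      have := gram_pow hμ 5
      rw [hh, Units.val_one, conjTranspose_one, one_mul] at this
      exact (smul_one_inj (this.symm.trans (one_smul F (1 : M₄)).symm))
    have hμσ : μ ^ p = μ := by
      have e := congrArg conjTranspose hμ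
      rw [conjTranspose_mul, conjTranspose_conjTranspose, hμ, conjTranspose_smul, conjTranspose_one, hs] at e
      exact (smul_one_inj e).symm
    have hμp : μ ^ (p - 1) = 1 := by
      have h0 : μ ≠ 0 := fun e => by simp [e] at hμ5
      refine mul_right_cancel₀ h0 ?_
      rw [← pow_succ, one_mul, show p - 1 + 1 = p by omega, hμσ]
    have hg : Nat.gcd 5 (p - 1) = 1 := (Nat.prime_five.coprime_iff_not_dvd).2 (by omega)
    have h1 : μ ^ Nat.gcd 5 (p - 1) = 1 := pow_gcd_eq_one.2 ⟨hμ5, hμp⟩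
    rw [hg, pow_one] at h1
    rw [h1, one_smul]
  obtain ⟨ν, hν, hν1⟩ := exists_root_five h5F'
  set φ := algebraMap F (AlgebraicClosure F)
  have data : ∀ g : GL (Fin 4) F, g ∈ Cfsg.GU 4 F p → g ^ 5 = 1 → ¬ IsSc g → (g : M₄).charpoly.map φ =
      (X - C ν) * (X - C (ν ^ 2)) * (X - C (ν ^ 3)) * (X - C (ν ^ 4)) := fun g hgU hg hgn => by
    refine charpoly_five φ (Fintype.card_fin 4) (by rw [← Units.val_pow_eq_pow_val, hg, Units.val_one])
      (mat_ne_of_not_sc hgn).1 h5F' (e := 4 * p) (by omega) (fun m hm hroot => ?_) hν hν1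
    have hm0 : m ≠ 0 := fun e => by simp [e] at hm
    rw [pow_mul, show m ^ 4 = m⁻¹ from eq_inv_of_mul_eq_one_left (by rw [← pow_succ, hm])]
    exact closed_dual φ (starRingEnd F) (fun a => by rw [starRingEnd_apply, hs])
      (GLSemi.charpoly_coeff_zero_ne g.isUnit)
      (GLSemi.dual_charpoly_of_unitary ((Forms59.mem_GU_iff_conjTranspose hs g).1 hgU)) m hm0 hroot
  obtain ⟨g, hg, e⟩ := su_conj θ hθ hs h5F hyU hhU hy hh
    (Polynomial.map_injective φ φ.injective ((data y hyU hy hns).trans (data h hhU hh hhn).symm))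
  exact ⟨g, hg, e ▸ hhN⟩

theorem unitary_bad (hF : Fintype.card F = p ^ 2) (hp4 : p % 4 = 3) (θ : F) (hθ : star θ ≠ θ)
    (hs : ∀ x : F, star x = x ^ p) (Φ : Frame R) {r : ℕ} [Fact r.Prime]
    (h : (r = 3 ∧ p % 3 ≠ 1) ∨ (r = 5 ∧ ¬ (p % 5 = 2 ∨ p % 5 = 3))) :
    ∃ x ∈ Cfsg.GU 4 F p ⊓ Geo.specialLinear (Fin 4) F, x ^ r = 1 ∧ ¬ IsSc x ∧
      ∀ g ∈ Cfsg.GU 4 F p ⊓ Geo.specialLinear (Fin 4) F, g⁻¹ * x * g ∉ Geo.subgroupNormalizer R := by
  have hp : p ≠ 2 := by omega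
  have h2 : (2 : F) ≠ 0 := two_ne hp
  have norm_sq : ∀ c : F, c ≠ 0 → star c = c → ∃ b : F, b * star b = c := fun c hc hfix => by
    obtain ⟨b, -, hb⟩ := Forms59.exists_norm_eq_finite (starRingEnd F) star_star θ
      (isUnit_iff_ne_zero.2 (sub_ne_zero.2 (Ne.symm hθ))) c (isUnit_iff_ne_zero.2 hc) hfix
    exact ⟨b, hb⟩
  suffices ∃ x : GL (Fin 4) F, (x : M₄)ᴴ * (x : M₄) = 1 ∧ (x : M₄).det = 1 ∧ x ^ r = 1 ∧ ¬ IsSc x ∧
      (if r = 3 then 9 else 5) ≤ Module.finrank F (centr (x : M₄)) by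
    obtain ⟨x, hu, hd, hxr, hns, hc⟩ := this
    exact ⟨x, (mem_su hs).2 ⟨hu, hd⟩, hxr, hns,
      fun g _ hN => no_fix Φ (by omega) (by rw [hxr]; exact isSc_one) hns hc hN⟩
  rcases h with ⟨rfl, h3⟩ | ⟨rfl, h5⟩
  · rw [if_pos rfl]
    obtain ⟨a, b, c, hc, M, hM, h3M, hMu, hdM, hnM⟩ : ∃ (a : F) (b c : Fin 4 → F), b ≠ 0 ∧ ∃ M : M₄,
        M = a • 1 + vecMulVec b c ∧ M ^ 3 = 1 ∧ Mᴴ * M = 1 ∧ M.det = 1 ∧ ∀ k : F, M ≠ k • 1 := by
      by_cases h0 : p % 3 = 0
      · obtain rfl : 3 = p :=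
          (Nat.prime_dvd_prime_iff_eq Nat.prime_three (Fact.out : p.Prime)).1 (Nat.dvd_of_mod_eq_zero h0)
        have h30 : (3 : F) = 0 := by exact_mod_cast CharP.cast_eq_zero F 3
        obtain ⟨a, ha⟩ := norm_sq (-1) (neg_ne_zero.2 one_ne_zero) (by rw [star_neg, star_one])
        set d := θ - star θ with hd
        have hd0 : d ≠ 0 := sub_ne_zero.2 (Ne.symm hθ)
        have hds : star d = -d := by rw [hd, star_sub, star_star, neg_sub]
        set v : Fin 4 → F := ![1, a, 0, 0] with hv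
        set K : M₄ := vecMulVec v (star v) with hK
        have hvv : star v ⬝ᵥ v = 0 := by
          simp [hv, dotProduct, Fin.sum_univ_four, mul_comm (star a) a, ha]
        have hKK : K * K = 0 := by rw [hK, vecMulVec_mul_vecMulVec, hvv, zero_smul, vecMulVec_zero]
        have hKH : Kᴴ = K := by rw [hK, conjTranspose_vecMulVec, star_star]
        refine ⟨1, d • v, star v, fun e => hd0 (by simpa [hv] using congrFun e 0), 1 + d • K, ?_, ?_, ?_, ?_,
          fun k hk => ?_⟩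
        · rw [one_smul, hK, smul_vecMulVec]
        · rw [show (1 + d • K) ^ 3 = 1 + (3 * d) • K by
            simp only [pow_succ, pow_zero, one_mul, add_mul, mul_add, mul_one, Matrix.smul_mul, Matrix.mul_smul, hKK,
              smul_zero, zero_mul, mul_zero, add_zero]
            module, h30, zero_mul, zero_smul, add_zero]
        · rw [conjTranspose_add, conjTranspose_one, conjTranspose_smul, hKH, hds]
          simp [add_mul, mul_add, hKK, smul_smul]
        · rw [hK, ← smul_vecMulVec, vecMulVec_eq (ι := Unit), det_one_add_replicateCol_mul_replicateRow, dotProduct_smul,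
            hvv, smul_zero, add_zero]
        · have := congrFun (congrFun hk 1) 0
          simp [hK, hv, vecMulVec, hd0] at this
          rw [this, zero_mul] at ha
          exact neg_ne_zero.2 one_ne_zero ha.symm
      · have h1 : p % 3 = 2 := by omega
        have h3d : 3 ∣ Nat.card Fˣ := by
          rw [Nat.card_units, Nat.card_eq_fintype_card, hF]
          have : p ^ 2 % 3 = 1 := by rw [Nat.pow_mod, h1]
          omega
        obtain ⟨ω, hω⟩ := exists_prime_orderOf_dvd_card' 3 h3d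
        have hω3 : (ω : F) ^ 3 = 1 := by
          rw [← Units.val_pow_eq_pow_val, ← hω, pow_orderOf_eq_one, Units.val_one]
        have hω1 : (ω : F) ≠ 1 := fun e => by
          rw [show ω = 1 from Units.ext e, orderOf_one] at hω
          exact absurd hω (by decide)
        have hN : star (ω : F) * ω = 1 := by
          rw [hs, ← pow_succ, pow_eq_pow_mod (p + 1) hω3, show (p + 1) % 3 = 0 by omega, pow_zero]
        refine ⟨ω, Pi.single 0 1, Pi.single 0 (1 - (ω : F)), fun e => by simpa using congrFun e 0,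
          Matrix.diagonal ![1, (ω : F), ω, ω], ?_, ?_, ?_, ?_, fun k hk => ?_⟩
        · ext i j
          fin_cases i <;> fin_cases j <;> simp [vecMulVec]
        · rw [diagonal_pow, ← diagonal_one]
          congr 1
          funext i
          fin_cases i <;> simp [hω3]
        · rw [diagonal_conjTranspose, diagonal_mul_diagonal, ← diagonal_one]
          congr 1
          funext i
          fin_cases i <;> simp [hN]
        · rw [det_diagonal, Fin.prod_univ_four]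
          simp
          linear_combination hω3
        · have a0 := congrFun (congrFun hk 0) 0
          have a1 := congrFun (congrFun hk 1) 1
          simp at a0 a1
          exact hω1 (a1.trans a0.symm)
    refine ⟨Matrix.GeneralLinearGroup.mkOfDetNeZero M (by rw [hdM]; exact one_ne_zero), hMu, hdM, Units.ext ?_, ?_,
      nine_le_centr (Fintype.card_fin 4) a b c hc hM⟩
    · rw [Units.val_pow_eq_pow_val, Units.val_one]; exact h3M
    · rintro ⟨k, hk⟩
      exact hnM k hk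
  · rw [if_neg (by decide)]
    obtain ⟨t, ht, htp, hne⟩ := exists_t (F := F) hp (by omega)
    obtain ⟨t2, tn2⟩ := hne (by omega)
    have hts : star (t / 2) = t / 2 := by rw [star_div₀, hs t, htp, star_two]
    have hc : 1 - t / 2 * (t / 2) ≠ 0 := fun e => by
      have : (t - 2) * (t + 2) = 0 := by field_simp at e; linear_combination -e
      rcases mul_eq_zero.1 this with q | q
      · exact t2 (sub_eq_zero.1 q)
      · exact tn2 (by linear_combination q)
    obtain ⟨b, hb⟩ := norm_sq _ hc (by rw [star_sub, star_one, star_mul', hts])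
    set A : Matrix (Fin 2) (Fin 2) F := !![t / 2, b; -star b, t / 2] with hA
    have hAA : A * A = t • A - 1 := by
      ext i j
      fin_cases i <;> fin_cases j <;> simp [hA, Matrix.mul_apply, Fin.sum_univ_two] <;>
        first
          | (field_simp; ring1)
          | (field_simp at hb ⊢; linear_combination -hb)
    have hAd : A.det = 1 := by rw [hA, det_fin_two_of]; linear_combination hb
    have hAn : ∀ k : F, A ≠ k • 1 := fun k e => by
      have := congrFun (congrFun e 0) 1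
      simp [hA] at this
      rw [this, zero_mul] at hb
      exact hc hb.symm
    have hAu : Aᴴ * A = 1 := by
      ext i j
      fin_cases i <;> fin_cases j <;> simp [hA, Matrix.mul_apply, Fin.sum_univ_two, hts] <;>
        first
          | ring1
          | linear_combination hb
    obtain ⟨x, hx, hx5, hxd, hxn⟩ := block_facts finSumFinEquiv (quad_five hAA ht) hAd hAn
    refine ⟨x, ?_, hxd, hx5, hxn, hx ▸ five_le_centr _ _⟩
    rw [hx, Matrix.reindexAlgEquiv_apply, Matrix.conjTranspose_reindex, fromBlocks_conjTranspose,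
      ← Matrix.reindexAlgEquiv_apply F, ← Matrix.reindexAlgEquiv_apply F, ← map_mul, fromBlocks_multiply]
    simp [hAu, fromBlocks_one]

end Cfsg.Agent.C6Dim4
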